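/-
Two-transitive groups of degree `q ^ 3 + 1` with a regular normal subgroup of the point stabiliser and a cyclic two
point stabiliser of order `(q ^ 2 - 1) / d`: the set-up and the fixed point sets.
-/
import Mathlib

set_option autoImplicit false
set_option linter.style.haveILetI false
set_option linter.unusedSectionVars false

namespace CfsgLib.U3Odd

open MulAction
open scoped Pointwise

variable {G Ω : Type*} [Group G] [MulAction G Ω]

/-- The set-up: `q = p ^ n`. -/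
structure Setting (G Ω : Type*) [Group G] [MulAction G Ω] (p n d : ℕ) where
  /-- The point fixed by `U`. -/
  a : Ω
  /-- The second point. -/
  b : Ω
  /-- The regular normal subgroup of the point stabiliser. -/
  U : Subgroup G
  /-- The two point stabiliser. -/
  H : Subgroup G
  prime : p.Prime
  p_ne : p ≠ 2
  n_pos : 0 < n
  d_eq : d = Nat.gcd 3 (p ^ n + 1)
  ab : a ≠ b
  two : ∀ x y x' y' : Ω, x ≠ y → x' ≠ y' → ∃ g : G, g • x = x' ∧ g • y = y'
  U_fix : ∀ u ∈ U, u • a = a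
  U_conj : ∀ g : G, g • a = a → ∀ u ∈ U, g * u * g⁻¹ ∈ U
  U_trans : ∀ x : Ω, x ≠ a → ∃ u ∈ U, u • b = x
  U_free : ∀ u ∈ U, u • b = b → u = 1
  mem_H : ∀ g : G, g ∈ H ↔ g • a = a ∧ g • b = b
  H_cyclic : IsCyclic H
  card_U : Nat.card U = p ^ (3 * n)
  card_H : d * Nat.card H = p ^ (2 * n) - 1

/-- In a cyclic group, an element of no larger order is a power. -/
lemma mem_zpowers_of_orderOf_dvd {H : Subgroup G} [Finite G] (hH : IsCyclic H) {x y : G} (hx : x ∈ H) (hy : y ∈ H)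
    (h : orderOf y ∣ orderOf x) : y ∈ Subgroup.zpowers x := by
  obtain ⟨g, hg⟩ := hH.exists_generator
  obtain ⟨i, hi⟩ := Subgroup.mem_zpowers_iff.1 (hg ⟨x, hx⟩)
  classical
  letI := Fintype.ofFinite H
  haveI := hH
  have hcard : ∀ z : H, z ^ orderOf x = 1 → z ∈ Subgroup.zpowers (⟨x, hx⟩ : H) := by
    intro z hz
    have hle : (Finset.univ.filter fun w : H => w ^ orderOf x = 1).card ≤ orderOf x :=
      IsCyclic.card_pow_eq_one_le (orderOf_pos x)
    have hsub : (Finset.univ.filter fun w : H => w ∈ Subgroup.zpowers (⟨x, hx⟩ : H)) ⊆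
        Finset.univ.filter fun w : H => w ^ orderOf x = 1 := fun w hw => by
      simp only [Finset.mem_filter, Finset.mem_univ, true_and] at hw ⊢
      obtain ⟨k, rfl⟩ := Subgroup.mem_zpowers_iff.1 hw
      rw [← zpow_natCast, ← zpow_mul, mul_comm, zpow_mul, zpow_natCast, ← Subgroup.orderOf_mk x hx,
        pow_orderOf_eq_one, one_zpow]
    have hc : (Finset.univ.filter fun w : H => w ∈ Subgroup.zpowers (⟨x, hx⟩ : H)).card = orderOf x := by
      rw [← Fintype.card_subtype, Fintype.card_zpowers, Subgroup.orderOf_mk]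
    have he := Finset.eq_of_subset_of_card_le hsub (by rw [hc]; exact hle)
    have : z ∈ Finset.univ.filter fun w : H => w ^ orderOf x = 1 := by simp [hz]
    rw [← he] at this
    simpa using this
  have := hcard ⟨y, hy⟩ (Subtype.ext (by
    rw [SubmonoidClass.coe_pow, Subgroup.coe_one]
    exact orderOf_dvd_iff_pow_eq_one.1 h))
  obtain ⟨k, hk⟩ := Subgroup.mem_zpowers_iff.1 this
  exact Subgroup.mem_zpowers_iff.2 ⟨k, congrArg Subtype.val hk⟩

/-- Orbit counting on ordered pairs. -/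
lemma card_pairs [Finite G] [Finite Ω] {M H : Subgroup G} {X : Set Ω} {a b : Ω} (hab : a ≠ b) (ha : a ∈ X)
    (hb : b ∈ X) (hH : ∀ g : G, g ∈ H ↔ g • a = a ∧ g • b = b) (hHM : H ≤ M)
    (hinv : ∀ g ∈ M, ∀ x ∈ X, g • x ∈ X)
    (htr : ∀ x ∈ X, ∀ y ∈ X, x ≠ y → ∃ g ∈ M, g • a = x ∧ g • b = y) :
    Nat.card M = X.ncard * (X.ncard - 1) * Nat.card H := by
  classical
  letI := Fintype.ofFinite Ω
  have h1 := MulAction.index_stabilizer M ((a, b) : Ω × Ω)
  have h2 : MulAction.orbit M ((a, b) : Ω × Ω) = (X.toFinset.offDiag : Set (Ω × Ω)) := by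
    ext ⟨x, y⟩
    simp only [Finset.coe_offDiag, Set.coe_toFinset, Set.mem_offDiag]
    constructor
    · rintro ⟨g, hg⟩
      obtain ⟨hgx, hgy⟩ := Prod.ext_iff.1 hg
      simp only [Prod.smul_fst, Prod.smul_snd, Subgroup.smul_def] at hgx hgy
      exact ⟨hgx ▸ hinv g g.2 a ha, hgy ▸ hinv g g.2 b hb, fun e => hab (MulAction.injective (g : G)
        (hgx.trans (e.trans hgy.symm)))⟩
    · rintro ⟨hx, hy, hne⟩
      obtain ⟨g, hg, hga, hgb⟩ := htr x hx y hy hne
      exact ⟨⟨g, hg⟩, Prod.ext hga hgb⟩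
  have h3 : MulAction.stabilizer M ((a, b) : Ω × Ω) = H.subgroupOf M := by
    ext g
    rw [MulAction.mem_stabilizer_iff, Subgroup.mem_subgroupOf, hH, Prod.ext_iff]
    rfl
  have h4 := (MulAction.stabilizer M ((a, b) : Ω × Ω)).card_mul_index
  rw [h1, h2, Set.ncard_coe_finset, Finset.offDiag_card, h3,
    Nat.card_congr (Subgroup.subgroupOfEquivOfLe hHM).toEquiv] at h4
  rw [← h4, ← Set.ncard_eq_toFinset_card', ← Nat.mul_sub_one, mul_comm]

variable {p n d : ℕ}

namespace Setting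

variable (S : Setting G Ω p n d)
include S

/-- The centraliser in `U` of an element. -/
def CU (h : G) : Subgroup G := S.U ⊓ Subgroup.centralizer {h}

theorem mem_CU {h u : G} : u ∈ S.CU h ↔ u ∈ S.U ∧ u * h = h * u := by
  rw [CU, Subgroup.mem_inf, Subgroup.mem_centralizer_singleton_iff]

theorem two_le_q : 3 ≤ p ^ n := by
  have h2 := S.prime.two_le
  have hp := S.p_ne
  calc 3 ≤ p := by omega
    _ = p ^ 1 := (pow_one p).symm
    _ ≤ p ^ n := Nat.pow_le_pow_right S.prime.pos S.n_pos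

theorem d_cases : d = 1 ∨ d = 3 ∧ 3 ∣ p ^ n + 1 := by
  rcases (Nat.dvd_prime Nat.prime_three).1 (Nat.gcd_dvd_left 3 (p ^ n + 1)) with h | h
  · exact Or.inl (S.d_eq.trans h)
  · refine Or.inr ⟨S.d_eq.trans h, ?_⟩
    rw [← h]
    exact Nat.gcd_dvd_right 3 (p ^ n + 1)

theorem H_fix_a {h : G} (hh : h ∈ S.H) : h • S.a = S.a := ((S.mem_H h).1 hh).1

theorem H_fix_b {h : G} (hh : h ∈ S.H) : h • S.b = S.b := ((S.mem_H h).1 hh).2

theorem conj_U {h u : G} (hh : h ∈ S.H) (hu : u ∈ S.U) : h * u * h⁻¹ ∈ S.U := S.U_conj h (S.H_fix_a hh) u hu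

theorem H_comm {h k : G} (hh : h ∈ S.H) (hk : k ∈ S.H) : h * k = k * h := by
  haveI := S.H_cyclic
  letI : CommGroup S.H := IsCyclic.commGroup
  exact congrArg Subtype.val (mul_comm (⟨h, hh⟩ : S.H) ⟨k, hk⟩)

theorem U_eq {u v : G} (hu : u ∈ S.U) (hv : v ∈ S.U) (h : u • S.b = v • S.b) : u = v :=
  eq_of_inv_mul_eq_one (S.U_free _ (mul_mem (inv_mem hu) hv) (by rw [mul_smul, ← h, inv_smul_smul]))

theorem U_ne_a {u : G} (hu : u ∈ S.U) : u • S.b ≠ S.a := fun e =>
  S.ab (MulAction.injective u ((S.U_fix u hu).trans e.symm))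

theorem U_only_a {u : G} (hu : u ∈ S.U) (h1 : u ≠ 1) {x : Ω} (hx : u • x = x) : x = S.a := by
  by_contra hne
  obtain ⟨v, hv, rfl⟩ := S.U_trans x hne
  refine h1 ?_
  have := S.U_free (v⁻¹ * u * v) (mul_mem (mul_mem (inv_mem hv) hu) hv) (by
    rw [mul_smul, mul_smul, hx, inv_smul_smul])
  rwa [show v⁻¹ * u * v = v⁻¹ * u * (v⁻¹)⁻¹ by rw [inv_inv], conj_eq_one_iff] at this

theorem exists_mul {g : G} (hg : g • S.a = S.a) : ∃ u ∈ S.U, ∃ h ∈ S.H, g = u * h := by
  obtain ⟨u, hu, hub⟩ := S.U_trans (g • S.b) fun e => S.ab (MulAction.injective g (hg.trans e.symm))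
  refine ⟨u, hu, u⁻¹ * g, (S.mem_H _).2 ⟨?_, ?_⟩, (mul_inv_cancel_left u g).symm⟩
  · rw [mul_smul, hg, inv_smul_eq_iff, S.U_fix u hu]
  · rw [mul_smul, ← hub, inv_smul_smul]

theorem fix_U_iff {h u : G} (hh : h ∈ S.H) (hu : u ∈ S.U) : h • (u • S.b) = u • S.b ↔ u * h = h * u := by
  constructor
  · intro e
    have h1 := S.U_eq (S.conj_U hh hu) hu (by rw [mul_smul, mul_smul, inv_smul_eq_iff.2 (S.H_fix_b hh).symm, e])
    rw [mul_inv_eq_iff_eq_mul] at h1
    exact h1.symm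
  · intro e
    rw [← mul_smul, ← e, mul_smul, S.H_fix_b hh]

variable [Finite G] [Finite Ω]

theorem card_Omega : Nat.card Ω = p ^ (3 * n) + 1 := by
  classical
  letI := Fintype.ofFinite Ω
  rw [← S.card_U, Nat.card_congr (Equiv.optionSubtypeNe S.a).symm, Finite.card_option, add_left_inj]
  refine (Nat.card_eq_of_bijective (fun u : S.U => (⟨(u : G) • S.b, S.U_ne_a u.2⟩ : {x // x ≠ S.a}))
    ⟨fun u v e => Subtype.ext (S.U_eq u.2 v.2 (congrArg Subtype.val e)), fun ⟨x, hx⟩ => ?_⟩).symm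
  obtain ⟨u, hu, e⟩ := S.U_trans x hx
  exact ⟨⟨u, hu⟩, Subtype.ext e⟩

theorem card_fix {h : G} (hh : h ∈ S.H) : (fixedBy Ω h).ncard = Nat.card (S.CU h) + 1 := by
  classical
  have e : fixedBy Ω h = insert S.a ((fun u : G => u • S.b) '' (S.CU h : Set G)) := by
    ext x
    simp only [mem_fixedBy, Set.mem_insert_iff, Set.mem_image, SetLike.mem_coe]
    constructor
    · intro hx
      by_cases hxa : x = S.a
      · exact Or.inl hxa
      obtain ⟨u, hu, rfl⟩ := S.U_trans x hxa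
      exact Or.inr ⟨u, S.mem_CU.2 ⟨hu, (S.fix_U_iff hh hu).1 hx⟩, rfl⟩
    · rintro (rfl | ⟨u, hu, rfl⟩)
      · exact S.H_fix_a hh
      · exact (S.fix_U_iff hh (S.mem_CU.1 hu).1).2 (S.mem_CU.1 hu).2
  rw [e, Set.ncard_insert_of_notMem, Set.InjOn.ncard_image, ← Nat.card_coe_set_eq, SetLike.coe_sort_coe]
  · exact fun u hu v hv he => S.U_eq (S.mem_CU.1 hu).1 (S.mem_CU.1 hv).1 he
  · rintro ⟨u, hu, he⟩
    exact S.U_ne_a (S.mem_CU.1 hu).1 he

/-- An element of `H` is conjugate into `H` only inside the subgroup it generates. -/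
theorem conj_mem_zpowers {h g : G} (hh : h ∈ S.H) (hg : g * h * g⁻¹ ∈ S.H) :
    g * h * g⁻¹ ∈ Subgroup.zpowers h :=
  mem_zpowers_of_orderOf_dvd S.H_cyclic hh hg
    (by rw [show g * h * g⁻¹ = (MulAut.conj g).toMonoidHom h from rfl, orderOf_injective (MulAut.conj g).toMonoidHom
      (MulAut.conj g).injective h])

theorem normal_zpowers_conj {h g : G} (hh : h ∈ S.H) (hg : g * h * g⁻¹ ∈ S.H) :
    g ∈ Subgroup.normalizer (Subgroup.zpowers h : Set G) := by
  have hmap : (Subgroup.zpowers h).map (MulAut.conj g).toMonoidHom = Subgroup.zpowers h := by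
    refine Subgroup.eq_of_le_of_card_ge ?_ (by
      rw [Nat.card_congr (Subgroup.equivMapOfInjective _ _ (MulAut.conj g).injective).symm.toEquiv])
    rw [MonoidHom.map_zpowers, Subgroup.zpowers_le]
    exact S.conj_mem_zpowers hh hg
  refine Subgroup.mem_normalizer_iff.2 fun x => ⟨fun hx => ?_, fun hx => ?_⟩
  · exact hmap.le ⟨x, hx, rfl⟩
  · obtain ⟨y, hy, e⟩ := hmap.ge hx
    have e' : g * y * g⁻¹ = g * x * g⁻¹ := e
    rwa [← mul_left_cancel (mul_right_cancel e')]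

theorem H_le_normalizer (h : G) (hh : h ∈ S.H) : S.H ≤ Subgroup.normalizer (Subgroup.zpowers h : Set G) :=
  fun k hk => S.normal_zpowers_conj hh (by rw [S.H_comm hk hh, mul_inv_cancel_right]; exact hh)

/-- The order of the normaliser of a subgroup of `H`. -/
theorem card_normalizer {h : G} (hh : h ∈ S.H) :
    Nat.card (Subgroup.normalizer (Subgroup.zpowers h : Set G)) =
      (Nat.card (S.CU h) + 1) * Nat.card (S.CU h) * Nat.card S.H := by
  have e := card_pairs (M := Subgroup.normalizer (Subgroup.zpowers h : Set G)) (X := fixedBy Ω h) S.ab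
    (S.H_fix_a hh) (S.H_fix_b hh) S.mem_H (S.H_le_normalizer h hh) ?_ ?_
  · rw [e, S.card_fix hh, Nat.add_sub_cancel]
  · intro g hg x hx
    rw [mem_fixedBy] at hx ⊢
    obtain ⟨k, hk⟩ := Subgroup.mem_zpowers_iff.1
      ((Subgroup.mem_normalizer_iff''.1 hg h).1 (Subgroup.mem_zpowers h))
    rw [show h • g • x = g • ((g⁻¹ * h * g) • x) by rw [← mul_smul, ← mul_smul]; congr 1; group, ← hk]
    exact congrArg (g • ·) (mem_stabilizer_iff.1 (zpow_mem (mem_stabilizer_iff.2 hx) k))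
  · intro x hx y hy hxy
    obtain ⟨g, hga, hgb⟩ := S.two S.a S.b x y S.ab hxy
    refine ⟨g, ?_, hga, hgb⟩
    have hmem : g⁻¹ * h * g⁻¹⁻¹ ∈ S.H := (S.mem_H _).2
      ⟨by rw [inv_inv, mul_smul, mul_smul, hga, hx, ← hga, inv_smul_smul],
       by rw [inv_inv, mul_smul, mul_smul, hgb, hy, ← hgb, inv_smul_smul]⟩
    simpa using inv_mem (S.normal_zpowers_conj hh hmem)

/-- The order of the group. -/
theorem card_G : Nat.card G = (p ^ (3 * n) + 1) * p ^ (3 * n) * Nat.card S.H := by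
  have e := card_pairs (M := (⊤ : Subgroup G)) (X := (Set.univ : Set Ω)) S.ab trivial trivial S.mem_H le_top
    (fun _ _ _ _ => trivial)
    (fun x _ y _ hxy => (S.two S.a S.b x y S.ab hxy).imp fun g h => ⟨trivial, h⟩)
  rw [Subgroup.card_top, Set.ncard_univ, S.card_Omega, Nat.add_sub_cancel] at e
  exact e

/-- The divisibility condition on fixed point sets. -/
theorem fix_dvd {h : G} (hh : h ∈ S.H) :
    (Nat.card (S.CU h) + 1) * Nat.card (S.CU h) ∣ (p ^ (3 * n) + 1) * p ^ (3 * n) := by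
  have h1 := Subgroup.card_subgroup_dvd_card (Subgroup.normalizer (Subgroup.zpowers h : Set G))
  rw [S.card_normalizer hh, S.card_G] at h1
  exact Nat.dvd_of_mul_dvd_mul_right Nat.card_pos h1

theorem CU_pow (h : G) : ∃ j ≤ 3 * n, Nat.card (S.CU h) = p ^ j :=
  (Nat.dvd_prime_pow S.prime).1 (S.card_U ▸ Subgroup.card_dvd_of_le inf_le_left)

end Setting

end CfsgLib.U3Odd
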