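/-
The set-up from a strongly split (B, N)-pair of rank one.
-/
import Cfsg.Agent.U3Odd.Basic
import Cfsg.Agent.BN.Parabolic

set_option autoImplicit false
set_option linter.style.haveILetI false
set_option linter.unusedSectionVars false

namespace CfsgLib.U3Odd

open MulAction Subgroup

universe u

variable {G : Type u} [Group G] [Finite G]

/-- The set-up on the cosets of `B`. -/
theorem exists_setting [IsSimpleGroup G] (P : Cfsg.BNPair G) (h1 : P.rank = 1) {p n : ℕ} (hp : p.Prime) (hp2 : p ≠ 2)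
    (hn : 1 ≤ n) (U : Subgroup G) (hUB : U ≤ P.B) (hUn : ∀ b ∈ P.B, ∀ u ∈ U, b * u * b⁻¹ ∈ U)
    (hsplit : U ⊔ (P.B ⊓ P.N) = P.B) (hind : P.B.index = p ^ (3 * n) + 1) (hU : Nat.card U = p ^ (3 * n))
    (hHc : IsCyclic ↥(P.B ⊓ P.N))
    (hH : Nat.gcd 3 (p ^ n + 1) * Nat.card ↥(P.B ⊓ P.N) = p ^ (2 * n) - 1) :
    FaithfulSMul G (G ⧸ P.B) ∧ Nonempty (Setting G (G ⧸ P.B) p n (Nat.gcd 3 (p ^ n + 1))) := by
  classical
  obtain ⟨s, hs, hcover⟩ := CfsgLib.BN.rank_one_elems P h1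
  set B := P.B with hB
  set H := P.B ⊓ P.N with hHdef
  have hsB : s ∉ B := fun h => P.conj_ne s hs (Set.Subset.antisymm
    (by rintro _ ⟨x, hx, rfl⟩; exact mul_mem (mul_mem h hx) h)
    fun x hx => ⟨s⁻¹ * x * s⁻¹, mul_mem (mul_mem (inv_mem h) hx) (inv_mem h), by group⟩)
  have hHs : ∀ h ∈ H, s⁻¹ * h * s ∈ B := fun h hh => by
    simpa using P.conj_mem s⁻¹ (inv_mem (P.subset hs)) h hh
  have hdec : ∀ g ∈ B, ∃ u ∈ U, ∃ h ∈ H, g = u * h := by
    intro g hg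
    rw [← hsplit, sup_eq_closure] at hg
    refine closure_induction (p := fun g _ => ∃ u ∈ U, ∃ h ∈ H, g = u * h) ?_ ?_ ?_ ?_ hg
    · rintro g (hg | hg)
      exacts [⟨g, hg, 1, one_mem _, (mul_one g).symm⟩, ⟨1, one_mem _, g, hg, (one_mul g).symm⟩]
    · exact ⟨1, one_mem _, 1, one_mem _, (one_mul 1).symm⟩
    · rintro _ _ - - ⟨u, hu, h, hh, rfl⟩ ⟨u', hu', h', hh', rfl⟩
      exact ⟨u * (h * u' * h⁻¹), mul_mem hu (hUn h hh.1 u' hu'), h * h', mul_mem hh hh', by group⟩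
    · rintro _ - ⟨u, hu, h, hh, rfl⟩
      exact ⟨h⁻¹ * u⁻¹ * h⁻¹⁻¹, hUn _ (inv_mem hh.1) _ (inv_mem hu), h⁻¹, inv_mem hh, by group⟩
  have hout : ∀ g ∉ B, ∃ u ∈ U, ∃ c ∈ B, g = u * s * c := by
    intro g hg
    obtain ⟨x, hx, c, hc, rfl⟩ := (CfsgLib.BN.mem_cosetOf P).1 ((hcover g).resolve_left hg)
    obtain ⟨u, hu, h, hh, rfl⟩ := hdec x hx
    exact ⟨u, hu, s⁻¹ * h * s * c, mul_mem (hHs h hh) hc, by group⟩
  set a : G ⧸ B := ((1 : G) : G ⧸ B) with ha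
  set b : G ⧸ B := (s : G ⧸ B) with hb
  have smk : ∀ g x : G, g • (x : G ⧸ B) = ((g * x : G) : G ⧸ B) := fun g x => rfl
  have hfixa : ∀ g : G, g • a = a ↔ g ∈ B := fun g => by
    rw [ha, smk, mul_one, eq_comm, QuotientGroup.eq, inv_one, one_mul]
  have htrans : ∀ x : G ⧸ B, x ≠ a → ∃ u ∈ U, u • b = x := by
    intro x hx
    obtain ⟨g, rfl⟩ := QuotientGroup.mk_surjective x
    obtain ⟨u, hu, c, hc, rfl⟩ := hout g (fun hg => hx (by
      rw [ha, QuotientGroup.eq, mul_one]; exact inv_mem hg))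
    exact ⟨u, hu, by rw [hb, smk, QuotientGroup.eq, inv_mul_cancel_left]; exact hc⟩
  have htwo : ∀ {x y : G ⧸ B}, x ≠ y → ∃ g : G, g • a = x ∧ g • b = y := by
    intro x y hxy
    obtain ⟨g, rfl⟩ := QuotientGroup.mk_surjective x
    obtain ⟨k, rfl⟩ := QuotientGroup.mk_surjective y
    obtain ⟨u, hu, c, hc, he⟩ := hout (g⁻¹ * k) fun h => hxy (QuotientGroup.eq.2 h)
    refine ⟨g * u, ?_, ?_⟩
    · rw [ha, smk, mul_one, QuotientGroup.eq, show (g * u)⁻¹ * g = u⁻¹ by group]; exact inv_mem (hUB hu)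
    · rw [hb, smk, QuotientGroup.eq, show (g * u * s)⁻¹ * k = (u * s)⁻¹ * (g⁻¹ * k) by group, he,
        inv_mul_cancel_left]
      exact hc
  have hHfix : ∀ g ∈ H, g • a = a ∧ g • b = b := fun g hg => ⟨(hfixa g).2 hg.1, by
    rw [hb, smk, QuotientGroup.eq, mul_inv_rev, mul_assoc]
    simpa [mul_assoc] using hHs g⁻¹ (inv_mem hg)⟩
  have hab : a ≠ b := fun e => hsB (by simpa [ha, hb, QuotientGroup.eq] using e)
  have hne : ∀ u ∈ U, u • b ≠ a := fun u hu e => hab (MulAction.injective u (((hfixa u).2 (hUB hu)).trans e.symm))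
  let f : U → {x : G ⧸ B // x ≠ a} := fun u => ⟨(u : G) • b, hne u u.2⟩
  have hf : Function.Bijective f := by
    refine (Nat.bijective_iff_surjective_and_card f).2 ⟨fun x => ?_, ?_⟩
    · obtain ⟨u, hu, e⟩ := htrans x x.2
      exact ⟨⟨u, hu⟩, Subtype.ext e⟩
    · have hc : Nat.card (G ⧸ B) = p ^ (3 * n) + 1 := hind
      rw [Nat.card_congr (Equiv.optionSubtypeNe a).symm, Finite.card_option] at hc
      omega
  have hfree : ∀ u ∈ U, u • b = b → u = 1 := fun u hu e =>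
    congrArg Subtype.val (hf.1 (a₁ := (⟨u, hu⟩ : U)) (a₂ := 1) (Subtype.ext (by
      show u • b = ((1 : U) : G) • b
      rw [Subgroup.coe_one, one_smul, e])))
  have hfaith : FaithfulSMul G (G ⧸ B) := by
    have hk : (MulAction.toPermHom G (G ⧸ B)).ker = ⊥ :=
      (IsSimpleGroup.eq_bot_or_eq_top_of_normal _ inferInstance).resolve_right fun e => by
        have h := (MonoidHom.mem_ker).1 (e ▸ Subgroup.mem_top s : s ∈ (MulAction.toPermHom G (G ⧸ B)).ker)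
        exact hsB ((hfixa s).1 (by simpa using congrArg (fun σ : Equiv.Perm (G ⧸ B) => σ a) h))
    exact ⟨fun {g k} h => (MonoidHom.ker_eq_bot_iff _).1 hk (Equiv.ext h)⟩
  refine ⟨hfaith, ⟨{
    a := a
    b := b
    U := U
    H := H
    prime := hp
    p_ne := hp2
    n_pos := hn
    d_eq := rfl
    ab := hab
    two := ?_
    U_fix := fun u hu => (hfixa u).2 (hUB hu)
    U_conj := fun g hg u hu => hUn g ((hfixa g).1 hg) u hu
    U_trans := htrans
    U_free := hfree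
    mem_H := ?_
    H_cyclic := hHc
    card_U := hU
    card_H := hH }⟩⟩
  · intro x y x' y' hxy hxy'
    obtain ⟨g, hga, hgb⟩ := htwo hxy
    obtain ⟨k, hka, hkb⟩ := htwo hxy'
    refine ⟨k * g⁻¹, ?_, ?_⟩
    · rw [mul_smul, ← hga, inv_smul_smul, hka]
    · rw [mul_smul, ← hgb, inv_smul_smul, hkb]
  · intro g
    refine ⟨hHfix g, fun hg => ?_⟩
    obtain ⟨u, hu, h, hh, rfl⟩ := hdec g ((hfixa g).1 hg.1)
    have e := hg.2
    rw [mul_smul, (hHfix h hh).2] at e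
    rwa [hfree u hu e, one_mul]

end CfsgLib.U3Odd
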