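/-
`PSU₃(q)` from a chart: a faithful action on `q ^ 3 + 1` points generated by a group acting as the translations of
the model and an element acting as its Weyl element.
-/
import Cfsg.Agent.Recog.RankOneSuzuki.Model

set_option autoImplicit false
set_option linter.style.haveILetI false
set_option linter.unusedSectionVars false

namespace CfsgLib.U3Odd

open CfsgLib.SU3Pres CfsgLib.Forms CfsgLib.Unitary
open CfsgLib.Recog.RankOneSuzuki (Model.borel Model.unip)

universe u v

variable {F : Type} [Field F] [Fintype F] {q : ℕ} (hF : Nat.card F = q ^ 2)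
include hF

/-- The product of two parameters of translations. -/
def uMul (z w : UP F q) : UP F q :=
  ⟨(z.1.1 + w.1.1, z.1.2 + w.1.2 - z.1.1 * w.1.1 ^ q), vld_mul hF z.2 w.2⟩

/-- A translation of the model. -/
def uAct (z : UP F q) : Option (UP F q) → Option (UP F q)
  | none => none
  | some w => some (uMul hF z w)

open scoped Classical in
/-- The Weyl element of the model. -/
noncomputable def wAct : Option (UP F q) → Option (UP F q)
  | none => some ⟨(0, 0), vld_zero hF⟩
  | some w => if hb : w.1.2 = 0 then none else some ⟨(-w.1.1 / w.1.2 ^ q, w.1.2⁻¹), vld_left hF w.2 hb⟩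

theorem uP_mul (z w : UP F q) : uP hF z * uP hF w = uP hF (uMul hF z w) := uel_mul hF z.2 w.2

/-- The coset of a point. -/
def coset : Option (UP F q) → HU F q ⧸ Model.borel hF
  | none => ((1 : HU F q) : HU F q ⧸ Model.borel hF)
  | some z => ((uP hF z * wel hF : HU F q) : HU F q ⧸ Model.borel hF)

theorem mem_borel (z : UP F q) (k : Fˣ) : uP hF z * tel hF k ∈ Model.borel hF :=
  ⟨_, ⟨z, rfl⟩, k, rfl⟩

theorem uP_mem_borel (z : UP F q) : uP hF z ∈ Model.borel hF :=
  ⟨_, ⟨z, rfl⟩, 1, by rw [map_one, mul_one]⟩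

theorem tel_mem_borel (k : Fˣ) : tel hF k ∈ Model.borel hF :=
  ⟨1, one_mem _, k, (one_mul _).symm⟩

theorem coset_bijective : Function.Bijective (coset (F := F) (q := q) hF) := by
  have hw := wel_sq (q := q) hF
  have hwi : (wel (q := q) hF)⁻¹ = wel hF := inv_eq_of_mul_eq_one_right hw
  have hne : ∀ z : UP F q, coset hF (some z) ≠ coset hF none := fun z h => by
    have h1 := QuotientGroup.eq.1 h.symm
    rw [inv_one, one_mul] at h1
    have h2 := mul_mem (inv_mem (uP_mem_borel hF z)) h1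
    rw [inv_mul_cancel_left] at h2
    exact CfsgLib.Recog.RankOneSuzuki.Model.wel_not_mem hF h2
  refine ⟨fun o o' e => ?_, fun c => ?_⟩
  · rcases o with - | z <;> rcases o' with - | z'
    · rfl
    · exact absurd e.symm (hne z')
    · exact absurd e (hne z)
    · have h1 := QuotientGroup.eq.1 e
      rw [mul_inv_rev, hwi, show wel hF * (uP hF z)⁻¹ * (uP hF z' * wel hF) =
        wel hF * ((uP hF z)⁻¹ * uP hF z') * wel hF by group] at h1
      have h2 := CfsgLib.Recog.RankOneSuzuki.Model.unip_wel hF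
        (mul_mem (inv_mem ⟨z, rfl⟩) ⟨z', rfl⟩) h1
      obtain ⟨e1, e2⟩ := uel_injective hF (inv_mul_eq_one.1 h2)
      exact congrArg some (Subtype.ext (Prod.ext e1 e2))
  · induction c using QuotientGroup.induction_on with
    | H g =>
      obtain ⟨⟨z, k, o⟩, rfl⟩ := (cellFun_bijective hF).2 g
      rcases o with - | z'
      · exact ⟨none, QuotientGroup.eq.2 (by rw [inv_one, one_mul]; exact mem_borel hF z k)⟩
      · refine ⟨some z, QuotientGroup.eq.2 ?_⟩
        show (uP hF z * wel hF)⁻¹ * (uP hF z * tel hF k * wel hF * uP hF z') ∈ Model.borel hF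
        rw [show (uP hF z * wel hF)⁻¹ * (uP hF z * tel hF k * wel hF * uP hF z') =
          (wel hF)⁻¹ * tel hF k * ((wel hF)⁻¹)⁻¹ * ((wel hF)⁻¹ * wel hF) * uP hF z' by group,
          inv_mul_cancel, mul_one, hwi, wel_conj]
        exact mul_mem (tel_mem_borel hF _) (uP_mem_borel hF z')

theorem coset_uAct (z : UP F q) (o : Option (UP F q)) :
    uP hF z • coset hF o = coset hF (uAct hF z o) := by
  rcases o with - | w
  · show ((uP hF z * 1 : HU F q) : HU F q ⧸ Model.borel hF) = ((1 : HU F q) : HU F q ⧸ Model.borel hF)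
    refine QuotientGroup.eq.2 ?_
    rw [mul_one, mul_one]
    exact inv_mem (uP_mem_borel hF z)
  · show ((uP hF z * (uP hF w * wel hF) : HU F q) : HU F q ⧸ Model.borel hF) = _
    rw [← mul_assoc, uP_mul]
    rfl

theorem coset_wAct (o : Option (UP F q)) : wel hF • coset hF o = coset hF (wAct hF o) := by
  rcases o with - | w
  · show ((wel hF * 1 : HU F q) : HU F q ⧸ Model.borel hF) =
      ((uP hF ⟨(0, 0), vld_zero hF⟩ * wel hF : HU F q) : HU F q ⧸ Model.borel hF)
    rw [show uP hF (⟨(0, 0), vld_zero hF⟩ : UP F q) = 1 from uel_zero hF, one_mul, mul_one]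
  · show ((wel hF * (uP hF w * wel hF) : HU F q) : HU F q ⧸ Model.borel hF) = coset hF (wAct hF (some w))
    by_cases hb : w.1.2 = 0
    · have ha : w.1.1 = 0 := by
        by_contra ha
        exact vld_b_ne_zero hF w.2 ha hb
      rw [show wAct hF (some w) = none by rw [wAct, dif_pos hb]]
      show _ = ((1 : HU F q) : HU F q ⧸ Model.borel hF)
      refine QuotientGroup.eq.2 ?_
      rw [show uP hF w = 1 from (uel_congr hF w.2 (vld_zero hF) ha hb).trans (uel_zero hF), one_mul,
        wel_sq, inv_one, one_mul]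
      exact one_mem _
    · rw [show wAct hF (some w) = some ⟨(-w.1.1 / w.1.2 ^ q, w.1.2⁻¹), vld_left hF w.2 hb⟩ by
        rw [wAct, dif_neg hb]]
      refine QuotientGroup.eq.2 ?_
      rw [← mul_assoc (wel hF) (uP hF w), show wel hF * uP hF w * wel hF = _ from wel_uel_wel hF w.2 hb]
      set A := uP hF (⟨(-w.1.1 / w.1.2 ^ q, w.1.2⁻¹), vld_left hF w.2 hb⟩ : UP F q) with hA
      set T := tel hF (Units.mk0 (w.1.2 ^ q)⁻¹ (inv_ne_zero (pow_ne_zero q hb))) with hT
      set B := uel hF (-w.1.1 / w.1.2) w.1.2⁻¹ (vld_right hF w.2 hb) with hB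
      show (A * T * wel hF * B)⁻¹ * (A * wel hF) ∈ Model.borel hF
      rw [show (A * T * wel hF * B)⁻¹ * (A * wel hF) = B⁻¹ * ((wel hF)⁻¹ * T * wel hF)⁻¹ by group,
        show (wel hF)⁻¹ * T * wel hF = wel hF * T * (wel hF)⁻¹ by
          rw [inv_eq_of_mul_eq_one_right (wel_sq hF)], hT, wel_conj]
      exact mul_mem (inv_mem (uP_mem_borel hF ⟨(-w.1.1 / w.1.2, w.1.2⁻¹), vld_right hF w.2 hb⟩))
        (inv_mem (tel_mem_borel hF _))

/-- The model is generated by the translations and the Weyl element. -/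
theorem closure_unip_wel {K : Subgroup (HU F q)} (hu : ∀ z : UP F q, uP hF z ∈ K) (hw : wel hF ∈ K) :
    K = ⊤ := by
  refine closure_eq_top hF (fun a b h => hu ⟨(a, b), h⟩) (fun k => ?_) hw
  set b : F := ((k : F)⁻¹) ^ q with hbdef
  have hb : b ≠ 0 := pow_ne_zero q (inv_ne_zero k.ne_zero)
  have hfix : (-(b + b ^ q)) ^ q = -(b + b ^ q) := by
    rw [CfsgLib.SU3Pres.qneg hF, add_pow_q hF, pow_q_q hF, add_comm]
  obtain ⟨a, ha⟩ := exists_norm_eq hF hfix
  have hv : Vld q a b := by
    unfold Vld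
    rw [← pow_succ', ha, add_neg_cancel]
  have h := wel_uel_wel hF hv hb
  have hk : Units.mk0 (b ^ q)⁻¹ (inv_ne_zero (pow_ne_zero q hb)) = k := Units.ext (by
    rw [Units.val_mk0, hbdef, pow_q_q hF, inv_inv])
  rw [hk] at h
  have e : tel hF k = (uel hF _ _ (vld_left hF hv hb))⁻¹ * (wel hF * uel hF a b hv * wel hF) *
      (uel hF _ _ (vld_right hF hv hb))⁻¹ * (wel hF)⁻¹ := by rw [h]; group
  rw [e]
  exact mul_mem (mul_mem (mul_mem (inv_mem (hu ⟨(_, _), vld_left hF hv hb⟩))
    (mul_mem (mul_mem hw (hu ⟨(a, b), hv⟩)) hw)) (inv_mem (hu ⟨(_, _), vld_right hF hv hb⟩))) (inv_mem hw)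

omit hF

/-- A group with a chart onto the model is `PSU₃(q)`. -/
theorem iso_psu3_of_chart {G : Type u} {Ω : Type v} [Group G] [Finite G] [IsSimpleGroup G]
    [MulAction G Ω] [FaithfulSMul G Ω] (hF : Nat.card F = q ^ 2) (hq : 3 ≤ q)
    (pt : Option (UP F q) ≃ Ω) (U : Subgroup G) (n : G)
    (hgen : Subgroup.closure ((U : Set G) ∪ {n}) = ⊤)
    (hU : ∀ u ∈ U, ∃ z, ∀ o, u • pt o = pt (uAct hF z o))
    (hU' : ∀ z, ∃ u ∈ U, ∀ o, u • pt o = pt (uAct hF z o))
    (hn : ∀ o, n • pt o = pt (wAct hF o)) : Nonempty (G ≃* Cfsg.PSU 3 F q) := by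
  classical
  set B := Model.borel (F := F) (q := q) hF with hB
  let e0 : Option (UP F q) ≃ HU F q ⧸ B := Equiv.ofBijective _ (coset_bijective hF)
  let ρ : HU F q →* Equiv.Perm (Option (UP F q)) :=
    e0.symm.permCongrHom.toMonoidHom.comp (MulAction.toPermHom (HU F q) (HU F q ⧸ B))
  let σ : G →* Equiv.Perm (Option (UP F q)) :=
    pt.symm.permCongrHom.toMonoidHom.comp (MulAction.toPermHom G Ω)
  have hρ : ∀ g o, ρ g o = e0.symm (g • e0 o) := fun g o => rfl
  have hσ : ∀ g o, σ g o = pt.symm (g • pt o) := fun g o => rfl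
  have hσi : Function.Injective σ := pt.symm.permCongrHom.injective.comp MulAction.toPerm_injective
  have hρu : ∀ z o, ρ (uP hF z) o = uAct hF z o := fun z o => by
    rw [hρ, Equiv.symm_apply_eq]
    exact coset_uAct hF z o
  have hρw : ∀ o, ρ (wel hF) o = wAct hF o := fun o => by
    rw [hρ, Equiv.symm_apply_eq]
    exact coset_wAct hF o
  have hσu : ∀ {u : G} {z : UP F q}, (∀ o, u • pt o = pt (uAct hF z o)) → σ u = ρ (uP hF z) :=
    fun {u z} h => Equiv.ext fun o => by rw [hσ, h, Equiv.symm_apply_apply, hρu]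
  have hσn : σ n = ρ (wel hF) := Equiv.ext fun o => by rw [hσ, hn, Equiv.symm_apply_apply, hρw]
  have hrange : σ.range = ρ.range := by
    refine le_antisymm ?_ ?_
    · rw [MonoidHom.range_eq_map, ← hgen, MonoidHom.map_closure, Subgroup.closure_le]
      rintro _ ⟨x, hx, rfl⟩
      rcases hx with hx | hx
      · obtain ⟨z, hz⟩ := hU x hx
        exact ⟨_, (hσu hz).symm⟩
      · rw [Set.mem_singleton_iff] at hx
        exact ⟨_, by rw [hx, hσn]⟩
    · have htop : σ.range.comap ρ = ⊤ := closure_unip_wel hF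
        (fun z => by obtain ⟨u, -, hu⟩ := hU' z; exact ⟨u, hσu hu⟩) ⟨n, hσn⟩
      rintro _ ⟨x, rfl⟩
      exact Subgroup.mem_comap.1 (htop ▸ Subgroup.mem_top x)
  -- the kernel of the model
  obtain ⟨e⟩ := nonempty_equiv hF
  let π : HU F q →* Cfsg.PSU 3 F q :=
    (QuotientGroup.mk' (Subgroup.center (Cfsg.SU 3 F q))).comp e.toMonoidHom
  have hπs : Function.Surjective π := (QuotientGroup.mk'_surjective _).comp e.surjective
  have hπk : π.ker = Subgroup.center (HU F q) := by
    ext g
    show QuotientGroup.mk' (Subgroup.center (Cfsg.SU 3 F q)) (e g) = 1 ↔ _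
    rw [← MonoidHom.mem_ker, QuotientGroup.ker_mk', Subgroup.mem_center_iff, Subgroup.mem_center_iff]
    refine ⟨fun h y => e.injective (by rw [map_mul, map_mul, h]), fun h y => ?_⟩
    obtain ⟨y, rfl⟩ := e.surjective y
    rw [← map_mul, ← map_mul, h]
  have hcB : Subgroup.center (HU F q) ≤ B := CfsgLib.Recog.RankOneSuzuki.Model.center_le hF
  have hker : ρ.ker = Subgroup.center (HU F q) := by
    have hker1 : Subgroup.center (HU F q) ≤ ρ.ker := fun g hg => Equiv.ext fun o => by
      rw [hρ, Equiv.Perm.one_apply, Equiv.symm_apply_eq]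
      induction e0 o using QuotientGroup.induction_on with
      | H x =>
        show ((g * x : HU F q) : HU F q ⧸ B) = _
        refine QuotientGroup.eq.2 ?_
        rw [← Subgroup.mem_center_iff.1 hg x, mul_inv_rev, mul_assoc, inv_mul_cancel, mul_one]
        exact inv_mem (hcB hg)
    haveI : IsSimpleGroup (Cfsg.PSU 3 F q) := isSimpleGroup_PSU hF le_rfl (by omega)
    refine le_antisymm ?_ hker1
    rcases (Subgroup.Normal.map (inferInstance : ρ.ker.Normal) π hπs).eq_bot_or_eq_top with h | h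
    · rw [← hπk]
      exact (Subgroup.map_eq_bot_iff _).1 h
    · exfalso
      have hkB : ρ.ker ≤ B := fun g hg => by
        have h1 : e0.symm (g • e0 none) = none := DFunLike.congr_fun (MonoidHom.mem_ker.1 hg) none
        rw [Equiv.symm_apply_eq] at h1
        have h1' : ((g * 1 : HU F q) : HU F q ⧸ B) = ((1 : HU F q) : HU F q ⧸ B) := h1
        rw [mul_one] at h1'
        have h2 := QuotientGroup.eq.1 h1'
        rwa [mul_one, inv_mem_iff] at h2
      obtain ⟨g, hg, hgw⟩ := (h ▸ Subgroup.mem_top (π (wel hF)) : π (wel hF) ∈ ρ.ker.map π)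
      have h3 : g⁻¹ * wel hF ∈ π.ker := by
        rw [MonoidHom.mem_ker, map_mul, map_inv, hgw, inv_mul_cancel]
      rw [hπk] at h3
      have h4 := mul_mem (hkB hg) (hcB h3)
      rw [mul_inv_cancel_left] at h4
      exact CfsgLib.Recog.RankOneSuzuki.Model.wel_not_mem hF h4
  exact ⟨(MonoidHom.ofInjective hσi).trans ((MulEquiv.subgroupCongr hrange).trans
    ((QuotientGroup.quotientKerEquivRange ρ).symm.trans
      ((QuotientGroup.quotientMulEquivOfEq (hker.trans hπk.symm)).trans
        (QuotientGroup.quotientKerEquivOfSurjective π hπs))))⟩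

end CfsgLib.U3Odd
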