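/-
The field of `q` elements inside the field of `q ^ 2` elements, with its conjugation.
-/
import Mathlib

set_option autoImplicit false
set_option linter.unusedSectionVars false
set_option linter.style.haveILetI false

namespace CfsgLib.U3Odd

variable {p n : ℕ} [Fact p.Prime]

/-- The embedding of the field of `q` elements. -/
theorem exists_emb (hn : n ≠ 0) : Nonempty (GaloisField p n →ₐ[ZMod p] GaloisField p (2 * n)) := by
  refine FiniteField.nonempty_algHom_of_finrank_dvd ?_
  rw [GaloisField.finrank p hn, GaloisField.finrank p (by omega)]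
  exact dvd_mul_left _ _

/-- Conjugation. -/
noncomputable def cj : GaloisField p (2 * n) →+* GaloisField p (2 * n) := iterateFrobenius _ p n

theorem cj_def (x : GaloisField p (2 * n)) : cj x = x ^ p ^ n := iterateFrobenius_def _ _ _

theorem cj_cj (hn : n ≠ 0) (x : GaloisField p (2 * n)) : cj (cj x) = x := by
  letI := Fintype.ofFinite (GaloisField p (2 * n))
  rw [cj_def, cj_def, ← pow_mul, ← pow_add, ← two_mul, ← GaloisField.card p (2 * n) (by omega),
    Nat.card_eq_fintype_card, FiniteField.pow_card]

theorem cj_ne {x : GaloisField p (2 * n)} (hx : x ≠ 0) : cj x ≠ 0 := by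
  rw [cj_def]; exact pow_ne_zero _ hx

theorem cj_emb (hn : n ≠ 0) (f : GaloisField p n →+* GaloisField p (2 * n)) (x : GaloisField p n) :
    cj (f x) = f x := by
  letI := Fintype.ofFinite (GaloisField p n)
  rw [cj_def, ← map_pow, ← GaloisField.card p n hn, Nat.card_eq_fintype_card, FiniteField.pow_card]

theorem exists_of_cj (hn : n ≠ 0) (f : GaloisField p n →+* GaloisField p (2 * n)) {x : GaloisField p (2 * n)}
    (hx : cj x = x) : ∃ s, f s = x := by
  classical
  letI := Fintype.ofFinite (GaloisField p (2 * n))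
  letI := Fintype.ofFinite (GaloisField p n)
  have h2 : 1 < p ^ n := Nat.one_lt_pow hn (Fact.out : p.Prime).one_lt
  let P : Polynomial (GaloisField p (2 * n)) := Polynomial.X ^ p ^ n - Polynomial.X
  have hP : P ≠ 0 := FiniteField.X_pow_card_sub_X_ne_zero _ h2
  have hroot : ∀ y, cj y = y → y ∈ P.roots.toFinset := fun y hy => by
    rw [Multiset.mem_toFinset, Polynomial.mem_roots hP, Polynomial.IsRoot, Polynomial.eval_sub, Polynomial.eval_pow,
      Polynomial.eval_X, ← cj_def, hy, sub_self]
  have hsub : Finset.univ.image f ⊆ P.roots.toFinset := fun y hy => by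
    obtain ⟨s, -, rfl⟩ := Finset.mem_image.1 hy
    exact hroot _ (cj_emb hn f s)
  have he := Finset.eq_of_subset_of_card_le hsub (by
    rw [Finset.card_image_of_injective _ f.injective, Finset.card_univ, ← Nat.card_eq_fintype_card,
      GaloisField.card p n hn]
    exact (Multiset.toFinset_card_le _).trans ((Polynomial.card_roots' _).trans
      (FiniteField.X_pow_card_sub_X_natDegree_eq _ h2).le))
  obtain ⟨s, -, hs⟩ := Finset.mem_image.1 (he.ge (hroot x hx))
  exact ⟨s, hs⟩

theorem exists_sqrt (hn : n ≠ 0) (hp : p ≠ 2) (f : GaloisField p n →+* GaloisField p (2 * n)) (a : GaloisField p n) :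
    ∃ r, r * r = f a := by
  letI := Fintype.ofFinite (GaloisField p (2 * n))
  letI := Fintype.ofFinite (GaloisField p n)
  by_cases ha : a = 0
  · exact ⟨0, by rw [ha, map_zero, mul_zero]⟩
  have hc : ringChar (GaloisField p (2 * n)) ≠ 2 := by rw [ringChar.eq _ p]; exact hp
  have hodd : Odd (p ^ n) := ((Fact.out : p.Prime).odd_of_ne_two hp).pow
  obtain ⟨m, hm⟩ := hodd
  obtain ⟨r, hr⟩ := (FiniteField.isSquare_iff hc ((map_ne_zero f).2 ha)).2 (by
    have e : Fintype.card (GaloisField p (2 * n)) / 2 = (p ^ n - 1) * (m + 1) := by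
      rw [← Nat.card_eq_fintype_card, GaloisField.card p (2 * n) (by omega), mul_comm 2, pow_mul, hm,
        show (2 * m + 1) ^ 2 = 2 * (2 * m * m + 2 * m) + 1 by ring, show 2 * m + 1 - 1 = 2 * m by omega]
      rw [show 2 * m * (m + 1) = 2 * m * m + 2 * m by ring]
      omega
    rw [e, pow_mul, ← map_pow, ← GaloisField.card p n hn, Nat.card_eq_fintype_card,
      FiniteField.pow_card_sub_one_eq_one a ha, map_one, one_pow])
  exact ⟨r, hr.symm⟩

end CfsgLib.U3Odd
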