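/-
The involution of the two point stabiliser: it fixes `q + 1` points.
-/
import Cfsg.Agent.U3Odd.Basic

set_option autoImplicit false
set_option linter.style.haveILetI false
set_option linter.unusedSectionVars false

namespace CfsgLib.U3Odd

open MulAction

/-- The arithmetic: `j = n`. -/
lemma exponent_eq {p n j s : ℕ} (hp : p.Prime) (hp2 : p ≠ 2) (hn : 0 < n) (hj : j < 3 * n)
    (hs : p ^ (3 * n) + 1 - (p ^ j + 1) = (p ^ j + 1) * p ^ j * s) (hdvd : s ∣ p ^ (2 * n) - 1) : j = n := by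
  have hp3 : 3 ≤ p := by have := hp.two_le; omega
  obtain ⟨k, hk⟩ : ∃ k, 3 * n = j + k := ⟨3 * n - j, by omega⟩
  have hk0 : k ≠ 0 := by omega
  have hpj : 0 < p ^ j := pow_pos hp.pos j
  have hks : p ^ k - 1 = (p ^ j + 1) * s := by
    apply Nat.eq_of_mul_eq_mul_left hpj
    rw [Nat.mul_sub, mul_one, ← pow_add, ← hk, ← mul_assoc, mul_comm (p ^ j) (p ^ j + 1), ← hs]
    omega
  have h2n : 1 < p ^ (2 * n) := Nat.one_lt_pow (by omega) hp.one_lt
  have hs0 : s ≠ 0 := fun e => by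
    rw [e, mul_zero] at hks
    have := Nat.one_lt_pow hk0 hp.one_lt
    omega
  rcases Nat.eq_zero_or_pos j with rfl | hj0
  · exfalso
    rw [pow_zero] at hks
    have hle := Nat.le_of_dvd (by omega) hdvd
    have h1 : p * p ^ (2 * n) ≤ p ^ k := by
      rw [← pow_succ']; exact Nat.pow_le_pow_right hp.pos (by omega)
    have h3 : 3 * p ^ (2 * n) ≤ p * p ^ (2 * n) := Nat.mul_le_mul_right _ hp3
    omega
  obtain ⟨c, hc⟩ : 2 * j ∣ k := by
    have h1 : p ^ j + 1 ∣ p ^ (2 * j) - 1 := ⟨p ^ j - 1, by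
      rw [mul_comm 2, pow_mul, ← one_pow 2, Nat.sq_sub_sq]; simp⟩
    have h2 := Nat.dvd_gcd h1 (Dvd.intro s hks.symm)
    rw [Nat.pow_sub_one_gcd_pow_sub_one] at h2
    set g := Nat.gcd (2 * j) k with hg
    have hg2 : g ∣ 2 * j := Nat.gcd_dvd_left _ _
    have hg0 : 0 < g := Nat.gcd_pos_of_pos_left _ (by omega)
    obtain ⟨e, he⟩ := hg2
    have hgj : j < g := by
      by_contra hle
      have hle' := Nat.pow_le_pow_right hp.pos (Nat.not_lt.1 hle)
      have hpos : 1 < p ^ g := Nat.one_lt_pow hg0.ne' hp.one_lt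
      have := Nat.le_of_dvd (by omega) h2
      omega
    have he1 : e = 1 := by
      rcases e with _ | _ | e
      · omega
      · rfl
      · nlinarith
    rw [he1, mul_one] at he
    exact he ▸ Nat.gcd_dvd_right _ _
  have hg : Nat.gcd k (2 * n) ∣ 2 * j := by
    have h1 : ((Nat.gcd k (2 * n) : ℕ) : ℤ) ∣ ((2 * n : ℕ) : ℤ) := Int.natCast_dvd_natCast.2 (Nat.gcd_dvd_right _ _)
    have h2 : ((Nat.gcd k (2 * n) : ℕ) : ℤ) ∣ ((k : ℕ) : ℤ) := Int.natCast_dvd_natCast.2 (Nat.gcd_dvd_left _ _)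
    have h3 : ((2 * j : ℕ) : ℤ) = 3 * ((2 * n : ℕ) : ℤ) - 2 * ((k : ℕ) : ℤ) := by
      have hk' : (3 * n : ℤ) = j + k := by exact_mod_cast hk
      push_cast; linarith
    exact Int.natCast_dvd_natCast.1 (h3 ▸ dvd_sub (h1.mul_left _) (h2.mul_left _))
  have hle : s ≤ p ^ (2 * j) - 1 := by
    have h1 : s ∣ p ^ Nat.gcd k (2 * n) - 1 := by
      rw [← Nat.pow_sub_one_gcd_pow_sub_one]
      exact Nat.dvd_gcd (Dvd.intro_left _ hks.symm) hdvd
    have h2 : 1 < p ^ (2 * j) := Nat.one_lt_pow (by omega) hp.one_lt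
    exact Nat.le_of_dvd (by omega) (h1.trans (Nat.pow_sub_one_dvd_pow_sub_one p hg))
  rcases Nat.lt_or_ge c 2 with hc2 | hc2
  · interval_cases c <;> omega
  · exfalso
    have h1 : p ^ (2 * j) * p ^ (2 * j) ≤ p ^ k := by
      rw [← pow_add, hc]; exact Nat.pow_le_pow_right hp.pos (by nlinarith)
    have h2 : (p ^ j + 1) * s ≤ (p ^ j + 1) * (p ^ (2 * j) - 1) := Nat.mul_le_mul_left _ hle
    have h4 : p ^ (2 * j) = p ^ j * p ^ j := by rw [two_mul, pow_add]
    have h5 : 2 ≤ p ^ j := by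
      calc 2 ≤ p ^ 1 := by rw [pow_one]; omega
        _ ≤ p ^ j := Nat.pow_le_pow_right hp.pos hj0
    rw [Nat.mul_sub, mul_one, ← hks] at h2
    have h6 : (p ^ j + 1) * p ^ (2 * j) < p ^ (2 * j) * p ^ (2 * j) :=
      Nat.mul_lt_mul_of_pos_right (by rw [h4]; nlinarith) (by positivity)
    have h8 : (p ^ j + 1) * 1 ≤ (p ^ j + 1) * p ^ (2 * j) :=
      Nat.mul_le_mul_left _ (Nat.one_le_pow _ _ hp.pos)
    omega

variable {G Ω : Type*} [Group G] [MulAction G Ω] [Finite G] [Finite Ω] [FaithfulSMul G Ω] {p n d : ℕ}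

namespace Setting

variable (S : Setting G Ω p n d)
include S

/-- The order of the two point stabiliser is even. -/
theorem even_card_H : Even (Nat.card S.H) := by
  have hodd : Odd (p ^ n) := (S.prime.odd_of_ne_two S.p_ne).pow
  have hd : Odd d := by
    rcases S.d_cases with h | ⟨h, -⟩ <;> rw [h] <;> decide
  have h := S.card_H
  have he : Even (d * Nat.card S.H) := by
    rw [h, mul_comm 2, pow_mul]
    exact Nat.Odd.sub_odd hodd.pow odd_one
  exact (Nat.even_mul.1 he).resolve_left (Nat.not_even_iff_odd.2 hd)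

theorem exists_t : ∃ t ∈ S.H, orderOf t = 2 := by
  haveI : Fact (Nat.Prime 2) := ⟨Nat.prime_two⟩
  obtain ⟨t, ht⟩ := exists_prime_orderOf_dvd_card' (G := S.H) 2 (even_iff_two_dvd.1 S.even_card_H)
  exact ⟨t, t.2, by rw [Subgroup.orderOf_coe, ht]⟩

/-- The involution. -/
noncomputable def t : G := S.exists_t.choose

theorem t_mem : S.t ∈ S.H := S.exists_t.choose_spec.1

theorem t_order : orderOf S.t = 2 := S.exists_t.choose_spec.2

theorem t_ne : S.t ≠ 1 := fun e => by
  have h := S.t_order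
  rw [e, orderOf_one] at h
  omega

theorem t_sq : S.t * S.t = 1 := by
  have h := pow_orderOf_eq_one S.t
  rwa [S.t_order, pow_two] at h

theorem t_inv : S.t⁻¹ = S.t := inv_eq_of_mul_eq_one_left S.t_sq

theorem t_unique {h : G} (hh : h ∈ S.H) (h2 : h * h = 1) : h = 1 ∨ h = S.t := by
  have hd : orderOf h ∣ orderOf S.t := S.t_order ▸ orderOf_dvd_of_pow_eq_one (by rwa [pow_two])
  obtain ⟨k, rfl⟩ := Subgroup.mem_zpowers_iff.1 (mem_zpowers_of_orderOf_dvd S.H_cyclic S.t_mem hh hd)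
  rcases Int.even_or_odd k with ⟨i, rfl⟩ | ⟨i, rfl⟩
  · left; rw [_root_.zpow_add, ← (Commute.refl S.t).mul_zpow, S.t_sq, one_zpow]
  · right; rw [_root_.zpow_add, zpow_one, two_mul, _root_.zpow_add, ← (Commute.refl S.t).mul_zpow, S.t_sq, one_zpow,
      one_mul]

/-- A conjugate of `t` fixing both points is `t`. -/
theorem eq_t {u : G} (hu : IsConj S.t u) (ha : u • S.a = S.a) (hb : u • S.b = S.b) : u = S.t := by
  obtain ⟨g, rfl⟩ := isConj_iff.1 hu
  refine (S.t_unique ((S.mem_H _).2 ⟨ha, hb⟩) ?_).resolve_left fun e => S.t_ne (conj_eq_one_iff.1 e)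
  rw [show g * S.t * g⁻¹ * (g * S.t * g⁻¹) = g * (S.t * S.t) * g⁻¹ by group, S.t_sq]; group

theorem mem_normalizer_t {g : G} :
    g ∈ Subgroup.normalizer (Subgroup.zpowers S.t : Set G) ↔ g * S.t = S.t * g := by
  constructor
  · intro hg
    have hmem : g * S.t * g⁻¹ ∈ S.H :=
      Subgroup.zpowers_le.2 S.t_mem ((Subgroup.mem_normalizer_iff.1 hg S.t).1 (Subgroup.mem_zpowers _))
    have := S.eq_t (isConj_iff.2 ⟨g, rfl⟩) (S.H_fix_a hmem) (S.H_fix_b hmem)
    exact (mul_inv_eq_iff_eq_mul.1 this)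
  · intro hg
    exact S.normal_zpowers_conj S.t_mem (by rw [hg, mul_inv_cancel_right]; exact S.t_mem)

/-- The number of conjugates of `t`. -/
theorem card_class :
    {u : G | IsConj S.t u}.ncard * ((Nat.card (S.CU S.t) + 1) * Nat.card (S.CU S.t)) =
      (p ^ (3 * n) + 1) * p ^ (3 * n) := by
  have h1 := MulAction.index_stabilizer (ConjAct G) S.t
  have h2 := (MulAction.stabilizer (ConjAct G) S.t).card_mul_index
  have e : Subgroup.normalizer (Subgroup.zpowers S.t : Set G) =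
      (MulAction.stabilizer (ConjAct G) S.t).map ConjAct.ofConjAct.toMonoidHom := by
    ext g
    rw [S.mem_normalizer_t]
    constructor
    · intro hg
      exact ⟨ConjAct.toConjAct g, MulAction.mem_stabilizer_iff.2 (by
        rw [ConjAct.toConjAct_smul, hg, mul_inv_cancel_right]), rfl⟩
    · rintro ⟨c, hc, rfl⟩
      have hc' := MulAction.mem_stabilizer_iff.1 hc
      rw [ConjAct.smul_def, mul_inv_eq_iff_eq_mul] at hc'
      exact hc'
  have hc : Nat.card (MulAction.stabilizer (ConjAct G) S.t) =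
      (Nat.card (S.CU S.t) + 1) * Nat.card (S.CU S.t) * Nat.card S.H := by
    rw [← S.card_normalizer S.t_mem, e]
    exact Nat.card_congr (Subgroup.equivMapOfInjective _ _ ConjAct.ofConjAct.injective).toEquiv
  have horb : MulAction.orbit (ConjAct G) S.t = {u : G | IsConj S.t u} := by
    ext u
    rw [ConjAct.mem_orbit_conjAct]
    exact isConj_comm
  rw [h1, horb, hc, show Nat.card (ConjAct G) = Nat.card G from rfl, S.card_G] at h2
  apply Nat.eq_of_mul_eq_mul_right (Nat.card_pos (α := S.H))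
  rw [← h2]; ring

/-- The conjugates of `t` exchanging the two points. -/
def swaps : Set G := {u | IsConj S.t u ∧ u • S.a = S.b}

theorem swaps_mul_self {u : G} (hu : u ∈ S.swaps) : u * u = 1 := by
  obtain ⟨g, rfl⟩ := isConj_iff.1 hu.1
  rw [show g * S.t * g⁻¹ * (g * S.t * g⁻¹) = g * (S.t * S.t) * g⁻¹ by group, S.t_sq]; group

theorem swaps_b {u : G} (hu : u ∈ S.swaps) : u • S.b = S.a := by
  rw [← hu.2, ← mul_smul, S.swaps_mul_self hu, one_smul]

theorem swaps_conj {w h : G} (hw : w ∈ S.swaps) (hh : h ∈ S.H) : w * h * w ∈ S.H :=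
  (S.mem_H _).2 ⟨by rw [mul_smul, mul_smul, hw.2, S.H_fix_b hh, S.swaps_b hw],
    by rw [mul_smul, mul_smul, S.swaps_b hw, S.H_fix_a hh, hw.2]⟩

/-- The involution count. -/
theorem swaps_count : p ^ (3 * n) + 1 - (Nat.card (S.CU S.t) + 1) =
    (Nat.card (S.CU S.t) + 1) * Nat.card (S.CU S.t) * S.swaps.ncard := by
  classical
  letI := Fintype.ofFinite Ω
  letI := Fintype.ofFinite G
  set f := Nat.card (S.CU S.t) + 1
  set C : Finset G := Finset.univ.filter fun u => IsConj S.t u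
  have hC : C.card = {u : G | IsConj S.t u}.ncard := by
    rw [Set.ncard_eq_toFinset_card']; congr 1; ext; simp [C]
  have hmoved : ∀ u ∈ C, (Finset.univ.filter fun x : Ω => u • x ≠ x).card = p ^ (3 * n) + 1 - f := by
    intro u hu
    simp only [C, Finset.mem_filter, Finset.mem_univ, true_and] at hu
    obtain ⟨g, rfl⟩ := isConj_iff.1 hu
    have hfix : (Finset.univ.filter fun x : Ω => (g * S.t * g⁻¹) • x = x).card = f := by
      show _ = Nat.card (S.CU S.t) + 1
      rw [← S.card_fix S.t_mem, ← Set.ncard_smul_set (a := g) (s := fixedBy Ω S.t), ← Set.ncard_coe_finset]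
      congr 1
      ext x
      rw [Set.mem_smul_set_iff_inv_smul_mem, mem_fixedBy]
      simp [mul_smul, smul_eq_iff_eq_inv_smul]
    have h := Finset.card_filter_add_card_filter_not (s := (Finset.univ : Finset Ω))
      (fun x : Ω => (g * S.t * g⁻¹) • x = x)
    rw [hfix, Finset.card_univ, ← Nat.card_eq_fintype_card, S.card_Omega] at h
    simp only [ne_eq] at h ⊢
    omega
  have hpair : ∀ z ∈ (Finset.univ : Finset Ω).offDiag, (C.filter fun u => u • z.1 = z.2).card = S.swaps.ncard := by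
    rintro ⟨x, y⟩ hxy
    simp only [Finset.mem_offDiag] at hxy
    obtain ⟨g, hga, hgb⟩ := S.two S.a S.b x y S.ab hxy.2.2
    rw [← Set.ncard_coe_finset, ← Set.ncard_image_of_injective S.swaps (MulAut.conj g).injective]
    congr 1
    ext u
    simp only [C, Finset.coe_filter, Finset.mem_filter, Finset.mem_univ, true_and, Set.mem_image,
      MulAut.conj_apply, Set.mem_setOf_eq]
    constructor
    · rintro ⟨hu, hux⟩
      refine ⟨g⁻¹ * u * g, ⟨hu.trans (isConj_iff.2 ⟨g⁻¹, by group⟩), ?_⟩, by group⟩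
      rw [mul_smul, mul_smul, hga, hux, ← hgb, inv_smul_smul]
    · rintro ⟨v, ⟨hv, hva⟩, rfl⟩
      refine ⟨hv.trans (isConj_iff.2 ⟨g, rfl⟩), ?_⟩
      rw [mul_smul, mul_smul, ← hga, inv_smul_smul, hva, hgb]
  have hsum : ∑ u ∈ C, (Finset.univ.filter fun x : Ω => u • x ≠ x).card =
      ∑ z ∈ (Finset.univ : Finset Ω).offDiag, (C.filter fun u => u • z.1 = z.2).card := by
    refine Eq.trans (Finset.sum_congr rfl fun u _ => ?_)
      (Finset.sum_card_bipartiteAbove_eq_sum_card_bipartiteBelow (fun (u : G) (z : Ω × Ω) => u • z.1 = z.2))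
    refine Finset.card_nbij' (fun x => (x, u • x)) Prod.fst ?_ ?_ ?_ ?_
    · intro x hx
      simp only [Finset.coe_filter, Finset.mem_univ, true_and, Set.mem_setOf_eq] at hx
      simpa [Finset.bipartiteAbove] using fun e => hx e.symm
    · rintro ⟨x, y⟩ hz
      simp only [Finset.bipartiteAbove, Finset.coe_filter, Set.mem_setOf_eq, Finset.mem_offDiag] at hz
      simpa using fun e => hz.1.2.2 (e.symm.trans hz.2)
    · intro x _; rfl
    · rintro ⟨x, y⟩ hz
      simp only [Finset.bipartiteAbove, Finset.coe_filter, Set.mem_setOf_eq] at hz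
      exact Prod.ext rfl hz.2
  rw [Finset.sum_congr rfl hmoved, Finset.sum_congr rfl hpair, Finset.sum_const, Finset.sum_const, smul_eq_mul,
    smul_eq_mul, Finset.offDiag_card, Finset.card_univ, ← Nat.card_eq_fintype_card, S.card_Omega, hC,
    ← Nat.mul_sub_one, Nat.add_sub_cancel, ← S.card_class] at hsum
  have hpos : 0 < {u : G | IsConj S.t u}.ncard :=
    (Set.ncard_pos (Set.toFinite _)).2 ⟨S.t, IsConj.refl S.t⟩
  exact Nat.eq_of_mul_eq_mul_left hpos (by rw [hsum]; ring)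

theorem CU_lt : Nat.card (S.CU S.t) < p ^ (3 * n) := by
  rw [← S.card_U]
  refine lt_of_le_of_ne (Subgroup.card_le_of_le inf_le_left) fun e => S.t_ne ?_
  have hU := Subgroup.eq_of_le_of_card_ge (inf_le_left : S.CU S.t ≤ S.U) e.ge
  refine eq_of_smul_eq_smul (α := Ω) fun x => ?_
  rw [one_smul]
  by_cases hx : x = S.a
  · rw [hx, S.H_fix_a S.t_mem]
  · obtain ⟨u, hu, rfl⟩ := S.U_trans x hx
    exact (S.fix_U_iff S.t_mem hu).2 (S.mem_CU.1 (hU.ge hu)).2

theorem exists_swap : ∃ w : G, w ∈ S.swaps := by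
  refine Set.nonempty_of_ncard_ne_zero fun e => ?_
  have h := S.swaps_count
  rw [e, mul_zero] at h
  have := S.CU_lt
  omega

/-- A chosen involution exchanging the two points. -/
noncomputable def w : G := S.exists_swap.choose

theorem w_mem : S.w ∈ S.swaps := S.exists_swap.choose_spec

theorem w_sq : S.w * S.w = 1 := S.swaps_mul_self S.w_mem

theorem w_inv : S.w⁻¹ = S.w := inv_eq_of_mul_eq_one_left S.w_sq

/-- The action of the swap on the two point stabiliser. -/
noncomputable def omega : S.H →* S.H where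
  toFun h := ⟨S.w * (h : G) * S.w, S.swaps_conj S.w_mem h.2⟩
  map_one' := Subtype.ext (by simp [S.w_sq])
  map_mul' x y := Subtype.ext (by
    show S.w * ((x : G) * y) * S.w = S.w * x * S.w * (S.w * y * S.w)
    rw [show S.w * (x : G) * S.w * (S.w * y * S.w) = S.w * x * (S.w * S.w) * y * S.w by group, S.w_sq]
    group)

theorem coe_omega (h : S.H) : (S.omega h : G) = S.w * h * S.w := rfl

/-- The inverted elements. -/
noncomputable def Hminus : Subgroup G :=
  Subgroup.map S.H.subtype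
    { carrier := {h : S.H | S.omega h = h⁻¹}
      one_mem' := by simp
      mul_mem' := fun {x y} hx hy => by
        simp only [Set.mem_setOf_eq, map_mul, mul_inv_rev] at hx hy ⊢
        rw [hx, hy]
        exact Subtype.ext (S.H_comm (x⁻¹).2 (y⁻¹).2)
      inv_mem' := fun {x} hx => by
        simp only [Set.mem_setOf_eq, map_inv] at hx ⊢
        rw [hx] }

theorem mem_Hminus {h : G} : h ∈ S.Hminus ↔ h ∈ S.H ∧ S.w * h * S.w = h⁻¹ := by
  constructor
  · rintro ⟨⟨x, hx⟩, h1, rfl⟩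
    exact ⟨hx, congrArg Subtype.val (show S.omega ⟨x, hx⟩ = _ from h1)⟩
  · rintro ⟨hh, e⟩
    exact ⟨⟨h, hh⟩, Subtype.ext e, rfl⟩

theorem Hminus_le : S.Hminus ≤ S.H := fun _ h => (S.mem_Hminus.1 h).1

/-- The swaps form a union of at most two cosets, so their number divides that of the inverted elements. -/
theorem swaps_dvd : S.swaps.ncard ∣ Nat.card S.Hminus := by
  classical
  set X : Set G := (fun u => S.w * u) '' S.swaps with hX
  have hsub : X ⊆ S.Hminus := by
    rintro _ ⟨u, hu, rfl⟩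
    refine S.mem_Hminus.2 ⟨(S.mem_H _).2 ⟨by rw [mul_smul, hu.2, S.swaps_b S.w_mem],
      by rw [mul_smul, S.swaps_b hu, S.w_mem.2]⟩, ?_⟩
    rw [mul_inv_rev, S.w_inv, inv_eq_of_mul_eq_one_left (S.swaps_mul_self hu), ← mul_assoc S.w S.w u, S.w_sq,
      one_mul]
  have h1 : (1 : G) ∈ X := ⟨S.w, S.w_mem, S.w_sq⟩
  have hsq : ∀ x ∈ X, ∀ k ∈ S.Hminus, x * (k * k) ∈ X := by
    rintro _ ⟨u, hu, rfl⟩ k hk
    have hxH := (S.mem_Hminus.1 (hsub ⟨u, hu, rfl⟩)).1
    obtain ⟨hkH, hkw⟩ := S.mem_Hminus.1 hk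
    refine ⟨k⁻¹ * u * k, ⟨hu.1.trans (isConj_iff.2 ⟨k⁻¹, by group⟩), ?_⟩, ?_⟩
    · rw [mul_smul, mul_smul, S.H_fix_a hkH, hu.2, S.H_fix_b (inv_mem hkH)]
    · show S.w * (k⁻¹ * u * k) = S.w * u * (k * k)
      have hkw' : S.w * k⁻¹ = k * S.w := by
        rw [← hkw, ← mul_assoc, ← mul_assoc, S.w_sq, one_mul]
      calc S.w * (k⁻¹ * u * k) = k * (S.w * u) * k := by rw [← mul_assoc, ← mul_assoc, hkw']; group
        _ = S.w * u * (k * k) := by rw [S.H_comm hkH hxH, mul_assoc]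
  haveI : IsCyclic S.Hminus := by
    haveI := S.H_cyclic
    exact isCyclic_of_injective (Subgroup.inclusion S.Hminus_le) (Subgroup.inclusion_injective _)
  letI : CommGroup S.Hminus := IsCyclic.commGroup
  set R : Subgroup S.Hminus := (powMonoidHom 2 : S.Hminus →* S.Hminus).range
  have hR : R.index ∣ 2 := by
    rw [IsCyclic.index_powMonoidHom_range]; exact Nat.gcd_dvd_right _ _
  set Y : Set S.Hminus := Subtype.val ⁻¹' X
  have hY : Y.ncard = S.swaps.ncard := by
    rw [Set.ncard_preimage_of_injective_subset_range Subtype.val_injective (by simpa using hsub), hX,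
      Set.ncard_image_of_injective _ (mul_right_injective S.w)]
  have hYR : ∀ y ∈ Y, ∀ r ∈ R, y * r ∈ Y := by
    rintro y hy _ ⟨k, rfl⟩
    show (y : G) * ((k ^ 2 : S.Hminus) : G) ∈ X
    rw [pow_two]
    exact hsq _ hy _ k.2
  have h1Y : (1 : S.Hminus) ∈ Y := h1
  rw [← hY]
  by_cases hsubR : Y ⊆ R
  · have e : Y = R := Set.Subset.antisymm hsubR fun r hr => by simpa using hYR 1 h1Y r hr
    rw [e, ← Nat.card_coe_set_eq]
    exact R.card_subgroup_dvd_card
  · obtain ⟨x, hx, hxR⟩ := Set.not_subset.1 hsubR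
    have h2 : R.index = 2 := ((Nat.dvd_prime Nat.prime_two).1 hR).resolve_left fun e =>
      hxR ((Subgroup.index_eq_one.1 e).symm ▸ Subgroup.mem_top x)
    have e : Y = Set.univ := Set.eq_univ_of_forall fun z => by
      by_cases hz : z ∈ R
      · simpa using hYR 1 h1Y z hz
      · have hm : x⁻¹ * z ∈ R := (Subgroup.mul_mem_iff_of_index_two h2).2
          ⟨fun h' => absurd (by simpa using inv_mem h') hxR, fun h' => absurd h' hz⟩
        simpa using hYR x hx _ hm
    rw [e, Set.ncard_univ]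

/-- The involution fixes `q + 1` points and is one of `q - 1` exchanging a pair. -/
theorem count : Nat.card (S.CU S.t) = p ^ n ∧ S.swaps.ncard = p ^ n - 1 := by
  obtain ⟨j, -, hj⟩ := S.CU_pow S.t
  have h := S.swaps_count
  have hlt := S.CU_lt
  rw [hj] at h hlt
  have hj' : j < 3 * n := (Nat.pow_lt_pow_iff_right S.prime.one_lt).1 hlt
  have hdvd : S.swaps.ncard ∣ p ^ (2 * n) - 1 :=
    (S.swaps_dvd.trans (Subgroup.card_dvd_of_le S.Hminus_le)).trans (S.card_H ▸ Dvd.intro_left _ rfl)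
  have hjn := exponent_eq S.prime S.p_ne S.n_pos hj' h hdvd
  subst hjn
  refine ⟨hj, ?_⟩
  have h2 : p ^ (3 * j) + 1 - (p ^ j + 1) = (p ^ j + 1) * p ^ j * (p ^ j - 1) := by
    rw [show p ^ (3 * j) = p ^ j * p ^ j * p ^ j by rw [← pow_add, ← pow_add]; ring_nf]
    obtain ⟨x, hx⟩ : ∃ x, p ^ j = x + 1 := ⟨p ^ j - 1, (Nat.sub_add_cancel (Nat.one_le_pow _ _ S.prime.pos)).symm⟩
    rw [hx, Nat.add_sub_cancel, Nat.sub_eq_iff_eq_add (by nlinarith)]
    ring
  exact (Nat.eq_of_mul_eq_mul_left (Nat.mul_pos (Nat.succ_pos _) (pow_pos S.prime.pos j)) (h2.symm.trans h)).symm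

end Setting

end CfsgLib.U3Odd
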