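/-
An abelian group of order prime to `p` acting faithfully on a group of order `p ^ k` has order less than `p ^ k`,
with equality `p ^ k - 1` only for a semiregular action on an elementary abelian group.
-/
import Mathlib

set_option autoImplicit false
set_option linter.style.haveILetI false
set_option linter.unusedSectionVars false

namespace CfsgLib.U3Odd

universe u v

/-- The bound with its case of equality. -/
def FaithBound (p : ℕ) (P : Type u) [Group P] (C : Subgroup (MulAut P)) : Prop :=
  Nat.card C < Nat.card P ∧ (Nat.card C + 1 = Nat.card P →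
    (∀ x y : P, x * y = y * x) ∧ (∀ x : P, x ^ p = 1) ∧ ∀ c ∈ C, c ≠ 1 → ∀ x : P, c x = x → x = 1)

/-- An automorphism of order prime to `p` that changes `y` by a fixed element of `p`-power order fixes `y`. -/
lemma eq_one_of_shift {p : ℕ} [Fact p.Prime] {P : Type u} [Group P] (hP : IsPGroup p P) {e : MulAut P}
    (he : ∃ k : ℕ, ¬ p ∣ k ∧ e ^ k = 1) {y z : P} (hy : e y = y * z) (hz : e z = z) : z = 1 := by
  obtain ⟨k, hk, hek⟩ := he
  have key : ∀ i : ℕ, (e ^ i) y = y * z ^ i := by
    intro i
    induction i with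
    | zero => simp
    | succ i ih => rw [pow_succ', MulAut.mul_apply, ih, map_mul, map_pow, hy, hz, mul_assoc, pow_succ']
  have h1 : z ^ k = 1 := by
    have := key k
    rwa [hek, MulAut.one_apply, left_eq_mul] at this
  obtain ⟨m, hm⟩ := hP z
  have hd := Nat.dvd_gcd (orderOf_dvd_of_pow_eq_one hm) (orderOf_dvd_of_pow_eq_one h1)
  rw [Nat.Coprime.gcd_eq_one (((Nat.Prime.coprime_iff_not_dvd Fact.out).2 hk).pow_left m), Nat.dvd_one,
    orderOf_eq_one_iff] at hd
  exact hd

/-- The bound. -/
theorem faithBound {p : ℕ} [Fact p.Prime] : ∀ (N : ℕ) (P : Type u) [Group P] [Finite P],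
    Nat.card P = N → 1 < N → IsPGroup p P → ∀ C : Subgroup (MulAut P),
      (∀ a ∈ C, ∀ b ∈ C, a * b = b * a) → ¬ p ∣ Nat.card C → FaithBound p P C := by
  intro N
  induction N using Nat.strong_induction_on with
  | _ N ih =>
  intro P _ _ hN h1 hP C hcomm hC
  haveI : Finite (MulAut P) := Finite.of_injective _ DFunLike.coe_injective
  have hord : ∀ c ∈ C, ∃ k : ℕ, ¬ p ∣ k ∧ c ^ k = 1 := fun c hc =>
    ⟨Nat.card C, hC, congrArg Subtype.val (pow_card_eq_one' (x := (⟨c, hc⟩ : C)))⟩
  -- a bound for a subgroup of the product of two smaller groups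
  have hsmall : ∀ A B : ℕ, 1 < A → 1 < B → A * B = N → Nat.card C ≤ (A - 1) * (B - 1) → FaithBound p P C := by
    intro A B hA hB hAB hle
    obtain ⟨x, rfl⟩ : ∃ x, A = x + 2 := ⟨A - 2, by omega⟩
    obtain ⟨y, rfl⟩ : ∃ y, B = y + 2 := ⟨B - 2, by omega⟩
    have : Nat.card C + 2 ≤ N := by
      rw [show x + 2 - 1 = x + 1 by omega, show y + 2 - 1 = y + 1 by omega] at hle
      nlinarith
    exact ⟨by omega, fun e => by omega⟩
  set Z : Subgroup P :=
    { carrier := {x | x ∈ Subgroup.center P ∧ x ^ p = 1}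
      one_mem' := ⟨one_mem _, one_pow _⟩
      mul_mem' := fun {x y} hx hy => ⟨mul_mem hx.1 hy.1, by
        rw [(show Commute x y from (Subgroup.mem_center_iff.1 hx.1 y).symm).mul_pow, hx.2, hy.2, one_mul]⟩
      inv_mem' := fun {x} hx => ⟨inv_mem hx.1, by rw [inv_pow, hx.2, inv_one]⟩ } with hZdef
  haveI : Nontrivial P := Finite.one_lt_card_iff_nontrivial.1 (hN ▸ h1)
  haveI hZn : Z.Normal := ⟨fun x hx g => by rw [Subgroup.mem_center_iff.1 hx.1 g, mul_inv_cancel_right]; exact hx⟩
  have hZ1 : 1 < Nat.card Z := by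
    haveI := hP.center_nontrivial
    obtain ⟨k, hk0, hk⟩ := IsPGroup.nontrivial_iff_card (hP.to_subgroup (Subgroup.center P)) |>.1 inferInstance
    obtain ⟨x, hx⟩ := exists_prime_orderOf_dvd_card' (G := Subgroup.center P) p (hk ▸ dvd_pow_self p hk0.ne')
    refine (Subgroup.one_lt_card_iff_ne_bot _).2 fun e => ?_
    have hxz : (x : P) ∈ Z := ⟨x.2, by rw [← SubmonoidClass.coe_pow, ← hx, pow_orderOf_eq_one, OneMemClass.coe_one]⟩
    rw [e, Subgroup.mem_bot, ← Subgroup.coe_one (Subgroup.center P), ← Subtype.ext_iff] at hxz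
    rw [hxz, orderOf_one] at hx
    exact (Nat.Prime.one_lt Fact.out).ne hx
  -- images in smaller groups
  have himage : ∀ {Q : Type u} [Group Q] [Finite Q], Nat.card Q < N → 1 < Nat.card Q → IsPGroup p Q →
      ∀ (D : Subgroup (MulAut P)) (_ : D ≤ C) (f : D →* MulAut Q),
        Nat.card f.range ≤ Nat.card Q - 1 := by
    intro Q _ _ hQN hQ1 hQp D hDC f
    haveI : Finite (MulAut Q) := Finite.of_injective _ DFunLike.coe_injective
    have hb := (ih _ hQN Q rfl hQ1 hQp f.range (by
      rintro _ ⟨⟨a, ha⟩, rfl⟩ _ ⟨⟨b, hb⟩, rfl⟩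
      rw [← map_mul, ← map_mul]
      exact congrArg f (Subtype.ext (hcomm a (hDC ha) b (hDC hb))))
      fun hd => hC (hd.trans ((Subgroup.card_range_dvd f).trans (Subgroup.card_dvd_of_le hDC)))).1
    omega
  by_cases hall : Z = ⊤
  · have hab : ∀ x y : P, x * y = y * x := fun x y =>
      (Subgroup.mem_center_iff.1 (hall ▸ Subgroup.mem_top y : y ∈ Z).1 x)
    have hexp : ∀ x : P, x ^ p = 1 := fun x => (hall ▸ Subgroup.mem_top x : x ∈ Z).2
    by_cases hsemi : ∀ c ∈ C, c ≠ 1 → ∀ x : P, c x = x → x = 1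
    · obtain ⟨x, hx⟩ := exists_ne (1 : P)
      have hinj : Function.Injective (fun c : C => (⟨(c : MulAut P) x, by
          rw [ne_eq, MulEquiv.map_eq_one_iff]; exact hx⟩ : {y : P // y ≠ 1})) := by
        intro c c' e
        have e' : (c : MulAut P) x = (c' : MulAut P) x := congrArg Subtype.val e
        by_contra hne
        refine hx (hsemi _ (mul_mem (inv_mem c'.2) c.2) (fun h => hne (Subtype.ext (inv_mul_eq_one.1 h).symm)) x ?_)
        rw [MulAut.mul_apply, e', MulAut.inv_apply_self]
      have hle := Nat.card_le_card_of_injective _ hinj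
      have hlt : Nat.card {y : P // y ≠ 1} < Nat.card P := Finite.card_subtype_lt (x := (1 : P)) (by simp)
      exact ⟨hle.trans_lt hlt, fun _ => ⟨hab, hexp, hsemi⟩⟩
    · push Not at hsemi
      obtain ⟨e, he, he1, y, hy, hy1⟩ := hsemi
      let δ : P →* P :=
        { toFun := fun x => e x * x⁻¹
          map_one' := by simp
          map_mul' := fun a b => by
            show e (a * b) * (a * b)⁻¹ = e a * a⁻¹ * (e b * b⁻¹)
            rw [map_mul, mul_inv_rev, mul_assoc, mul_assoc]
            congr 1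
            rw [hab b⁻¹ a⁻¹, ← mul_assoc, hab (e b) a⁻¹, mul_assoc] }
      have hδc : ∀ c ∈ C, ∀ x, c (δ x) = δ (c x) := fun c hc x => by
        show c (e x * x⁻¹) = e (c x) * (c x)⁻¹
        rw [map_mul, map_inv, ← MulAut.mul_apply, hcomm c hc e he, MulAut.mul_apply]
      have hQ1 : 1 < Nat.card δ.ker :=
        (Subgroup.one_lt_card_iff_ne_bot _).2 fun h => hy1 (Subgroup.mem_bot.1 (h ▸ (show y ∈ δ.ker by
          show e y * y⁻¹ = 1
          rw [hy, mul_inv_cancel])))
      have hR1 : 1 < Nat.card δ.range :=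
        (Subgroup.one_lt_card_iff_ne_bot _).2 fun h => he1 (MulEquiv.ext fun x =>
          mul_inv_eq_one.1 (Subgroup.mem_bot.1 (h ▸ ⟨x, rfl⟩ : δ x ∈ (⊥ : Subgroup P))))
      have hprod : Nat.card δ.ker * Nat.card δ.range = N := by
        rw [← hN, ← Subgroup.index_ker]; exact δ.ker.card_mul_index
      have hinf : ∀ x, δ x ∈ δ.ker → δ x = 1 := fun x hx =>
        eq_one_of_shift hP (hord e he) (y := x) (z := δ x)
          (by show e x = x * (e x * x⁻¹); rw [hab x, inv_mul_cancel_right]) (mul_inv_eq_one.1 hx)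
      have hker : ∀ c ∈ C, ∀ x ∈ δ.ker, c x ∈ δ.ker := fun c hc x hx => by
        rw [MonoidHom.mem_ker, ← hδc c hc, hx, map_one]
      have hrange : ∀ c ∈ C, ∀ x ∈ δ.range, c x ∈ δ.range := by
        rintro c hc _ ⟨x, rfl⟩; exact ⟨c x, (hδc c hc x).symm⟩
      let res : ∀ (Q : Subgroup P), (∀ c ∈ C, ∀ x ∈ Q, c x ∈ Q) → (C →* MulAut Q) := fun Q hQ =>
        { toFun := fun c =>
            { toFun := fun x => ⟨(c : MulAut P) x, hQ c c.2 x x.2⟩
              invFun := fun x => ⟨((c : MulAut P))⁻¹ x, hQ _ (inv_mem c.2) x x.2⟩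
              left_inv := fun x => Subtype.ext (MulAut.inv_apply_self _ _ _)
              right_inv := fun x => Subtype.ext (MulAut.apply_inv_self _ _ _)
              map_mul' := fun x y => Subtype.ext (map_mul (c : MulAut P) _ _) }
          map_one' := by ext x; rfl
          map_mul' := fun a b => by ext x; rfl }
      let f := (res δ.ker hker).prod (res δ.range hrange)
      have hf : Function.Injective f := by
        rw [injective_iff_map_eq_one]
        intro c hc
        obtain ⟨h1', h2'⟩ := Prod.ext_iff.1 hc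
        refine Subtype.ext (MulEquiv.ext fun x => ?_)
        have hr : (c : MulAut P) (δ x) = δ x := congrArg Subtype.val (DFunLike.congr_fun (show res δ.range hrange c = 1 from h2') (⟨δ x, x, rfl⟩ : δ.range))
        have hk : δ ((c : MulAut P) x * x⁻¹) = 1 := by
          rw [map_mul, map_inv, ← hδc c c.2, hr, mul_inv_cancel]
        have hfix : (c : MulAut P) ((c : MulAut P) x * x⁻¹) = (c : MulAut P) x * x⁻¹ :=
          congrArg Subtype.val (DFunLike.congr_fun (show res δ.ker hker c = 1 from h1') (⟨_, hk⟩ : δ.ker))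
        exact mul_inv_eq_one.1 (eq_one_of_shift hP (hord c c.2) (y := x) (z := (c : MulAut P) x * x⁻¹)
          (by rw [hab x, inv_mul_cancel_right]) hfix)
      haveI : Finite (MulAut δ.ker) := Finite.of_injective _ DFunLike.coe_injective
      haveI : Finite (MulAut δ.range) := Finite.of_injective _ DFunLike.coe_injective
      have hlt : ∀ A B : ℕ, 1 < A → 1 < B → A * B = N → A < N ∧ B < N := fun A B hA hB e =>
        ⟨by nlinarith, by nlinarith⟩
      obtain ⟨hkN, hrN⟩ := hlt _ _ hQ1 hR1 hprod
      refine hsmall _ _ hQ1 hR1 hprod (le_trans ?_ (Nat.mul_le_mul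
        (himage hkN hQ1 (hP.to_subgroup _) C le_rfl (res δ.ker hker))
        (himage hrN hR1 (hP.to_subgroup _) C le_rfl (res δ.range hrange))))
      rw [← Nat.card_prod]
      refine Nat.card_le_card_of_injective (fun c : C => ((⟨_, c, rfl⟩ : (res δ.ker hker).range),
        (⟨_, c, rfl⟩ : (res δ.range hrange).range))) fun a b e => hf ?_
      exact Prod.ext (congrArg Subtype.val (congrArg Prod.fst e)) (congrArg Subtype.val (congrArg Prod.snd e))
  · have hinv : ∀ c : MulAut P, ∀ x ∈ Z, c x ∈ Z := fun c x hx =>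
      ⟨Subgroup.mem_center_iff.2 fun y => by
        obtain ⟨y', rfl⟩ := c.surjective y
        rw [← map_mul, Subgroup.mem_center_iff.1 hx.1, map_mul], by rw [← map_pow, hx.2, map_one]⟩
    let resZ : C →* MulAut Z :=
      { toFun := fun c =>
          { toFun := fun x => ⟨(c : MulAut P) x, hinv c x x.2⟩
            invFun := fun x => ⟨((c : MulAut P))⁻¹ x, hinv _ x x.2⟩
            left_inv := fun x => Subtype.ext (MulAut.inv_apply_self _ _ _)
            right_inv := fun x => Subtype.ext (MulAut.apply_inv_self _ _ _)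
            map_mul' := fun x y => Subtype.ext (map_mul (c : MulAut P) _ _) }
        map_one' := by ext x; rfl
        map_mul' := fun a b => by ext x; rfl }
    set D : Subgroup (MulAut P) := resZ.ker.map C.subtype
    have hDC : D ≤ C := Subgroup.map_subtype_le _
    have hDfix : ∀ c ∈ D, ∀ x ∈ Z, c x = x := by
      rintro _ ⟨c, hc, rfl⟩ x hx
      exact congrArg Subtype.val (DFunLike.congr_fun hc ⟨x, hx⟩)
    have hmapZ : ∀ c : MulAut P, Z.map c.toMonoidHom = Z := fun c => le_antisymm
      (by rintro _ ⟨x, hx, rfl⟩; exact hinv c x hx)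
      fun x hx => ⟨c⁻¹ x, hinv _ x hx, MulAut.apply_inv_self _ _ _⟩
    let quo : D →* MulAut (P ⧸ Z) :=
      { toFun := fun c => QuotientGroup.congr Z Z (c : MulAut P) (hmapZ c)
        map_one' := MulEquiv.ext fun q => by induction q using QuotientGroup.induction_on; rfl
        map_mul' := fun a b => MulEquiv.ext fun q => by induction q using QuotientGroup.induction_on; rfl }
    have hquo : Function.Injective quo := by
      rw [injective_iff_map_eq_one]
      intro c hc
      refine Subtype.ext (MulEquiv.ext fun x => ?_)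
      have hx : (((c : MulAut P) x : P) : P ⧸ Z) = (x : P ⧸ Z) := DFunLike.congr_fun hc (x : P ⧸ Z)
      have hz : x⁻¹ * (c : MulAut P) x ∈ Z := QuotientGroup.eq.1 hx.symm
      exact (inv_mul_eq_one.1 (eq_one_of_shift hP (hord c (hDC c.2)) (y := x)
        (mul_inv_cancel_left x _).symm (hDfix c c.2 _ hz))).symm
    haveI : Finite (MulAut Z) := Finite.of_injective _ DFunLike.coe_injective
    haveI : Finite (MulAut (P ⧸ Z)) := Finite.of_injective _ DFunLike.coe_injective
    have hprod : Nat.card Z * Nat.card (P ⧸ Z) = N := by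
      rw [← hN]; exact Z.card_mul_index
    have hQ1 : 1 < Nat.card (P ⧸ Z) := by
      show 1 < Z.index
      have h0 : Z.index ≠ 0 := Subgroup.index_ne_zero_of_finite
      have h1' : Z.index ≠ 1 := fun e => hall (Subgroup.index_eq_one.1 e)
      omega
    have hZN : Nat.card Z < N := by rw [← hprod]; exact lt_mul_of_one_lt_right (by omega) hQ1
    have hQN : Nat.card (P ⧸ Z) < N := by rw [← hprod]; exact lt_mul_of_one_lt_left (by omega) hZ1
    refine hsmall _ _ hZ1 hQ1 hprod (le_trans (le_of_eq ?_) (Nat.mul_le_mul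
      (himage hZN hZ1 (hP.to_subgroup _) C le_rfl resZ) (himage hQN hQ1 (hP.to_quotient Z) D hDC quo)))
    rw [← Nat.card_congr (MonoidHom.ofInjective hquo).toEquiv, ← Nat.card_congr
      (Subgroup.equivMapOfInjective _ _ C.subtype_injective).toEquiv, ← Subgroup.index_ker, mul_comm]
    exact resZ.ker.card_mul_index.symm

end CfsgLib.U3Odd
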