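/-
The block of the involution: its kernel has order `(q + 1) / d`, and the kernel's complement acts regularly on the
non-trivial elements of the translation group of the block, which is elementary abelian.
-/
import Cfsg.Agent.U3Odd.Count
import Cfsg.Agent.U3Odd.Faithful

set_option autoImplicit false
set_option linter.style.haveILetI false
set_option linter.unusedSectionVars false

namespace CfsgLib.U3Odd

open MulAction
open scoped Pointwise

/-- The exponent of a larger fixed point set is the largest one. -/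
lemma fix_exponent {p n i : ℕ} (hp : p.Prime) (hni : n < i) (hi : i ≤ 3 * n)
    (h : p ^ i + 1 ∣ p ^ (3 * n) + 1) : i = 3 * n := by
  by_contra hne
  obtain ⟨r, hr⟩ : ∃ r, 3 * n = r + i := ⟨3 * n - i, by omega⟩
  have h1 : p ^ i + 1 ∣ p ^ r - 1 := by
    have e : p ^ r * (p ^ i + 1) = p ^ (3 * n) + 1 + (p ^ r - 1) := by
      rw [mul_add, mul_one, ← pow_add, ← hr]
      have := Nat.one_le_pow r p hp.pos
      omega
    exact (Nat.dvd_add_right h).1 (e ▸ Dvd.intro_left _ rfl)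
  have hr1 : 1 < p ^ r := Nat.one_lt_pow (by omega) hp.one_lt
  have hir : i < r := by
    by_contra hle
    have := Nat.pow_le_pow_right hp.pos (Nat.not_lt.1 hle)
    have := Nat.le_of_dvd (by omega) h1
    omega
  obtain ⟨s, hs⟩ : ∃ s, r = s + i := ⟨r - i, by omega⟩
  have h2 : p ^ i + 1 ∣ p ^ s + 1 := by
    have e : p ^ s * (p ^ i + 1) = p ^ r - 1 + (p ^ s + 1) := by
      rw [mul_add, mul_one, ← pow_add, ← hs]
      omega
    exact (Nat.dvd_add_right h1).1 (e ▸ Dvd.intro_left _ rfl)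
  have h3 := Nat.le_of_dvd (by omega) h2
  have h4 : p ^ i ≤ p ^ s := by omega
  have := (Nat.pow_le_pow_iff_right hp.one_lt).1 h4
  omega

variable {G Ω : Type*} [Group G] [MulAction G Ω] [Finite G] [Finite Ω] [FaithfulSMul G Ω] {p n d : ℕ}

namespace Setting

variable (S : Setting G Ω p n d)
include S

/-- The translations of the block. -/
noncomputable def U0 : Subgroup G := S.CU S.t

/-- The kernel of the block. -/
noncomputable def K : Subgroup G := S.H ⊓ Subgroup.centralizer (S.U0 : Set G)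

theorem card_U0 : Nat.card S.U0 = p ^ n := S.count.1

theorem mem_U0 {u : G} : u ∈ S.U0 ↔ u ∈ S.U ∧ u * S.t = S.t * u := S.mem_CU

theorem K_le : S.K ≤ S.H := inf_le_left

theorem t_mem_K : S.t ∈ S.K :=
  ⟨S.t_mem, Subgroup.mem_centralizer_iff.2 fun _ hu => (S.mem_U0.1 hu).2⟩

theorem H_comm_t {h : G} (hh : h ∈ S.H) : h * S.t = S.t * h := S.H_comm hh S.t_mem

theorem w_comm_t : S.w * S.t = S.t * S.w := by
  have hm := S.swaps_conj S.w_mem S.t_mem
  have h2 : S.w * S.t * S.w * (S.w * S.t * S.w) = 1 := by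
    rw [show S.w * S.t * S.w * (S.w * S.t * S.w) = S.w * S.t * (S.w * S.w) * S.t * S.w by group, S.w_sq, mul_one,
      mul_assoc S.w S.t S.t, S.t_sq, mul_one, S.w_sq]
  rcases S.t_unique hm h2 with h | h
  · refine absurd ?_ S.t_ne
    calc S.t = S.w * (S.w * S.t * S.w) * S.w := by
          rw [show S.w * (S.w * S.t * S.w) * S.w = S.w * S.w * S.t * (S.w * S.w) by group, S.w_sq, one_mul, mul_one]
      _ = 1 := by rw [h, mul_one, S.w_sq]
  · calc S.w * S.t = S.w * S.t * (S.w * S.w) := by rw [S.w_sq, mul_one]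
      _ = S.w * S.t * S.w * S.w := by group
      _ = S.t * S.w := by rw [h]

/-- An element commuting with `t` permutes the block. -/
theorem smul_block {g : G} (hg : g * S.t = S.t * g) {x : Ω} (hx : S.t • x = x) : S.t • (g • x) = g • x := by
  rw [← mul_smul, ← hg, mul_smul, hx]

theorem U0_block {u : G} (hu : u ∈ S.U0) {x : Ω} (hx : S.t • x = x) : S.t • (u • x) = u • x :=
  S.smul_block (S.mem_U0.1 hu).2 hx

theorem exists_U0 {x : Ω} (hx : S.t • x = x) (hxa : x ≠ S.a) : ∃ u ∈ S.U0, u • S.b = x := by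
  obtain ⟨u, hu, rfl⟩ := S.U_trans x hxa
  exact ⟨u, S.mem_U0.2 ⟨hu, (S.fix_U_iff S.t_mem hu).1 hx⟩, rfl⟩

theorem mem_K {k : G} : k ∈ S.K ↔ k ∈ S.H ∧ ∀ x : Ω, S.t • x = x → k • x = x := by
  constructor
  · rintro ⟨hk, hc⟩
    refine ⟨hk, fun x hx => ?_⟩
    by_cases hxa : x = S.a
    · rw [hxa, S.H_fix_a hk]
    obtain ⟨u, hu, rfl⟩ := S.exists_U0 hx hxa
    exact (S.fix_U_iff hk (S.mem_U0.1 hu).1).2 (Subgroup.mem_centralizer_iff.1 hc u hu)
  · rintro ⟨hk, hfix⟩
    refine ⟨hk, Subgroup.mem_centralizer_iff.2 fun u hu => ?_⟩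
    exact (S.fix_U_iff hk (S.mem_U0.1 hu).1).1 (hfix _ (S.U0_block hu (S.H_fix_b S.t_mem)))

/-- An element carrying the block into itself commutes with `t`. -/
theorem comm_t_of_maps {g : G} (hg : ∀ x : Ω, S.t • x = x → S.t • (g • x) = g • x) : g * S.t = S.t * g := by
  have hsur : ∀ x : Ω, S.t • x = x → ∃ y, S.t • y = y ∧ g • y = x := by
    have h := (Set.toFinite (fixedBy Ω S.t)).surjOn_iff_bijOn_of_mapsTo (f := (g • ·)) (fun x hx => hg x hx)
    have hinj : Set.InjOn (g • ·) (fixedBy Ω S.t) := (MulAction.injective g).injOn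
    have hsurj := ((Set.toFinite (fixedBy Ω S.t)).injOn_iff_bijOn_of_mapsTo (fun x hx => hg x hx)).1 hinj
    intro x hx
    obtain ⟨y, hy, e⟩ := hsurj.surjOn hx
    exact ⟨y, hy, e⟩
  have hfix : ∀ x : Ω, S.t • x = x → (g * S.t * g⁻¹) • x = x := fun x hx => by
    obtain ⟨y, hy, rfl⟩ := hsur x hx
    rw [mul_smul, mul_smul, inv_smul_smul, hy]
  exact mul_inv_eq_iff_eq_mul.1 (S.eq_t (isConj_iff.2 ⟨g, rfl⟩) (hfix _ (S.H_fix_a S.t_mem))
    (hfix _ (S.H_fix_b S.t_mem)))

/-- The group generated by the translations at both points exchanges them. -/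
theorem exists_swap_L :
    ∃ l ∈ Subgroup.closure ((S.U0 : Set G) ∪ (fun u => S.w * u * S.w) '' (S.U0 : Set G)),
      l • S.a = S.b ∧ l • S.b = S.a := by
  set V : Set G := (fun u => S.w * u * S.w) '' (S.U0 : Set G)
  have hVb : ∀ v ∈ V, v • S.b = S.b := by
    rintro _ ⟨u, hu, rfl⟩
    rw [mul_smul, mul_smul, S.swaps_b S.w_mem, S.U_fix u (S.mem_U0.1 hu).1, S.w_mem.2]
  have hVt : ∀ x : Ω, S.t • x = x → x ≠ S.b → ∃ v ∈ V, v • S.a = x := by
    intro x hx hxb
    obtain ⟨u, hu, e⟩ := S.exists_U0 (S.smul_block S.w_comm_t hx)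
      (fun e => hxb (by rw [← S.w_mem.2, ← e, ← mul_smul, S.w_sq, one_smul]))
    refine ⟨_, ⟨u, hu, rfl⟩, ?_⟩
    rw [mul_smul, mul_smul, S.w_mem.2, e, ← mul_smul, S.w_sq, one_smul]
  obtain ⟨u, hu, hu1⟩ : ∃ u ∈ S.U0, u ≠ (1 : G) :=
    S.U0.ne_bot_iff_exists_ne_one.1 (fun e => by
      have h := S.card_U0
      rw [e, Subgroup.card_bot] at h
      have := S.two_le_q
      omega) |>.elim fun u hu => ⟨u, u.2, fun e => hu (Subtype.ext e)⟩
  set x := u⁻¹ • S.b with hx
  have hxa : x ≠ S.a := S.U_ne_a (inv_mem (S.mem_U0.1 hu).1)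
  have hxb : x ≠ S.b := fun e => hu1 (inv_eq_one.1 (S.U_free _ (inv_mem (S.mem_U0.1 hu).1) e))
  have hxt : S.t • x = x := S.U0_block (inv_mem hu) (S.H_fix_b S.t_mem)
  obtain ⟨v, hv, hva⟩ := hVt x hxt hxb
  have hc1 : S.t • (u • S.b) = u • S.b := S.U0_block hu (S.H_fix_b S.t_mem)
  have hc2 : u • S.b ≠ S.b := fun e => hu1 (S.U_free u (S.mem_U0.1 hu).1 e)
  obtain ⟨v', hv', hv'a⟩ := hVt _ hc1 hc2
  refine ⟨v'⁻¹ * u * v, mul_mem (mul_mem (inv_mem (Subgroup.subset_closure (Or.inr hv')))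
    (Subgroup.subset_closure (Or.inl hu))) (Subgroup.subset_closure (Or.inr hv)), ?_, ?_⟩
  · rw [mul_smul, mul_smul, hva, hx, smul_inv_smul, inv_smul_eq_iff, hVb v' hv']
  · rw [mul_smul, mul_smul, hVb v hv, inv_smul_eq_iff, hv'a]

theorem L_comm_K {l : G} (hl : l ∈ Subgroup.closure ((S.U0 : Set G) ∪ (fun u => S.w * u * S.w) '' (S.U0 : Set G)))
    {k : G} (hk : k ∈ S.K) : l * k = k * l := by
  have hwk : S.w * k * S.w ∈ S.K := S.mem_K.2 ⟨S.swaps_conj S.w_mem (S.K_le hk), fun x hx => by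
    rw [mul_smul, mul_smul, (S.mem_K.1 hk).2 _ (S.smul_block S.w_comm_t hx), ← mul_smul, S.w_sq, one_smul]⟩
  refine Subgroup.mem_centralizer_singleton_iff.1 ((Subgroup.closure_le _).2 ?_ hl)
  rintro _ (hu | ⟨u, hu, rfl⟩) <;> rw [SetLike.mem_coe, Subgroup.mem_centralizer_singleton_iff]
  · exact Subgroup.mem_centralizer_iff.1 hk.2 _ hu
  · show S.w * u * S.w * k = k * (S.w * u * S.w)
    calc S.w * u * S.w * k = S.w * (u * (S.w * k * S.w)) * S.w := by
          rw [show S.w * (u * (S.w * k * S.w)) * S.w = S.w * u * S.w * k * (S.w * S.w) by group, S.w_sq, mul_one]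
      _ = S.w * ((S.w * k * S.w) * u) * S.w := by rw [Subgroup.mem_centralizer_iff.1 hwk.2 u hu]
      _ = k * (S.w * u * S.w) := by
          rw [show S.w * ((S.w * k * S.w) * u) * S.w = (S.w * S.w) * k * (S.w * u * S.w) by group, S.w_sq, one_mul]

/-- `w` centralises the kernel. -/
theorem w_comm_K {k : G} (hk : k ∈ S.K) : S.w * k = k * S.w := by
  obtain ⟨l, hl, hla, hlb⟩ := S.exists_swap_L
  have hlk := S.L_comm_K hl hk
  have hh : l⁻¹ * S.w ∈ S.H := (S.mem_H _).2
    ⟨by rw [mul_smul, S.w_mem.2, inv_smul_eq_iff, hla], by rw [mul_smul, S.swaps_b S.w_mem, inv_smul_eq_iff, hlb]⟩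
  calc S.w * k = l * ((l⁻¹ * S.w) * k) := by group
    _ = (l * k) * (l⁻¹ * S.w) := by rw [S.H_comm hh (S.K_le hk), mul_assoc]
    _ = k * S.w := by rw [hlk]; group

/-- The stabiliser of the block centralises its kernel. -/
theorem stab_comm_K {g : G} (hg : g * S.t = S.t * g) {k : G} (hk : k ∈ S.K) : g * k = k * g := by
  have base : ∀ g : G, g * S.t = S.t * g → g • S.a = S.a → g * k = k * g := by
    intro g hg hga
    obtain ⟨u, hu, h, hh, rfl⟩ := S.exists_mul hga
    have hu0 : u ∈ S.U0 := S.mem_U0.2 ⟨hu, by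
      refine mul_right_cancel (b := h) ?_
      rw [mul_assoc, ← S.H_comm_t hh, ← mul_assoc, hg, mul_assoc]⟩
    rw [mul_assoc, S.H_comm hh (S.K_le hk), ← mul_assoc, Subgroup.mem_centralizer_iff.1 hk.2 u hu0, mul_assoc]
  by_cases hga : g • S.a = S.a
  · exact base g hg hga
  have hya := S.smul_block hg (S.H_fix_a S.t_mem)
  obtain ⟨u, hu, e⟩ := S.exists_U0 hya hga
  have huk := Subgroup.mem_centralizer_iff.1 hk.2 u hu
  have h1 := base (S.w * u⁻¹ * g) (by
    rw [mul_assoc, hg, ← mul_assoc, mul_assoc S.w u⁻¹, (S.mem_U0.1 (inv_mem hu)).2, ← mul_assoc, S.w_comm_t,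
      mul_assoc S.t, mul_assoc S.t]) (by
    rw [mul_smul, mul_smul, ← e, inv_smul_smul, S.swaps_b S.w_mem])
  calc g * k = u * S.w * (S.w * u⁻¹ * g * k) := by
        rw [show u * S.w * (S.w * u⁻¹ * g * k) = u * (S.w * S.w) * u⁻¹ * g * k by group, S.w_sq]; group
    _ = u * (S.w * k) * (S.w * u⁻¹ * g) := by rw [h1]; group
    _ = (u * k) * S.w * (S.w * u⁻¹ * g) := by rw [S.w_comm_K hk]; group
    _ = k * g := by
        rw [huk, show k * u * S.w * (S.w * u⁻¹ * g) = k * u * (S.w * S.w) * u⁻¹ * g by group, S.w_sq]; group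

/-- A non-trivial element of the kernel fixes exactly the block. -/
theorem CU_of_mem_K {k : G} (hk : k ∈ S.K) (h1 : k ≠ 1) : S.CU k = S.U0 := by
  have hle : S.U0 ≤ S.CU k := fun u hu =>
    S.mem_CU.2 ⟨(S.mem_U0.1 hu).1, Subgroup.mem_centralizer_iff.1 hk.2 u hu⟩
  obtain ⟨i, hi, hci⟩ := S.CU_pow k
  refine (Subgroup.eq_of_le_of_card_ge hle ?_).symm
  rw [S.card_U0, hci]
  refine Nat.pow_le_pow_right S.prime.pos ?_
  by_contra hlt
  have hdvd := S.fix_dvd (S.K_le hk)
  rw [hci] at hdvd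
  have hcop : Nat.Coprime (p ^ i + 1) (p ^ (3 * n)) := by
    refine (Nat.Prime.coprime_iff_not_dvd S.prime).2 (fun hd => ?_) |>.symm.pow_right _
    have h' := Nat.dvd_sub hd (dvd_pow_self p (show i ≠ 0 by omega))
    rw [Nat.add_sub_cancel_left] at h'
    exact S.prime.one_lt.ne' (Nat.dvd_one.1 h')
  have hi3 := fix_exponent S.prime (Nat.not_le.1 hlt) hi (hcop.dvd_of_dvd_mul_right ((Dvd.intro _ rfl).trans hdvd))
  refine h1 (eq_of_smul_eq_smul (α := Ω) fun x => ?_)
  have hU : S.CU k = S.U := Subgroup.eq_of_le_of_card_ge inf_le_left (by rw [hci, S.card_U, hi3])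
  rw [one_smul]
  by_cases hx : x = S.a
  · rw [hx, S.H_fix_a (S.K_le hk)]
  · obtain ⟨u, hu, rfl⟩ := S.U_trans x hx
    exact (S.fix_U_iff (S.K_le hk) hu).2 (S.mem_CU.1 (hU.ge hu)).2

theorem fix_of_mem_K {k : G} (hk : k ∈ S.K) (h1 : k ≠ 1) {x : Ω} : k • x = x ↔ S.t • x = x := by
  refine ⟨fun hx => ?_, fun hx => (S.mem_K.1 hk).2 x hx⟩
  by_cases hxa : x = S.a
  · rw [hxa, S.H_fix_a S.t_mem]
  obtain ⟨u, hu, rfl⟩ := S.U_trans x hxa
  have hmem : u ∈ S.CU k := S.mem_CU.2 ⟨hu, (S.fix_U_iff (S.K_le hk) hu).1 hx⟩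
  rw [S.CU_of_mem_K hk h1] at hmem
  exact S.U0_block hmem (S.H_fix_b S.t_mem)

/-- The action on the translations. -/
noncomputable def actU0 : S.H →* MulAut S.U0 where
  toFun h :=
    { toFun := fun u => ⟨(h : G) * u * (h : G)⁻¹, S.mem_U0.2 ⟨S.conj_U h.2 (S.mem_U0.1 u.2).1, by
        calc (h : G) * u * (h : G)⁻¹ * S.t = (h : G) * (u * S.t) * (h : G)⁻¹ := by
              rw [mul_assoc, S.H_comm_t (inv_mem h.2)]; group
          _ = (h : G) * S.t * u * (h : G)⁻¹ := by rw [(S.mem_U0.1 u.2).2]; group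
          _ = S.t * ((h : G) * u * (h : G)⁻¹) := by rw [S.H_comm_t h.2]; group⟩⟩
      invFun := fun u => ⟨(h : G)⁻¹ * u * (h : G), S.mem_U0.2 ⟨by
        simpa using S.conj_U (inv_mem h.2) (S.mem_U0.1 u.2).1, by
        calc (h : G)⁻¹ * u * (h : G) * S.t = (h : G)⁻¹ * (u * S.t) * h := by
              rw [mul_assoc, S.H_comm_t h.2]; group
          _ = (h : G)⁻¹ * S.t * u * h := by rw [(S.mem_U0.1 u.2).2]; group
          _ = S.t * ((h : G)⁻¹ * u * (h : G)) := by rw [S.H_comm_t (inv_mem h.2)]; group⟩⟩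
      left_inv := fun u => Subtype.ext (by group)
      right_inv := fun u => Subtype.ext (by group)
      map_mul' := fun u v => Subtype.ext (by
        show (h : G) * ((u : G) * v) * (h : G)⁻¹ = (h : G) * u * (h : G)⁻¹ * ((h : G) * v * (h : G)⁻¹)
        group) }
  map_one' := MulEquiv.ext fun u => Subtype.ext (by simp)
  map_mul' x y := MulEquiv.ext fun u => Subtype.ext (by
    show (x : G) * y * u * ((x : G) * y)⁻¹ = (x : G) * (y * u * (y : G)⁻¹) * (x : G)⁻¹
    group)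

theorem actU0_eq_one {h : S.H} : S.actU0 h = 1 ↔ (h : G) ∈ S.K := by
  constructor
  · intro e
    refine ⟨h.2, Subgroup.mem_centralizer_iff.2 fun u hu => ?_⟩
    have : (h : G) * u * (h : G)⁻¹ = u := congrArg Subtype.val (DFunLike.congr_fun e (⟨u, hu⟩ : S.U0))
    exact (mul_inv_eq_iff_eq_mul.1 this).symm
  · intro hk
    refine MulEquiv.ext fun u => Subtype.ext ?_
    show (h : G) * u * (h : G)⁻¹ = u
    rw [mul_inv_eq_iff_eq_mul]
    exact (Subgroup.mem_centralizer_iff.1 hk.2 u u.2).symm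

theorem p_not_dvd : ¬ p ∣ Nat.card S.H := fun hd => by
  have h : p ∣ p ^ (2 * n) - 1 := S.card_H ▸ dvd_mul_of_dvd_right hd d
  have h' := Nat.dvd_sub (dvd_pow_self p (show 2 * n ≠ 0 by have := S.n_pos; omega)) h
  rw [Nat.sub_sub_self (Nat.one_le_pow _ _ S.prime.pos)] at h'
  exact S.prime.one_lt.ne' (Nat.dvd_one.1 h')

theorem card_range_actU0 : Nat.card S.K * Nat.card S.actU0.range = Nat.card S.H := by
  have e : Nat.card S.actU0.ker = Nat.card S.K := by
    rw [Nat.card_congr (Subgroup.equivMapOfInjective _ _ S.H.subtype_injective).toEquiv]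
    congr 2
    ext x
    constructor
    · rintro ⟨h, hh, rfl⟩; exact S.actU0_eq_one.1 hh
    · exact fun hx => ⟨⟨x, S.K_le hx⟩, S.actU0_eq_one.2 hx, rfl⟩
  rw [← e, ← Subgroup.index_ker]
  exact S.actU0.ker.card_mul_index

theorem U0_pgroup : IsPGroup p S.U0 := IsPGroup.of_card S.card_U0

theorem bound : FaithBound p S.U0 S.actU0.range := by
  haveI := Fact.mk S.prime
  refine faithBound (p := p) (p ^ n) S.U0 S.card_U0 (by have := S.two_le_q; omega) S.U0_pgroup _ ?_ ?_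
  · rintro _ ⟨x, rfl⟩ _ ⟨y, rfl⟩
    rw [← map_mul, ← map_mul]
    exact congrArg S.actU0 (Subtype.ext (S.H_comm x.2 y.2))
  · exact fun hd => S.p_not_dvd (hd.trans (Subgroup.card_range_dvd _))

/-- The orders of the inverted elements and of the kernel. -/
theorem card_mul_le : Nat.card S.Hminus * Nat.card S.K ∣ 2 * Nat.card S.H ∧
    ∀ k : ℕ, k ∣ Nat.card S.Hminus → k ∣ Nat.card S.K → k ∣ 2 := by
  have key : ∀ k : ℕ, k ∣ Nat.card S.Hminus → k ∣ Nat.card S.K → k ∣ 2 := by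
    intro k hk hk'
    have cyc : ∀ M : Subgroup G, M ≤ S.H → k ∣ Nat.card M → ∃ x ∈ M, orderOf x = k := by
      intro M hM hd
      haveI := S.H_cyclic
      haveI : IsCyclic M := isCyclic_of_injective (Subgroup.inclusion hM) (Subgroup.inclusion_injective _)
      obtain ⟨g, hg⟩ := IsCyclic.exists_ofOrder_eq_natCard (α := M)
      obtain ⟨c, hc⟩ := hd
      refine ⟨((g ^ c : M) : G), (g ^ c).2, ?_⟩
      have hc0 : c ≠ 0 := fun e => by rw [e, mul_zero] at hc; exact (Nat.card_pos (α := M)).ne' hc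
      rw [Subgroup.orderOf_coe, orderOf_pow' _ hc0, hg, hc, Nat.gcd_mul_left_left,
        Nat.mul_div_cancel _ (Nat.pos_of_ne_zero hc0)]
    obtain ⟨x, hx, hxo⟩ := cyc _ S.Hminus_le hk
    obtain ⟨y, hy, hyo⟩ := cyc _ S.K_le hk'
    have hym : y ∈ S.Hminus := (Subgroup.zpowers_le.2 hx)
      (mem_zpowers_of_orderOf_dvd S.H_cyclic (S.Hminus_le hx) (S.K_le hy) (by rw [hxo, hyo]))
    rw [← hyo]
    refine orderOf_dvd_of_pow_eq_one ?_
    have h := (S.mem_Hminus.1 hym).2
    rw [S.w_comm_K hy, mul_assoc, S.w_sq, mul_one] at h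
    rw [pow_two]
    exact mul_eq_one_iff_eq_inv.2 h
  refine ⟨?_, key⟩
  rw [← Nat.gcd_mul_lcm]
  exact Nat.mul_dvd_mul (key _ (Nat.gcd_dvd_left _ _) (Nat.gcd_dvd_right _ _))
    (Nat.lcm_dvd (Subgroup.card_dvd_of_le S.Hminus_le) (Subgroup.card_dvd_of_le S.K_le))

variable [IsSimpleGroup G]

/-- Every element induces an even permutation. -/
theorem sign_eq_one [Fintype Ω] [DecidableEq Ω] (g : G) : Equiv.Perm.sign (MulAction.toPermHom G Ω g) = 1 := by
  set f := (Equiv.Perm.sign (α := Ω)).comp (MulAction.toPermHom G Ω)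
  rcases IsSimpleGroup.eq_bot_or_eq_top_of_normal f.ker inferInstance with h | h
  · exfalso
    have h1 := Nat.card_le_card_of_injective f ((MonoidHom.ker_eq_bot_iff f).1 h)
    have h2 : Nat.card ℤˣ = 2 := by rw [Nat.card_eq_fintype_card]; rfl
    have h3 : Nat.card S.U ≤ Nat.card G := Subgroup.card_le_card_group _
    rw [S.card_U] at h3
    have h4 := S.two_le_q
    have h5 := Nat.pow_le_pow_right S.prime.pos (show n ≤ 3 * n by omega)
    omega
  · exact MonoidHom.mem_ker.1 (h ▸ Subgroup.mem_top g : g ∈ f.ker)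

/-- The order of the kernel. -/
theorem card_K : d * Nat.card S.K = p ^ n + 1 := by
  classical
  have hm := S.card_H
  have hsq : p ^ (2 * n) - 1 = (p ^ n + 1) * (p ^ n - 1) := by
    rw [mul_comm 2, pow_mul, ← one_pow 2, Nat.sq_sub_sq, one_pow]
  rw [hsq] at hm
  have hle : Nat.card S.actU0.range ≤ p ^ n - 1 := by
    have := S.bound.1
    rw [S.card_U0] at this
    omega
  have hq := S.two_le_q
  have hlow : p ^ n + 1 ≤ d * Nat.card S.K := by
    refine Nat.le_of_mul_le_mul_right ?_ (show 0 < p ^ n - 1 by omega)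
    rw [← hm, ← S.card_range_actU0, mul_assoc]
    exact Nat.mul_le_mul_left _ (Nat.mul_le_mul_left _ hle)
  obtain ⟨hdvd, hgcd⟩ := S.card_mul_le
  have hsd : p ^ n - 1 ∣ Nat.card S.Hminus := S.count.2 ▸ S.swaps_dvd
  have hupp : d * Nat.card S.K ∣ 2 * (p ^ n + 1) := by
    refine Nat.dvd_of_mul_dvd_mul_right (show 0 < p ^ n - 1 by omega) ?_
    rw [mul_assoc 2, ← hm, mul_comm 2, mul_assoc d, mul_assoc d]
    exact Nat.mul_dvd_mul_left d (((mul_comm (Nat.card S.K) _).symm ▸ Nat.mul_dvd_mul_right hsd _).trans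
      (by rwa [mul_comm (Nat.card S.H) 2]))
  obtain ⟨c, hc⟩ := hupp
  have hc2 : c = 1 ∨ c = 2 := by
    rcases c with _ | _ | _ | c
    · omega
    · exact Or.inl rfl
    · exact Or.inr rfl
    · nlinarith
  rcases hc2 with rfl | rfl
  swap
  · omega
  exfalso
  rw [mul_one] at hc
  have hdodd : Odd d := by rcases S.d_cases with h | ⟨h, -⟩ <;> rw [h] <;> decide
  have hqodd : Odd (p ^ n) := (S.prime.odd_of_ne_two S.p_ne).pow
  obtain ⟨c', hc'⟩ := hqodd
  by_cases h4 : Even c'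
  · obtain ⟨e, rfl⟩ := h4
    have h4K : 4 ∣ Nat.card S.K := by
      have hcop : Nat.Coprime 4 d := (hdodd.coprime_two_left).pow_left 2
      exact hcop.dvd_of_dvd_mul_left ⟨2 * e + 1, by rw [← hc, hc']; ring⟩
    have h4H : 4 ∣ Nat.card S.Hminus := (Dvd.intro e (by omega) : 4 ∣ p ^ n - 1).trans hsd
    exact absurd (Nat.le_of_dvd (by norm_num) (hgcd 4 h4H h4K)) (by norm_num)
  · obtain ⟨e, rfl⟩ := Nat.not_even_iff_odd.1 h4
    -- a generator of the two-part of the kernel is an odd permutation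
    set v := (Nat.card S.K).factorization 2
    obtain ⟨r, hKr⟩ : ∃ r, Nat.card S.K = 2 ^ v * r := Nat.ordProj_dvd (Nat.card S.K) 2
    have hrodd : Odd r := by
      have := Nat.not_dvd_ordCompl Nat.prime_two (Nat.card_pos (α := S.K)).ne'
      rw [show Nat.card S.K / 2 ^ v = r by rw [hKr, Nat.mul_div_cancel_left _ (by positivity)]] at this
      exact Nat.odd_iff.2 (Nat.two_dvd_ne_zero.1 this)
    have hv0 : v ≠ 0 := fun h0 => by
      have h2 : 2 ∣ Nat.card S.K := by
        have := orderOf_dvd_natCard (⟨S.t, S.t_mem_K⟩ : S.K)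
        rwa [Subgroup.orderOf_mk, S.t_order] at this
      rw [hKr, h0, pow_zero, one_mul] at h2
      exact Nat.not_even_iff_odd.2 hrodd (even_iff_two_dvd.2 h2)
    haveI := S.H_cyclic
    haveI : IsCyclic S.K := isCyclic_of_injective (Subgroup.inclusion S.K_le) (Subgroup.inclusion_injective _)
    obtain ⟨g, hg⟩ := IsCyclic.exists_ofOrder_eq_natCard (α := S.K)
    have hr0 : r ≠ 0 := fun h => Nat.not_even_iff_odd.2 hrodd (h ▸ ⟨0, rfl⟩)
    set k : G := ((g ^ r : S.K) : G)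
    have hkK : k ∈ S.K := (g ^ r).2
    have hko : orderOf k = 2 ^ v := by
      rw [Subgroup.orderOf_coe, orderOf_pow' _ hr0, hg, hKr, Nat.gcd_mul_left_left,
        Nat.mul_div_cancel _ (Nat.pos_of_ne_zero hr0)]
    letI := Fintype.ofFinite Ω
    set σ := MulAction.toPermHom G Ω k
    have hσapp : ∀ x, σ x = k • x := fun x => rfl
    have hσpow : ∀ (i : ℕ) x, (σ ^ i) x = (k ^ i) • x := fun i x => by
      show ((MulAction.toPermHom G Ω k) ^ i) x = _
      rw [← map_pow]; rfl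
    have htop : σ ^ 2 ^ v = 1 := by rw [← hko, ← map_pow, pow_orderOf_eq_one, map_one]
    have hk1 : k ^ 2 ^ (v - 1) ≠ 1 := fun h => by
      have := orderOf_dvd_of_pow_eq_one h
      rw [hko] at this
      have := (Nat.pow_dvd_pow_iff_le_right (by norm_num)).1 this
      omega
    have hkne : k ≠ 1 := fun h => hk1 (by rw [h, one_pow])
    have hcyc : ∀ l ∈ σ.cycleType, l = 2 ^ v := by
      intro l hl
      have hdl := (Equiv.Perm.dvd_of_mem_cycleType hl).trans (orderOf_dvd_of_pow_eq_one htop)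
      obtain ⟨i, hi, rfl⟩ := (Nat.dvd_prime_pow Nat.prime_two).1 hdl
      rcases eq_or_lt_of_le hi with rfl | hlt
      · rfl
      exfalso
      rw [Equiv.Perm.cycleType_def, Multiset.mem_map] at hl
      obtain ⟨τ, hτ, hcard⟩ := hl
      obtain ⟨x, hx⟩ := (Equiv.Perm.mem_cycleFactorsFinset_iff.1 hτ).1.nonempty_support
      have hcy := (Equiv.Perm.mem_cycleFactorsFinset_iff.1 hτ).1
      have hox : orderOf τ = 2 ^ i := by rw [hcy.orderOf, ← hcard]; rfl
      have hτσ : τ = σ.cycleOf x := (Equiv.Perm.cycle_is_cycleOf hx hτ).symm ▸ rfl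
      have h1 : (σ ^ 2 ^ i) x = x := by
        rw [← Equiv.Perm.cycleOf_pow_apply_self, ← hτσ, ← hox, pow_orderOf_eq_one]; rfl
      have h2 : (k ^ 2 ^ (v - 1)) • x = x := by
        rw [← hσpow, show 2 ^ (v - 1) = 2 ^ i * 2 ^ (v - 1 - i) by rw [← pow_add]; congr 1; omega, pow_mul]
        exact Equiv.Perm.pow_apply_eq_self_of_apply_eq_self h1 _
      have h3 : σ x ≠ x := Equiv.Perm.mem_support.1
        ((Equiv.Perm.mem_cycleFactorsFinset_support_le hτ) hx)
      exact h3 ((S.fix_of_mem_K hkK hkne).2 ((S.fix_of_mem_K (pow_mem hkK _) hk1).1 h2))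
    have hsupp : σ.support.card + (p ^ n + 1) = p ^ (3 * n) + 1 := by
      have hfix : (Finset.univ.filter fun x => σ x = x).card = p ^ n + 1 := by
        rw [← S.card_U0, U0, ← S.card_fix S.t_mem, ← Set.ncard_coe_finset]
        congr 1
        ext x
        simp only [Finset.coe_filter, Finset.mem_univ, true_and, Set.mem_ofPred_eq, mem_fixedBy]
        exact S.fix_of_mem_K hkK hkne
      have h := Finset.card_filter_add_card_filter_not (s := (Finset.univ : Finset Ω)) (fun x => σ x = x)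
      rw [hfix, Finset.card_univ, ← Nat.card_eq_fintype_card, S.card_Omega] at h
      have hs : σ.support = Finset.univ.filter fun x => ¬ σ x = x := by ext x; simp
      rw [hs]; omega
    have hrep : σ.cycleType = Multiset.replicate (Multiset.card σ.cycleType) (2 ^ v) :=
      Multiset.eq_replicate_card.2 hcyc
    have hsum := σ.sum_cycleType
    rw [hrep, Multiset.sum_replicate, smul_eq_mul] at hsum
    have hN : Multiset.card σ.cycleType = p ^ n * (2 * e + 1) * (d * r) := by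
      refine Nat.eq_of_mul_eq_mul_right (show 0 < 2 ^ v by positivity) ?_
      rw [hsum]
      have h5 : p ^ n * (2 * e + 1) * (d * r) * 2 ^ v + (p ^ n + 1) = p ^ (3 * n) + 1 := by
        rw [show p ^ n * (2 * e + 1) * (d * r) * 2 ^ v = p ^ n * (2 * e + 1) * (d * (2 ^ v * r)) by ring, ← hKr,
          ← hc, mul_comm 3, pow_mul, hc']
        ring
      omega
    have hsign := S.sign_eq_one k
    rw [show MulAction.toPermHom G Ω k = σ from rfl, Equiv.Perm.sign_of_cycleType, hrep, Multiset.sum_replicate,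
      smul_eq_mul, Multiset.card_replicate, Odd.neg_one_pow ?_] at hsign
    · exact absurd hsign (by decide)
    · rw [hN]
      refine Even.add_odd (Nat.even_pow.2 ⟨even_two, hv0⟩ |>.mul_left _) ?_
      exact ((S.prime.odd_of_ne_two S.p_ne).pow.mul ⟨e, rfl⟩).mul (hdodd.mul hrodd)

theorem card_range : Nat.card S.actU0.range + 1 = p ^ n := by
  have h := S.card_H
  rw [← S.card_range_actU0, ← mul_assoc, S.card_K,
    show p ^ (2 * n) - 1 = (p ^ n + 1) * (p ^ n - 1) by
      rw [mul_comm 2, pow_mul, ← one_pow 2, Nat.sq_sub_sq, one_pow]] at h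
  have := Nat.eq_of_mul_eq_mul_left (Nat.succ_pos _) h
  have := S.two_le_q
  omega

theorem U0_comm {u v : G} (hu : u ∈ S.U0) (hv : v ∈ S.U0) : u * v = v * u :=
  congrArg Subtype.val ((S.bound.2 (by rw [S.card_U0]; exact S.card_range)).1 ⟨u, hu⟩ ⟨v, hv⟩)

theorem U0_pow {u : G} (hu : u ∈ S.U0) : u ^ p = 1 :=
  congrArg Subtype.val ((S.bound.2 (by rw [S.card_U0]; exact S.card_range)).2.1 ⟨u, hu⟩)

theorem mem_K_of_comm {h u : G} (hh : h ∈ S.H) (hu : u ∈ S.U0) (h1 : u ≠ 1) (hc : h * u = u * h) : h ∈ S.K := by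
  by_contra hK
  have := (S.bound.2 (by rw [S.card_U0]; exact S.card_range)).2.2 (S.actU0 ⟨h, hh⟩) ⟨_, rfl⟩
    (fun e => hK (S.actU0_eq_one.1 e)) ⟨u, hu⟩ (Subtype.ext (mul_inv_eq_iff_eq_mul.2 hc))
  exact h1 (congrArg Subtype.val this)

theorem trans_U0 {u v : G} (hu : u ∈ S.U0) (hu1 : u ≠ 1) (hv : v ∈ S.U0) (hv1 : v ≠ 1) :
    ∃ h ∈ S.H, h * u * h⁻¹ = v := by
  classical
  have hs := (S.bound.2 (by rw [S.card_U0]; exact S.card_range)).2.2
  let f : S.actU0.range → {x : S.U0 // x ≠ 1} := fun c => ⟨(c : MulAut S.U0) ⟨u, hu⟩, by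
    rw [ne_eq, MulEquiv.map_eq_one_iff]; exact fun e => hu1 (congrArg Subtype.val e)⟩
  have hf : Function.Injective f := by
    intro c c' e
    have e' : (c : MulAut S.U0) ⟨u, hu⟩ = (c' : MulAut S.U0) ⟨u, hu⟩ := congrArg Subtype.val e
    by_contra hne
    refine hu1 (congrArg Subtype.val (hs _ (mul_mem (inv_mem c'.2) c.2)
      (fun h => hne (Subtype.ext (inv_mul_eq_one.1 h).symm)) ⟨u, hu⟩ ?_))
    rw [MulAut.mul_apply, e', MulAut.inv_apply_self]
  haveI : Finite (MulAut S.U0) := Finite.of_injective _ DFunLike.coe_injective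
  have hcard : Nat.card S.actU0.range = Nat.card {x : S.U0 // x ≠ 1} := by
    letI := Fintype.ofFinite S.U0
    have h := S.card_range
    rw [← S.card_U0, Nat.card_eq_fintype_card (α := S.U0)] at h
    rw [Nat.card_eq_fintype_card (α := {x : S.U0 // x ≠ 1}), Fintype.card_subtype_compl, Fintype.card_subtype_eq]
    omega
  obtain ⟨⟨_, h, rfl⟩, e⟩ := ((Nat.bijective_iff_injective_and_card f).2 ⟨hf, hcard⟩).2
    ⟨⟨v, hv⟩, fun e => hv1 (congrArg Subtype.val e)⟩
  exact ⟨h, h.2, congrArg Subtype.val (congrArg Subtype.val e)⟩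

end Setting

end CfsgLib.U3Odd
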