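/-
A finite abelian section irreducible under an abelian group of operators is a finite field, with the operators acting
as scalars.
-/
import Mathlib

set_option autoImplicit false
set_option linter.style.haveILetI false
set_option linter.unusedSectionVars false

namespace CfsgLib.U3Odd

variable {G : Type*} [Group G]

/-- A section `V / N`, irreducible under the abelian group `H`, as a finite field. -/
theorem exists_field_coord [Finite G] {p m : ℕ} [Fact p.Prime] (hm : m ≠ 0) {V N H : Subgroup G} (hN : N ≤ V)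
    (hcomm : ∀ u ∈ V, ∀ v ∈ V, u * v * u⁻¹ * v⁻¹ ∈ N) (hV : ∀ h ∈ H, ∀ v ∈ V, h * v * h⁻¹ ∈ V)
    (hNH : ∀ h ∈ H, ∀ v ∈ N, h * v * h⁻¹ ∈ N) (hH : ∀ h ∈ H, ∀ k ∈ H, h * k = k * h)
    (hirr : ∀ M : Subgroup G, N ≤ M → M ≤ V → (∀ h ∈ H, ∀ v ∈ M, h * v * h⁻¹ ∈ M) → M = N ∨ M = V)
    (hcard : Nat.card V = p ^ m * Nat.card N) :
    ∃ β χ : G → GaloisField p m,
      (∀ u ∈ V, ∀ v ∈ V, β (u * v) = β u + β v) ∧ (∀ u ∈ V, β u = 0 ↔ u ∈ N) ∧ (∀ x, ∃ u ∈ V, β u = x) ∧
      (∀ h ∈ H, χ h ≠ 0) ∧ (∀ h ∈ H, ∀ k ∈ H, χ (h * k) = χ h * χ k) ∧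
      (∀ h ∈ H, ∀ u ∈ V, β (h * u * h⁻¹) = χ h * β u) := by
  classical
  haveI hnor : (N.subgroupOf V).Normal := ⟨fun x hx y => by
    rw [Subgroup.mem_subgroupOf] at hx ⊢
    have h := mul_mem (hcomm y y.2 x x.2) hx
    simpa [mul_assoc] using h⟩
  let A := V ⧸ N.subgroupOf V
  letI : CommGroup A :=
    { (inferInstance : Group A) with
      mul_comm := by
        intro x y
        obtain ⟨u, rfl⟩ := QuotientGroup.mk_surjective x
        obtain ⟨v, rfl⟩ := QuotientGroup.mk_surjective y
        show ((u * v : V) : A) = ((v * u : V) : A)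
        rw [QuotientGroup.eq, Subgroup.mem_subgroupOf]
        have h := hcomm (v : G)⁻¹ (inv_mem v.2) (u : G)⁻¹ (inv_mem u.2)
        simpa [mul_assoc] using h }
  let cV : H → (V →* V) := fun h =>
    { toFun := fun v => ⟨(h : G) * v * (h : G)⁻¹, hV h h.2 v v.2⟩
      map_one' := Subtype.ext (by simp)
      map_mul' := fun x y => Subtype.ext (by simp [mul_assoc]) }
  let act : H → AddMonoid.End (Additive A) := fun h =>
    MonoidHom.toAdditive (QuotientGroup.map (N.subgroupOf V) (N.subgroupOf V) (cV h) fun x hx => by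
      rw [Subgroup.mem_comap, Subgroup.mem_subgroupOf]
      exact hNH h h.2 x hx)
  have hact : ∀ (h : H) (v : V), act h (Additive.ofMul ((v : V) : A)) = Additive.ofMul ((cV h v : V) : A) :=
    fun h v => rfl
  have hmul : ∀ h k : H, act (h * k) = act h * act k := by
    intro h k
    refine AddMonoidHom.ext fun x => ?_
    obtain ⟨v, hv⟩ := QuotientGroup.mk_surjective (Additive.toMul x)
    obtain rfl : x = Additive.ofMul ((v : V) : A) := by rw [hv]; rfl
    show act (h * k) _ = act h (act k _)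
    rw [hact, hact, hact]
    congr 2
    exact Subtype.ext (by simp [cV, mul_assoc])
  have hsc : ∀ h k : H, act h * act k = act k * act h := fun h k => by
    rw [← hmul, ← hmul, Subtype.ext (hH h h.2 k k.2) (a1 := h * k) (a2 := k * h)]
  let R := Subring.closure (Set.range act)
  have hR : ∀ x ∈ Set.range act, ∀ y ∈ Set.range act, x * y = y * x := by
    rintro _ ⟨h, rfl⟩ _ ⟨k, rfl⟩
    exact hsc h k
  haveI hRc : IsMulCommutative R := Subring.isMulCommutative_closure hR
  letI : CommRing R := { (inferInstance : Ring R) with mul_comm := fun x y => hRc.is_comm.comm x y }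
  -- invariant subgroups
  have hinv : ∀ W : AddSubgroup (Additive A), (∀ h, ∀ x ∈ W, act h x ∈ W) → W = ⊥ ∨ W = ⊤ := by
    intro W hW
    let M : Subgroup G := ((AddSubgroup.toSubgroup' W).comap (QuotientGroup.mk' (N.subgroupOf V))).map V.subtype
    have hM : ∀ v : V, (v : G) ∈ M ↔ Additive.ofMul ((v : V) : A) ∈ W := by
      intro v
      constructor
      · rintro ⟨w, hw, e⟩
        rw [← Subtype.ext e]
        exact hw
      · exact fun hv => ⟨v, hv, rfl⟩
    have h1 : N ≤ M := fun x hx => (hM ⟨x, hN hx⟩).2 (by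
      rw [show ((⟨x, hN hx⟩ : V) : A) = 1 from (QuotientGroup.eq_one_iff _).2 hx]
      exact W.zero_mem)
    have h2 : M ≤ V := Subgroup.map_subtype_le _
    rcases hirr M h1 h2 (fun h hh v hv => (hM ⟨_, hV h hh v (h2 hv)⟩).2 (by
      have := hW ⟨h, hh⟩ _ ((hM ⟨v, h2 hv⟩).1 hv)
      exact this)) with e | e
    · left
      refine (AddSubgroup.eq_bot_iff_forall _).2 fun x hx => ?_
      obtain ⟨v, hv⟩ := QuotientGroup.mk_surjective (Additive.toMul x)
      obtain rfl : x = Additive.ofMul ((v : V) : A) := by rw [hv]; rfl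
      have : (v : G) ∈ N := e ▸ (hM v).2 hx
      rw [show ((v : V) : A) = 1 from (QuotientGroup.eq_one_iff _).2 this]
      rfl
    · right
      refine (AddSubgroup.eq_top_iff' _).2 fun x => ?_
      obtain ⟨v, hv⟩ := QuotientGroup.mk_surjective (Additive.toMul x)
      obtain rfl : x = Additive.ofMul ((v : V) : A) := by rw [hv]; rfl
      exact (hM v).1 (e.symm ▸ v.2)
  have hcA : Nat.card (Additive A) = p ^ m := by
    rw [Nat.card_congr Additive.toMul]
    have h := Subgroup.card_eq_card_quotient_mul_card_subgroup (N.subgroupOf V)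
    rw [Nat.card_congr (Subgroup.subgroupOfEquivOfLe hN).toEquiv, hcard] at h
    exact (Nat.eq_of_mul_eq_mul_right Nat.card_pos h).symm
  haveI : Finite (Additive A) := inferInstanceAs (Finite (V ⧸ N.subgroupOf V))
  haveI : Nontrivial (Additive A) := Finite.one_lt_card_iff_nontrivial.1 (by
    rw [hcA]; exact Nat.one_lt_pow hm (Fact.out : p.Prime).one_lt)
  obtain ⟨a0, ha0⟩ := exists_ne (0 : Additive A)
  have hcommR : ∀ (r : R) (h : H), (r : AddMonoid.End (Additive A)) * act h = act h * r := fun r h =>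
    congrArg Subtype.val (mul_comm r (⟨act h, Subring.subset_closure ⟨h, rfl⟩⟩ : R))
  have hinj : ∀ r : R, r ≠ 0 → Function.Injective (r : AddMonoid.End (Additive A)) := by
    intro r hr
    let f : Additive A →+ Additive A := (r : AddMonoid.End (Additive A))
    rcases hinv f.ker (fun h x hx => by
      change (r : AddMonoid.End (Additive A)) x = 0 at hx
      show (r : AddMonoid.End (Additive A)) (act h x) = 0
      have := DFunLike.congr_fun (hcommR r h) x
      rw [AddMonoid.End.coe_mul, AddMonoid.End.coe_mul, Function.comp_apply, Function.comp_apply] at this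
      exact this.trans ((congrArg (act h) hx).trans (map_zero _))) with e | e
    · exact (AddMonoidHom.ker_eq_bot_iff f).1 e
    · exact absurd (Subtype.ext (AddMonoidHom.ext fun x => AddMonoidHom.mem_ker.1 (e ▸ AddSubgroup.mem_top x))) hr
  let ev : R →+ Additive A :=
    { toFun := fun r => (r : AddMonoid.End (Additive A)) a0
      map_zero' := rfl
      map_add' := fun _ _ => rfl }
  have evinj : Function.Injective ev := by
    refine (injective_iff_map_eq_zero _).2 fun r hr => ?_
    by_contra hne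
    exact ha0 (hinj r hne (hr.trans (map_zero (r : AddMonoid.End (Additive A))).symm))
  have evsur : Function.Surjective ev := by
    rcases hinv ev.range (fun h x hx => by
      obtain ⟨r, rfl⟩ := hx
      exact ⟨⟨act h, Subring.subset_closure ⟨h, rfl⟩⟩ * r, rfl⟩) with e | e
    · exact absurd (show ev 1 = 0 from AddSubgroup.mem_bot.1 (e ▸ ⟨1, rfl⟩)) ha0
    · exact AddMonoidHom.range_eq_top.1 e
  have hfield : IsField R := by
    refine ⟨⟨0, 1, fun h => ha0 (congrArg ev h).symm⟩, fun x y => mul_comm x y, fun {r} hr => ?_⟩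
    obtain ⟨y, hy⟩ := Finite.injective_iff_surjective.1 (hinj r hr) a0
    obtain ⟨s, rfl⟩ := evsur y
    exact ⟨s, evinj hy⟩
  letI : Field R := hfield.toField
  haveI : Finite R := Finite.of_injective ev evinj
  letI : Fintype R := Fintype.ofFinite R
  letI : Fintype (GaloisField p m) := Fintype.ofFinite _
  let φ : R ≃+* GaloisField p m := FiniteField.ringEquivOfCardEq (by
    rw [← Nat.card_eq_fintype_card, ← Nat.card_eq_fintype_card, Nat.card_eq_of_bijective ev ⟨evinj, evsur⟩, hcA,
      GaloisField.card p m hm])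
  let e : R ≃+ Additive A := AddEquiv.ofBijective ev ⟨evinj, evsur⟩
  let β : G → GaloisField p m := fun g =>
    if hg : g ∈ V then φ (e.symm (Additive.ofMul ((⟨g, hg⟩ : V) : A))) else 0
  let χ : G → GaloisField p m := fun g =>
    if hg : g ∈ H then φ ⟨act ⟨g, hg⟩, Subring.subset_closure ⟨_, rfl⟩⟩ else 0
  have hβ : ∀ (g : G) (hg : g ∈ V), β g = φ (e.symm (Additive.ofMul ((⟨g, hg⟩ : V) : A))) := fun g hg => dif_pos hg
  have hχ : ∀ (g : G) (hg : g ∈ H), χ g = φ ⟨act ⟨g, hg⟩, Subring.subset_closure ⟨_, rfl⟩⟩ :=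
    fun g hg => dif_pos hg
  refine ⟨β, χ, fun u hu v hv => ?_, fun u hu => ?_, fun x => ?_, fun h hh => ?_, fun h hh k hk => ?_,
    fun h hh u hu => ?_⟩
  · rw [hβ u hu, hβ v hv, hβ _ (mul_mem hu hv), ← map_add, ← map_add]
    rfl
  · rw [hβ u hu, map_eq_zero_iff φ φ.injective, map_eq_zero_iff e.symm e.symm.injective]
    exact (QuotientGroup.eq_one_iff _).trans Subgroup.mem_subgroupOf
  · obtain ⟨v, hv⟩ := QuotientGroup.mk_surjective (Additive.toMul (e (φ.symm x)))
    refine ⟨v, v.2, ?_⟩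
    rw [hβ v v.2, Subtype.coe_eta, hv]
    simp
  · rw [hχ h hh, Ne, map_eq_zero_iff φ φ.injective]
    intro h0
    have h1 : act ⟨h, hh⟩ = 0 := congrArg Subtype.val h0
    have h2 := hmul ⟨h⁻¹, inv_mem hh⟩ ⟨h, hh⟩
    rw [h1, mul_zero] at h2
    have h3 : act 1 = 0 := by rw [← h2]; congr 1; exact Subtype.ext (inv_mul_cancel h).symm
    have h4 : ∀ v : V, ((cV 1 v : V) : A) = (v : A) := fun v => by congr 1; exact Subtype.ext (by simp [cV])
    obtain ⟨v, hv⟩ := QuotientGroup.mk_surjective (Additive.toMul a0)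
    refine ha0 ?_
    calc a0 = Additive.ofMul ((cV 1 v : V) : A) := by rw [h4, hv]; rfl
      _ = act 1 (Additive.ofMul ((v : V) : A)) := (hact 1 v).symm
      _ = 0 := by rw [h3]; rfl
  · rw [hχ h hh, hχ k hk, hχ _ (mul_mem hh hk), ← map_mul]
    exact congrArg φ (Subtype.ext (hmul ⟨h, hh⟩ ⟨k, hk⟩))
  · rw [hχ h hh, hβ u hu, hβ _ (hV h hh u hu), ← map_mul]
    refine congrArg φ (e.injective ?_)
    rw [AddEquiv.apply_symm_apply]
    exact (hact ⟨h, hh⟩ ⟨u, hu⟩).symm.trans (congrArg (act ⟨h, hh⟩) (e.apply_symm_apply _).symm)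

end CfsgLib.U3Odd
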