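/-
The translations of the block are central in the regular normal subgroup, with an irreducible quotient: coordinates of
both layers in the fields of `q ^ 2` and `q` elements.
-/
import Cfsg.Agent.U3Odd.Block
import Cfsg.Agent.U3Odd.Field

set_option autoImplicit false
set_option linter.style.haveILetI false
set_option linter.unusedSectionVars false

namespace CfsgLib.U3Odd

open MulAction

/-- A group acting freely on an invariant set divides its size. -/
lemma card_dvd_of_free {G Ω : Type*} [Group G] [MulAction G Ω] {T : Subgroup G} {X : Set Ω}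
    (hinv : ∀ g ∈ T, ∀ x ∈ X, g • x ∈ X) (hfree : ∀ g ∈ T, ∀ x ∈ X, g • x = x → g = 1) :
    Nat.card T ∣ X.ncard := by
  let Y : SubMulAction T Ω := { carrier := X, smul_mem' := fun g x hx => hinv g g.2 x hx }
  have h : ∀ y : Y, MulAction.stabilizer T y = ⊥ := fun y => (Subgroup.eq_bot_iff_forall _).2 fun g hg =>
    Subtype.ext (hfree g g.2 y y.2 (congrArg Subtype.val (mem_stabilizer_iff.1 hg)))
  have e := Nat.card_congr (MulAction.selfEquivOrbitsQuotientProd h)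
  rw [Nat.card_prod] at e
  rw [← Nat.card_coe_set_eq]
  exact Dvd.intro_left _ e.symm

/-- A divisor `(q + 1) / d` of `p ^ i - 1` forces `i` to be large. -/
lemma exponent_arith {p n d i k : ℕ} (hp : p.Prime) (hp2 : p ≠ 2) (hd : d = 1 ∨ d = 3) (hk : d * k = p ^ n + 1)
    (hi : 0 < i) (hi2 : i < 2 * n) (h : k ∣ p ^ i - 1) : p = 5 ∧ n = 1 ∧ i = 1 := by
  have hq2 : 1 ≤ p ^ n := Nat.one_le_pow _ _ hp.pos
  have hksq : k ∣ p ^ (2 * n) - 1 := by
    rw [mul_comm, pow_mul, ← one_pow 2, Nat.sq_sub_sq, ← hk]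
    exact Dvd.dvd.mul_right (Dvd.intro_left _ rfl) _
  have hg := Nat.dvd_gcd hksq h
  rw [Nat.pow_sub_one_gcd_pow_sub_one] at hg
  obtain ⟨g, hgdef⟩ : ∃ g, g = Nat.gcd (2 * n) i := ⟨_, rfl⟩
  rw [← hgdef] at hg
  have hgi : g ∣ i := hgdef ▸ Nat.gcd_dvd_right _ _
  have hgn : g ∣ 2 * n := hgdef ▸ Nat.gcd_dvd_left _ _
  have hg0 : 0 < g := Nat.pos_of_dvd_of_pos hgi hi
  have hgi' := Nat.le_of_dvd hi hgi
  obtain ⟨c, hc⟩ := hgn
  have hp3 : 3 ≤ p := by have := hp.two_le; omega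
  have hgle : g ≤ n := by
    rcases c with _ | _ | c
    · omega
    · omega
    · nlinarith
  rcases eq_or_lt_of_le hgle with e | hlt
  · subst e
    have h2 : k ∣ 2 := by
      have h1 : k ∣ p ^ g + 1 := hk ▸ Dvd.intro_left _ rfl
      have := Nat.dvd_sub h1 hg
      rwa [show p ^ g + 1 - (p ^ g - 1) = 2 by omega] at this
    have hk2 := Nat.le_of_dvd two_pos h2
    have hp5 : p ^ g ≤ 5 := by rcases hd with rfl | rfl <;> omega
    have hg1 : g = 1 := by
      by_contra hne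
      have := Nat.pow_le_pow_right hp.pos (show 2 ≤ g by omega)
      nlinarith
    subst hg1
    rw [pow_one] at hp5 hk
    refine ⟨?_, rfl, by omega⟩
    interval_cases p
    · rcases hd with rfl | rfl <;> omega
    · exact absurd hp (by norm_num)
    · rfl
  · exfalso
    have h1 : p ^ g * p ≤ p ^ n := by
      rw [← pow_succ]
      exact Nat.pow_le_pow_right hp.pos hlt
    have h2 : 1 < p ^ g := Nat.one_lt_pow hg0.ne' hp.one_lt
    have h3 := Nat.le_of_dvd (by omega) hg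
    have h4 : p ^ g * 3 ≤ p ^ g * p := Nat.mul_le_mul_left _ hp3
    rcases hd with rfl | rfl <;> omega

variable {G Ω : Type*} [Group G] [MulAction G Ω] [Finite G] [Finite Ω] [FaithfulSMul G Ω] [IsSimpleGroup G]
  {p n d : ℕ}

namespace Setting

variable (S : Setting G Ω p n d)
include S

theorem d_eq_one_or_three : d = 1 ∨ d = 3 := S.d_cases.imp id And.left

theorem U_fix_b_iff {u : G} (hu : u ∈ S.U) : S.t • (u • S.b) = u • S.b ↔ u ∈ S.U0 :=
  (S.fix_U_iff S.t_mem hu).trans ⟨fun e => S.mem_U0.2 ⟨hu, e⟩, fun e => (S.mem_U0.1 e).2⟩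

/-- Subgroups between the block translations and `U` invariant under `H` are trivial. -/
theorem invariant_eq {M : Subgroup G} (h0 : S.U0 ≤ M) (h1 : M ≤ S.U)
    (hM : ∀ h ∈ S.H, ∀ u ∈ M, h * u * h⁻¹ ∈ M) : M = S.U0 ∨ M = S.U := by
  classical
  obtain ⟨j, hj, hcM⟩ := (Nat.dvd_prime_pow S.prime).1 (S.card_U ▸ Subgroup.card_dvd_of_le h1)
  by_cases hj1 : j = n
  · exact Or.inl (Subgroup.eq_of_le_of_card_ge h0 (by rw [hcM, S.card_U0, hj1])).symm
  by_cases hj3 : j = 3 * n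
  · exact Or.inr (Subgroup.eq_of_le_of_card_ge h1 (by rw [hcM, S.card_U, hj3]))
  exfalso
  have hnj : n ≤ j := by
    have := Nat.le_of_dvd Nat.card_pos (Subgroup.card_dvd_of_le h0)
    rw [S.card_U0, hcM] at this
    exact (Nat.pow_le_pow_iff_right S.prime.one_lt).1 this
  set f : G → Ω := fun u => u • S.b with hf
  set X : Set Ω := f '' ((M : Set G) \ (S.U0 : Set G)) with hX
  have hXc : X.ncard = p ^ j - p ^ n := by
    rw [hX, Set.InjOn.ncard_image (fun u hu v hv e => S.U_eq (h1 hu.1) (h1 hv.1) e),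
      Set.ncard_sdiff h0, ← hcM, ← S.card_U0, ← Nat.card_coe_set_eq, ← Nat.card_coe_set_eq]
    rfl
  have hinv : ∀ g ∈ S.H, ∀ x ∈ X, g • x ∈ X := by
    rintro g hg _ ⟨u, ⟨hu, hu0⟩, rfl⟩
    refine ⟨g * u * g⁻¹, ⟨hM g hg u hu, fun hc => hu0 ?_⟩, ?_⟩
    · have hc' := S.mem_U0.1 hc
      refine S.mem_U0.2 ⟨h1 hu, ?_⟩
      have e := hc'.2
      calc u * S.t = g⁻¹ * (g * u * g⁻¹ * (g * S.t)) := by group
        _ = g⁻¹ * (g * u * g⁻¹ * (S.t * g)) := by rw [S.H_comm_t hg]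
        _ = g⁻¹ * (g * u * g⁻¹ * S.t * g) := by group
        _ = g⁻¹ * S.t * (g * u) := by rw [e]; group
        _ = S.t * u := by rw [S.H_comm_t (inv_mem hg)]; group
    · show (g * u * g⁻¹) • S.b = g • u • S.b
      rw [mul_smul, mul_smul, inv_smul_eq_iff.2 (S.H_fix_b hg).symm]
  have hfreeK : ∀ g ∈ S.K, ∀ x ∈ X, g • x = x → g = 1 := by
    rintro g hg _ ⟨u, ⟨hu, hu0⟩, rfl⟩ e
    by_contra hne
    exact hu0 ((S.U_fix_b_iff (h1 hu)).1 ((S.fix_of_mem_K hg hne).1 e))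
  have hk := card_dvd_of_free (fun g hg => hinv g (S.K_le hg)) hfreeK
  rw [hXc, show p ^ j - p ^ n = p ^ n * (p ^ (j - n) - 1) by
    rw [Nat.mul_sub_one, ← pow_add, Nat.add_sub_cancel' hnj]] at hk
  have hcop : Nat.Coprime (Nat.card S.K) (p ^ n) :=
    ((S.prime.coprime_iff_not_dvd.2 fun hd => S.p_not_dvd (hd.trans (Subgroup.card_dvd_of_le S.K_le))).symm).pow_right _
  obtain ⟨hp5, hn1, hi⟩ := exponent_arith S.prime S.p_ne S.d_eq_one_or_three S.card_K (by omega) (by omega)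
    (hcop.dvd_of_dvd_mul_left hk)
  -- q = 5
  subst hp5 hn1
  have hd3 : d = 3 := by rw [S.d_eq]; norm_num
  have hH8 : Nat.card S.H = 8 := by
    have := S.card_H
    subst hd3
    norm_num at this
    omega
  have hfreeH : ∀ g ∈ S.H, ∀ x ∈ X, g • x = x → g = 1 := by
    rintro g hg _ ⟨u, ⟨hu, hu0⟩, rfl⟩ e
    by_contra hne
    have h8 : orderOf g ∣ 2 ^ 3 := by
      rw [← Subgroup.orderOf_mk g hg]
      exact (orderOf_dvd_natCard _).trans (by rw [hH8]; norm_num)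
    obtain ⟨e2, he2, hoe⟩ := (Nat.dvd_prime_pow Nat.prime_two).1 h8
    obtain ⟨e3, rfl⟩ : ∃ e3, e2 = e3 + 1 :=
      ⟨e2 - 1, by rcases e2 with _ | _ <;> [exact absurd (orderOf_eq_one_iff.1 hoe) hne; omega]⟩
    have hne2 : g ^ 2 ^ e3 ≠ 1 := fun e' => by
      have h := Nat.le_of_dvd (by positivity) (orderOf_dvd_of_pow_eq_one e')
      rw [hoe, pow_succ] at h
      have : 0 < 2 ^ e3 := by positivity
      omega
    have ht : g ^ 2 ^ e3 = S.t := (S.t_unique (pow_mem hg _) (by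
      rw [← pow_add, ← two_mul, ← pow_succ', ← hoe, pow_orderOf_eq_one])).resolve_left hne2
    refine hu0 ((S.U_fix_b_iff (h1 hu)).1 ?_)
    show S.t • f u = f u
    rw [← ht]
    exact mem_stabilizer_iff.1 (pow_mem (mem_stabilizer_iff.2 e) _)
  have hH := card_dvd_of_free hinv hfreeH
  rw [hXc, hH8] at hH
  have hj2 : j = 2 := by omega
  subst hj2
  norm_num at hH

theorem U0_le : S.U0 ≤ S.U := inf_le_left

theorem conj_U0 {h u : G} (hh : h ∈ S.H) (hu : u ∈ S.U0) : h * u * h⁻¹ ∈ S.U0 :=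
  ((S.actU0 ⟨h, hh⟩) ⟨u, hu⟩).2

theorem U_pgroup : IsPGroup p S.U := IsPGroup.of_card S.card_U

/-- The block translations are normal in `U`. -/
theorem U0_normal {u v : G} (hu : u ∈ S.U) (hv : v ∈ S.U0) : u * v * u⁻¹ ∈ S.U0 := by
  haveI := Fact.mk S.prime
  let N := Subgroup.normalizer (S.U0 : Set G) ⊓ S.U
  have hU0N : S.U0 ≤ N := le_inf Subgroup.le_normalizer S.U0_le
  have hN : N = S.U := by
    refine (S.invariant_eq hU0N inf_le_right fun h hh x hx => ⟨?_, S.conj_U hh hx.2⟩).resolve_left fun e => ?_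
    · have hnh : h ∈ Subgroup.normalizer (S.U0 : Set G) := Subgroup.mem_normalizer_iff.2 fun y =>
        ⟨fun hy => S.conj_U0 hh hy, fun hy => by
          have := S.conj_U0 (inv_mem hh) hy
          simpa [mul_assoc] using this⟩
      show h * x * h⁻¹ ∈ Subgroup.normalizer (S.U0 : Set G)
      exact mul_mem (mul_mem hnh hx.1) (inv_mem hnh)
    · haveI := S.U_pgroup.isNilpotent
      have hlt : S.U0.subgroupOf S.U < ⊤ := lt_top_iff_ne_top.2 fun e' => by
        have := Subgroup.card_dvd_of_le (Subgroup.subgroupOf_eq_top.1 e')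
        rw [S.card_U, S.card_U0] at this
        have := Nat.pow_dvd_pow_iff_le_right S.prime.one_lt |>.1 this
        have := S.n_pos
        omega
      obtain ⟨x, hx, hx0⟩ := SetLike.exists_of_lt (Group.normalizerCondition_of_isNilpotent _ hlt)
      refine hx0 (e.le ⟨Subgroup.mem_normalizer_iff.2 fun y => ?_, x.2⟩)
      constructor
      · intro hy
        exact (Subgroup.mem_normalizer_iff.1 hx ⟨y, S.U0_le hy⟩).1 hy
      · intro hy
        have hyU : y ∈ S.U := by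
          have := mul_mem (mul_mem (inv_mem x.2) (S.U0_le hy)) x.2
          simpa [mul_assoc] using this
        exact (Subgroup.mem_normalizer_iff.1 hx ⟨y, hyU⟩).2 hy
  exact (Subgroup.mem_normalizer_iff.1 (hN.ge hu).1 v).1 hv

/-- The quotient of `U` by the block translations is abelian. -/
theorem comm_mem {u v : G} (hu : u ∈ S.U) (hv : v ∈ S.U) : u * v * u⁻¹ * v⁻¹ ∈ S.U0 := by
  haveI := Fact.mk S.prime
  haveI hnor : (S.U0.subgroupOf S.U).Normal := ⟨fun x hx y => S.U0_normal y.2 hx⟩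
  let Q := S.U ⧸ S.U0.subgroupOf S.U
  haveI : Nontrivial Q := by
    refine QuotientGroup.nontrivial_iff.2 fun e' => ?_
    have := Subgroup.card_dvd_of_le (Subgroup.subgroupOf_eq_top.1 e')
    rw [S.card_U, S.card_U0] at this
    have := Nat.pow_dvd_pow_iff_le_right S.prime.one_lt |>.1 this
    have := S.n_pos
    omega
  have hQ : IsPGroup p Q := S.U_pgroup.to_quotient _
  let M : Subgroup G := ((Subgroup.center Q).comap (QuotientGroup.mk' _)).map S.U.subtype
  have hM : ∀ x : S.U, (x : G) ∈ M ↔ ∀ y : S.U, (x : G) * y * (x : G)⁻¹ * (y : G)⁻¹ ∈ S.U0 := by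
    intro x
    have key : (x : G) ∈ M ↔ (QuotientGroup.mk' _ x : Q) ∈ Subgroup.center Q :=
      ⟨fun ⟨x', hx', e⟩ => Subtype.ext e ▸ hx', fun h => ⟨x, h, rfl⟩⟩
    rw [key, Subgroup.mem_center_iff]
    constructor
    · intro h y
      have := (h (QuotientGroup.mk' _ y)).symm
      rw [← map_mul, ← map_mul, ← div_eq_one, ← map_div, div_eq_mul_inv, mul_inv_rev] at this
      have h' := Subgroup.mem_subgroupOf.1 ((QuotientGroup.eq_one_iff _).1 this)
      simpa [mul_assoc] using h'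
    · intro h z
      obtain ⟨y, rfl⟩ := QuotientGroup.mk'_surjective _ z
      symm
      rw [← map_mul, ← map_mul, ← div_eq_one, ← map_div, div_eq_mul_inv, mul_inv_rev]
      refine (QuotientGroup.eq_one_iff _).2 (Subgroup.mem_subgroupOf.2 ?_)
      simpa [mul_assoc] using h y
  have h0 : S.U0 ≤ M := fun x hx => (hM ⟨x, S.U0_le hx⟩).2 fun y => by
    have := mul_mem hx (S.U0_normal y.2 (inv_mem hx))
    simpa [mul_assoc] using this
  have h1 : M = S.U := by
    refine (S.invariant_eq h0 (Subgroup.map_subtype_le _) fun h hh x hx => ?_).resolve_left fun e => ?_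
    · have hxU := Subgroup.map_subtype_le _ hx
      refine (hM ⟨_, S.conj_U hh hxU⟩).2 fun y => ?_
      have hy : h⁻¹ * y * h ∈ S.U := by simpa using S.conj_U (inv_mem hh) y.2
      have := S.conj_U0 hh ((hM ⟨x, hxU⟩).1 hx ⟨_, hy⟩)
      simpa [mul_assoc] using this
    · obtain ⟨z, hz, hz1⟩ := (Subgroup.center Q).bot_or_exists_ne_one.resolve_left
        (fun e' => (Subgroup.nontrivial_iff_ne_bot _).1 hQ.center_nontrivial e')
      obtain ⟨x, rfl⟩ := QuotientGroup.mk'_surjective _ z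
      exact hz1 ((QuotientGroup.eq_one_iff _).2 (Subgroup.mem_subgroupOf.2 (e.le ⟨x, hz, rfl⟩)))
  exact (hM ⟨u, hu⟩).1 (h1.ge hu) ⟨v, hv⟩

theorem exists_beta [Fact p.Prime] : ∃ β χ : G → GaloisField p (2 * n),
    (∀ u ∈ S.U, ∀ v ∈ S.U, β (u * v) = β u + β v) ∧ (∀ u ∈ S.U, β u = 0 ↔ u ∈ S.U0) ∧
      (∀ x, ∃ u ∈ S.U, β u = x) ∧ (∀ h ∈ S.H, χ h ≠ 0) ∧
      (∀ h ∈ S.H, ∀ k ∈ S.H, χ (h * k) = χ h * χ k) ∧
      (∀ h ∈ S.H, ∀ u ∈ S.U, β (h * u * h⁻¹) = χ h * β u) :=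
  exists_field_coord (by have := S.n_pos; omega) S.U0_le (fun _ hu _ hv => S.comm_mem hu hv)
    (fun _ hh _ hv => S.conj_U hh hv) (fun _ hh _ hv => S.conj_U0 hh hv) (fun _ hh _ hk => S.H_comm hh hk)
    (fun _ h0 h1 hM => S.invariant_eq h0 h1 hM) (by rw [S.card_U, S.card_U0, ← pow_add]; congr 1; omega)

theorem exists_eps [Fact p.Prime] : ∃ ι ε : G → GaloisField p n,
    (∀ u ∈ S.U0, ∀ v ∈ S.U0, ι (u * v) = ι u + ι v) ∧ (∀ u ∈ S.U0, ι u = 0 ↔ u ∈ (⊥ : Subgroup G)) ∧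
      (∀ x, ∃ u ∈ S.U0, ι u = x) ∧ (∀ h ∈ S.H, ε h ≠ 0) ∧
      (∀ h ∈ S.H, ∀ k ∈ S.H, ε (h * k) = ε h * ε k) ∧
      (∀ h ∈ S.H, ∀ u ∈ S.U0, ι (h * u * h⁻¹) = ε h * ι u) := by
  refine exists_field_coord (by have := S.n_pos; omega) bot_le
    (fun u hu v hv => by rw [Subgroup.mem_bot, S.U0_comm hu hv]; group)
    (fun _ hh _ hv => S.conj_U0 hh hv) (fun h _ v hv => by rw [Subgroup.mem_bot.1 hv]; simp)
    (fun _ hh _ hk => S.H_comm hh hk) (fun M _ h1 hM => ?_) (by rw [S.card_U0, Subgroup.card_bot, mul_one])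
  refine (Subgroup.bot_or_exists_ne_one M).imp id fun ⟨u, hu, hu1⟩ => le_antisymm h1 fun v hv => ?_
  by_cases hv1 : v = 1
  · rw [hv1]; exact one_mem M
  obtain ⟨h, hh, rfl⟩ := S.trans_U0 (h1 hu) hu1 hv hv1
  exact hM h hh u hu

end Setting

end CfsgLib.U3Odd
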