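/-
The coordinate of the regular normal subgroup modulo the block translations; a non-trivial element of the two point
stabiliser fixes points of the block only.
-/
import Cfsg.Agent.U3Odd.Quot

set_option autoImplicit false
set_option linter.style.haveILetI false
set_option linter.unusedSectionVars false

namespace CfsgLib.U3Odd

open MulAction

variable {G Ω : Type*} [Group G] [MulAction G Ω] [Finite G] [Finite Ω] [FaithfulSMul G Ω] [IsSimpleGroup G]
  {p n d : ℕ} [Fact p.Prime]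

namespace Setting

variable (S : Setting G Ω p n d)
include S

/-- The coordinate of an element of `U`. -/
noncomputable def beta : G → GaloisField p (2 * n) := S.exists_beta.choose

/-- The multiplier of an element of `H`. -/
noncomputable def chi : G → GaloisField p (2 * n) := S.exists_beta.choose_spec.choose

local notation "E" => GaloisField p (2 * n)

theorem beta_mul {u v : G} (hu : u ∈ S.U) (hv : v ∈ S.U) : S.beta (u * v) = S.beta u + S.beta v :=
  S.exists_beta.choose_spec.choose_spec.1 u hu v hv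

theorem beta_eq_zero {u : G} (hu : u ∈ S.U) : S.beta u = 0 ↔ u ∈ S.U0 :=
  S.exists_beta.choose_spec.choose_spec.2.1 u hu

theorem beta_surj (x : E) : ∃ u ∈ S.U, S.beta u = x := S.exists_beta.choose_spec.choose_spec.2.2.1 x

theorem chi_ne {h : G} (hh : h ∈ S.H) : S.chi h ≠ 0 := S.exists_beta.choose_spec.choose_spec.2.2.2.1 h hh

theorem chi_mul {h k : G} (hh : h ∈ S.H) (hk : k ∈ S.H) : S.chi (h * k) = S.chi h * S.chi k :=
  S.exists_beta.choose_spec.choose_spec.2.2.2.2.1 h hh k hk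

theorem beta_conj {h u : G} (hh : h ∈ S.H) (hu : u ∈ S.U) : S.beta (h * u * h⁻¹) = S.chi h * S.beta u :=
  S.exists_beta.choose_spec.choose_spec.2.2.2.2.2 h hh u hu

theorem beta_one : S.beta 1 = 0 := (S.beta_eq_zero (one_mem _)).2 (one_mem _)

theorem beta_inv {u : G} (hu : u ∈ S.U) : S.beta u⁻¹ = -S.beta u :=
  eq_neg_of_add_eq_zero_left (by rw [← S.beta_mul (inv_mem hu) hu, inv_mul_cancel, S.beta_one])

theorem chi_one : S.chi 1 = 1 := by
  have h := S.chi_mul (one_mem S.H) (one_mem S.H)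
  rw [one_mul] at h
  exact (left_eq_mul₀ (S.chi_ne (one_mem S.H))).1 h

/-- A larger fixed point set is everything. -/
theorem eq_one_of_CU {h : G} (hh : h ∈ S.H) (hc : p ^ n < Nat.card (S.CU h)) : h = 1 := by
  obtain ⟨i, hi, hci⟩ := S.CU_pow h
  rw [hci] at hc
  have hni := (Nat.pow_lt_pow_iff_right S.prime.one_lt).1 hc
  have hdvd := S.fix_dvd hh
  rw [hci] at hdvd
  have hcop : Nat.Coprime (p ^ i + 1) (p ^ (3 * n)) := by
    refine (Nat.Prime.coprime_iff_not_dvd S.prime).2 (fun hd => ?_) |>.symm.pow_right _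
    have h' := Nat.dvd_sub hd (dvd_pow_self p (show i ≠ 0 by omega))
    rw [Nat.add_sub_cancel_left] at h'
    exact S.prime.one_lt.ne' (Nat.dvd_one.1 h')
  have hi3 := fix_exponent S.prime hni hi (hcop.dvd_of_dvd_mul_right ((Dvd.intro _ rfl).trans hdvd))
  have hU : S.CU h = S.U := Subgroup.eq_of_le_of_card_ge inf_le_left (by rw [hci, S.card_U, hi3])
  refine eq_of_smul_eq_smul (α := Ω) fun x => ?_
  rw [one_smul]
  by_cases hx : x = S.a
  · rw [hx, S.H_fix_a hh]
  · obtain ⟨u, hu, rfl⟩ := S.U_trans x hx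
    exact (S.fix_U_iff hh hu).2 (S.mem_CU.1 (hU.ge hu)).2

theorem chi_eq_one {h : G} (hh : h ∈ S.H) (hc : S.chi h = 1) : h = 1 := by
  classical
  by_contra hne
  have hcc : ∀ u ∈ S.U, u⁻¹ * (h * u * h⁻¹) ∈ S.U0 := fun u hu => (S.beta_eq_zero
    (mul_mem (inv_mem hu) (S.conj_U hh hu))).1 (by
      rw [S.beta_mul (inv_mem hu) (S.conj_U hh hu), S.beta_inv hu, S.beta_conj hh hu, hc, one_mul, neg_add_cancel])
  by_cases hK : h ∈ S.K
  · obtain ⟨u, hu, hu1⟩ := S.beta_surj 1
    have hu0 : u ∉ S.U0 := fun e => one_ne_zero (hu1.symm.trans ((S.beta_eq_zero hu).2 e))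
    set c := u⁻¹ * (h * u * h⁻¹) with hcdef
    have hc0 : c ∈ S.U0 := hcc u hu
    have hhc : h * c * h⁻¹ = c := by
      rw [← Subgroup.mem_centralizer_iff.1 hK.2 c hc0, mul_inv_cancel_right]
    have hconj : h * u * h⁻¹ = u * c := by rw [hcdef, mul_inv_cancel_left]
    have hpow : ∀ k : ℕ, h ^ k * u * (h ^ k)⁻¹ = u * c ^ k := by
      intro k
      induction k with
      | zero => simp
      | succ k ih =>
        calc h ^ (k + 1) * u * (h ^ (k + 1))⁻¹ = h * (h ^ k * u * (h ^ k)⁻¹) * h⁻¹ := by group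
          _ = (h * u * h⁻¹) * (h * c ^ k * h⁻¹) := by rw [ih]; group
          _ = _ := by rw [hconj, ← conj_pow, hhc, pow_succ']; group
    have h1 := hpow (orderOf h)
    rw [pow_orderOf_eq_one, one_mul, inv_one, mul_one, left_eq_mul] at h1
    have hcop : Nat.Coprime (orderOf h) p := ((S.prime.coprime_iff_not_dvd).2 fun hd => S.p_not_dvd
      (hd.trans (Subgroup.orderOf_dvd_natCard S.H hh))).symm
    have h3 : c = 1 := by
      have := (pow_gcd_eq_one (a := c)).2 ⟨h1, S.U0_pow hc0⟩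
      rwa [hcop.gcd_eq_one, pow_one] at this
    refine hu0 (S.CU_of_mem_K hK hne ▸ S.mem_CU.2 ⟨hu, ?_⟩)
    rw [h3, mul_one, mul_inv_eq_iff_eq_mul] at hconj
    exact hconj.symm
  · have hsurj : ∀ c : S.U0, ∃ v : S.U0, (v : G) * (h * v * h⁻¹)⁻¹ = c := by
      let f : S.U0 → S.U0 := fun v => ⟨v * (h * v * h⁻¹)⁻¹, mul_mem v.2 (inv_mem (S.conj_U0 hh v.2))⟩
      have hf : Function.Injective f := by
        intro v w e
        have e' : (v : G) * (h * v * h⁻¹)⁻¹ = w * (h * w * h⁻¹)⁻¹ := congrArg Subtype.val e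
        refine Subtype.ext (mul_inv_eq_one.1 ?_)
        by_contra hvw
        refine hK (S.mem_K_of_comm hh (mul_mem v.2 (inv_mem w.2)) hvw ?_)
        have e2 : (w : G)⁻¹ * v = (h * w * h⁻¹)⁻¹ * (h * v * h⁻¹) :=
          calc (w : G)⁻¹ * v = (w : G)⁻¹ * (v * (h * v * h⁻¹)⁻¹) * (h * v * h⁻¹) := by group
            _ = _ := by rw [e']; group
        rw [S.U0_comm v.2 (inv_mem w.2)]
        calc h * ((w : G)⁻¹ * v) = (h * w * h⁻¹)⁻¹ * (h * v * h⁻¹) * h := by group
          _ = (w : G)⁻¹ * v * h := by rw [← e2]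
      exact fun c => ((Finite.injective_iff_surjective.1 hf) c).imp fun v e => congrArg Subtype.val e
    have hle : Nat.card S.U ≤ Nat.card (S.CU h) * Nat.card S.U0 := by
      rw [← Nat.card_prod]
      refine Nat.card_le_card_of_surjective
        (fun x : S.CU h × S.U0 => (⟨x.1 * x.2, mul_mem (S.mem_CU.1 x.1.2).1 (S.U0_le x.2.2)⟩ : S.U)) fun u => ?_
      obtain ⟨v, hv⟩ := hsurj ⟨_, hcc u u.2⟩
      have hvh : (v : G) = (u : G)⁻¹ * (h * u * h⁻¹) * (h * v * h⁻¹) := mul_inv_eq_iff_eq_mul.1 hv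
      refine ⟨(⟨(u : G) * v, S.mem_CU.2 ⟨mul_mem u.2 (S.U0_le v.2), ?_⟩⟩, v⁻¹), Subtype.ext ?_⟩
      · conv_lhs => rw [hvh]
        group
      · show (u : G) * v * (v : G)⁻¹ = u
        rw [mul_inv_cancel_right]
    rw [S.card_U, S.card_U0] at hle
    refine hne (S.eq_one_of_CU hh ?_)
    have hq := S.two_le_q
    have h3 : p ^ (3 * n) = p ^ n * p ^ n * p ^ n := by rw [← pow_add, ← pow_add]; congr 1; omega
    nlinarith

/-- A non-trivial element of `H` fixes points of the block only. -/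
theorem fix_H {h : G} (hh : h ∈ S.H) (h1 : h ≠ 1) {x : Ω} (hx : h • x = x) : S.t • x = x := by
  by_cases hxa : x = S.a
  · rw [hxa, S.H_fix_a S.t_mem]
  obtain ⟨u, hu, rfl⟩ := S.U_trans x hxa
  refine (S.U_fix_b_iff hu).2 ((S.beta_eq_zero hu).1 ?_)
  by_contra hne
  refine h1 (S.chi_eq_one hh ?_)
  have e := S.beta_conj hh hu
  rw [← (S.fix_U_iff hh hu).1 hx, mul_inv_cancel_right] at e
  exact (right_eq_mul₀ hne).1 e

end Setting

end CfsgLib.U3Odd
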