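/-
An involutive multiplicative map of a field fitting the addition law of a sharply three-transitive group is inversion.
-/
import Mathlib

set_option autoImplicit false

namespace CfsgLib.U3Odd

variable {F : Type*} [Field F]

/-- The map is inversion. -/
theorem theta_inv (h2 : (2 : F) ≠ 0) {θ : F → F} (hne : ∀ x, x ≠ 0 → θ x ≠ 0)
    (hmul : ∀ x y, x ≠ 0 → y ≠ 0 → θ (x * y) = θ x * θ y) (hinv : ∀ x, x ≠ 0 → θ (θ x) = x)
    (hid : ∀ z, z ≠ 0 → z ≠ -1 → θ (1 + z) = 1 - θ (1 + θ z)) : ∀ x, x ≠ 0 → θ x = x⁻¹ := by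
  have hinj : ∀ x y, x ≠ 0 → y ≠ 0 → θ x = θ y → x = y := fun x y hx hy h => by
    rw [← hinv x hx, h, hinv y hy]
  have h1 : θ 1 = 1 := by
    have := hmul 1 1 one_ne_zero one_ne_zero
    rw [one_mul] at this
    exact (right_eq_mul₀ (hne 1 one_ne_zero)).1 this
  have hneg1 : (-1 : F) ≠ 0 := neg_ne_zero.2 one_ne_zero
  have hm1 : (-1 : F) ≠ 1 := fun h => h2 (by linear_combination -h)
  have hneg : θ (-1) = -1 := by
    have := hmul (-1) (-1) hneg1 hneg1
    rw [show (-1 : F) * -1 = 1 by ring, h1] at this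
    rcases mul_self_eq_one_iff.1 this.symm with h | h
    · exact absurd (hinj _ _ hneg1 one_ne_zero (h.trans h1.symm)) hm1
    · exact h
  have hinvmap : ∀ x, x ≠ 0 → θ x⁻¹ = (θ x)⁻¹ := fun x hx => by
    refine eq_inv_of_mul_eq_one_left ?_
    rw [← hmul _ _ (inv_ne_zero hx) hx, inv_mul_cancel₀ hx, h1]
  have key : ∀ z, z ≠ 0 → z ≠ -1 → θ (1 + z) = 1 - z * θ (1 + θ z⁻¹) := by
    intro z hz hz1
    have hne' : 1 + θ z⁻¹ ≠ 0 := fun h => hz1 (by
      have h' : θ z⁻¹ = θ (-1) := by rw [hneg]; linear_combination h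
      rw [← inv_inv z, hinj _ _ (inv_ne_zero hz) hneg1 h', inv_neg, inv_one])
    rw [hid z hz hz1, show 1 + θ z = θ z * (1 + θ z⁻¹) by
      rw [hinvmap z hz, mul_add, mul_one, mul_inv_cancel₀ (hne z hz), add_comm],
      hmul _ _ (hne z hz) hne', hinv z hz]
  have key2 : ∀ z, z ≠ 0 → z ≠ -1 → θ (1 + z) * (1 - z * θ z⁻¹) = 1 - z := by
    intro z hz hz1
    have hy : θ z⁻¹ ≠ 0 := hne _ (inv_ne_zero hz)
    have hy1 : θ z⁻¹ ≠ -1 := fun h => hz1 (by
      rw [← inv_inv z, hinj _ _ (inv_ne_zero hz) hneg1 (h.trans hneg.symm), inv_neg, inv_one])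
    have e2 := key _ hy hy1
    rw [hinvmap _ hy, hinv _ (inv_ne_zero hz), inv_inv] at e2
    linear_combination key z hz hz1 - z * e2
  have hfix : ∀ z, z ≠ 0 → z ≠ -1 → θ z = z → z = 1 := fun z hz hz1 h => by
    have := key2 z hz hz1
    rw [hinvmap z hz, h, mul_inv_cancel₀ hz, sub_self, mul_zero] at this
    linear_combination this
  intro x hx
  have hprod : ∀ y, y ≠ 0 → y * θ y = 1 ∨ y * θ y = -1 := fun y hy => by
    by_cases h : y * θ y = -1
    · exact Or.inr h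
    · refine Or.inl (hfix _ (mul_ne_zero hy (hne y hy)) h ?_)
      rw [hmul _ _ hy (hne y hy), hinv y hy, mul_comm]
  rcases hprod x hx with h | h
  · exact eq_inv_of_mul_eq_one_right h
  exfalso
  have hx1 : x ≠ -1 := fun e => by rw [e, hneg] at h; exact hm1 (by linear_combination -h)
  have hk := key2 x hx hx1
  rw [hinvmap x hx, show θ x = -x⁻¹ by
    calc θ x = x⁻¹ * (x * θ x) := by rw [inv_mul_cancel_left₀ hx]
      _ = -x⁻¹ := by rw [h, mul_neg_one], inv_neg, inv_inv] at hk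
  have hs : (1 + x) ≠ 0 := fun e => hx1 (by linear_combination e)
  rcases hprod _ hs with h' | h'
  · exact mul_ne_zero h2 (pow_ne_zero 2 hx) (by linear_combination (1 + x) * hk - (1 + x * x) * h')
  · exact h2 (by linear_combination (-(1 + x)) * hk + (1 + x * x) * h')

end CfsgLib.U3Odd
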