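/-
The stabiliser of the block modulo its kernel acts on the block as `PGL₂(q)` on the projective line; the root elements
and the Weyl element of the group `SL₂(q)` of the block.
-/
import Cfsg.Agent.U3Odd.Quot
import Cfsg.Agent.U3Odd.Theta

set_option autoImplicit false
set_option linter.style.haveILetI false
set_option linter.unusedSectionVars false

namespace CfsgLib.U3Odd

open MulAction

variable {G Ω : Type*} [Group G] [MulAction G Ω] [Finite G] [Finite Ω] [FaithfulSMul G Ω] [IsSimpleGroup G]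
  {p n d : ℕ} [Fact p.Prime]

namespace Setting

variable (S : Setting G Ω p n d)
include S

local notation "F" => GaloisField p n

/-- The coordinate of a block translation. -/
noncomputable def iota : G → GaloisField p n := S.exists_eps.choose

/-- The multiplier of an element of `H` on the block translations. -/
noncomputable def eps : G → GaloisField p n := S.exists_eps.choose_spec.choose

theorem iota_mul {u v : G} (hu : u ∈ S.U0) (hv : v ∈ S.U0) : S.iota (u * v) = S.iota u + S.iota v :=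
  S.exists_eps.choose_spec.choose_spec.1 u hu v hv

theorem iota_eq_zero {u : G} (hu : u ∈ S.U0) : S.iota u = 0 ↔ u = 1 :=
  (S.exists_eps.choose_spec.choose_spec.2.1 u hu).trans Subgroup.mem_bot

/-- The block translation with a given coordinate. -/
noncomputable def tr (x : GaloisField p n) : G := (S.exists_eps.choose_spec.choose_spec.2.2.1 x).choose

theorem tr_mem (x : F) : S.tr x ∈ S.U0 := (S.exists_eps.choose_spec.choose_spec.2.2.1 x).choose_spec.1

theorem tr_U (x : F) : S.tr x ∈ S.U := S.U0_le (S.tr_mem x)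

theorem iota_tr (x : F) : S.iota (S.tr x) = x := (S.exists_eps.choose_spec.choose_spec.2.2.1 x).choose_spec.2

theorem eps_ne {h : G} (hh : h ∈ S.H) : S.eps h ≠ 0 := S.exists_eps.choose_spec.choose_spec.2.2.2.1 h hh

theorem eps_mul {h k : G} (hh : h ∈ S.H) (hk : k ∈ S.H) : S.eps (h * k) = S.eps h * S.eps k :=
  S.exists_eps.choose_spec.choose_spec.2.2.2.2.1 h hh k hk

theorem iota_inj {u v : G} (hu : u ∈ S.U0) (hv : v ∈ S.U0) (h : S.iota u = S.iota v) : u = v := by
  have hw := mul_mem hu (inv_mem hv)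
  have h1 := S.iota_mul hw hv
  rw [inv_mul_cancel_right, h, eq_comm, add_eq_right, S.iota_eq_zero hw] at h1
  exact mul_inv_eq_one.1 h1

theorem tr_iota {u : G} (hu : u ∈ S.U0) : S.tr (S.iota u) = u := S.iota_inj (S.tr_mem _) hu (S.iota_tr _)

theorem exists_tr {u : G} (hu : u ∈ S.U0) : ∃ x, S.tr x = u := ⟨_, S.tr_iota hu⟩

theorem tr_add (x y : F) : S.tr (x + y) = S.tr x * S.tr y :=
  S.iota_inj (S.tr_mem _) (mul_mem (S.tr_mem x) (S.tr_mem y))
    (by rw [S.iota_mul (S.tr_mem x) (S.tr_mem y), S.iota_tr, S.iota_tr, S.iota_tr])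

theorem tr_zero : S.tr 0 = 1 := by
  have h := S.tr_add 0 0
  rw [add_zero] at h
  exact left_eq_mul.1 h

theorem tr_neg (x : F) : S.tr (-x) = (S.tr x)⁻¹ :=
  eq_inv_of_mul_eq_one_left (by rw [← S.tr_add, neg_add_cancel, S.tr_zero])

theorem tr_inj {x y : F} (h : S.tr x = S.tr y) : x = y := by rw [← S.iota_tr x, h, S.iota_tr]

theorem conj_tr {h : G} (hh : h ∈ S.H) (x : F) : h * S.tr x * h⁻¹ = S.tr (S.eps h * x) := by
  refine S.iota_inj (S.conj_U0 hh (S.tr_mem x)) (S.tr_mem _) ?_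
  rw [S.iota_tr]
  exact (S.exists_eps.choose_spec.choose_spec.2.2.2.2.2 h hh _ (S.tr_mem x)).trans
    (congrArg (S.eps h * ·) (S.iota_tr x))

theorem eps_one : S.eps 1 = 1 := by
  have h := S.eps_mul (one_mem S.H) (one_mem S.H)
  rw [one_mul] at h
  exact (left_eq_mul₀ (S.eps_ne (one_mem S.H))).1 h

theorem eps_inv {h : G} (hh : h ∈ S.H) : S.eps h⁻¹ = (S.eps h)⁻¹ :=
  eq_inv_of_mul_eq_one_left (by rw [← S.eps_mul (inv_mem hh) hh, inv_mul_cancel, S.eps_one])

theorem eps_eq_one_iff {h : G} (hh : h ∈ S.H) : S.eps h = 1 ↔ h ∈ S.K := by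
  constructor
  · intro e
    refine ⟨hh, Subgroup.mem_centralizer_iff.2 fun u hu => ?_⟩
    obtain ⟨x, rfl⟩ := S.exists_tr hu
    have := S.conj_tr hh x
    rw [e, one_mul, mul_inv_eq_iff_eq_mul] at this
    exact this.symm
  · intro hk
    have h1 := S.conj_tr hh 1
    rw [mul_one, ← Subgroup.mem_centralizer_iff.1 hk.2 _ (S.tr_mem 1), mul_inv_cancel_right] at h1
    exact (S.tr_inj h1).symm

theorem eps_K {k : G} (hk : k ∈ S.K) : S.eps k = 1 := (S.eps_eq_one_iff (S.K_le hk)).2 hk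

theorem exists_eps_eq {x : F} (hx : x ≠ 0) : ∃ h ∈ S.H, S.eps h = x := by
  obtain ⟨h, hh, e⟩ := S.trans_U0 (S.tr_mem 1) (fun e => one_ne_zero (S.tr_inj (e.trans S.tr_zero.symm)))
    (S.tr_mem x) (fun e => hx (S.tr_inj (e.trans S.tr_zero.symm)))
  rw [S.conj_tr hh, mul_one] at e
  exact ⟨h, hh, S.tr_inj e⟩

theorem card_F : Nat.card (GaloisField p n) = p ^ n := GaloisField.card p n (by have := S.n_pos; omega)

theorem two_ne_F : (2 : F) ≠ 0 := fun h => S.p_ne
  ((Nat.prime_dvd_prime_iff_eq S.prime Nat.prime_two).1 ((CharP.cast_eq_zero_iff F p 2).1 (by exact_mod_cast h)))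

/-- A point of the block. -/
noncomputable def pb (x : GaloisField p n) : Ω := S.tr x • S.b

theorem pb_zero : S.pb 0 = S.b := by rw [pb, S.tr_zero, one_smul]

theorem pb_inj {x y : F} (h : S.pb x = S.pb y) : x = y := S.tr_inj (S.U_eq (S.tr_U x) (S.tr_U y) h)

theorem pb_ne (x : F) : S.pb x ≠ S.a := S.U_ne_a (S.tr_U x)

theorem t_pb (x : F) : S.t • S.pb x = S.pb x := S.U0_block (S.tr_mem x) (S.H_fix_b S.t_mem)

theorem t_a : S.t • S.a = S.a := S.H_fix_a S.t_mem

theorem exists_pb {y : Ω} (hy : S.t • y = y) (hya : y ≠ S.a) : ∃ x, S.pb x = y := by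
  obtain ⟨u, hu, rfl⟩ := S.exists_U0 hy hya
  obtain ⟨x, rfl⟩ := S.exists_tr hu
  exact ⟨x, rfl⟩

theorem tr_a (x : F) : S.tr x • S.a = S.a := S.U_fix _ (S.tr_U x)

theorem tr_pb (x y : F) : S.tr x • S.pb y = S.pb (x + y) := by rw [pb, pb, ← mul_smul, ← S.tr_add]

theorem tr_comm_t (x : F) : S.tr x * S.t = S.t * S.tr x := (S.mem_U0.1 (S.tr_mem x)).2

theorem H_pb {h : G} (hh : h ∈ S.H) (x : F) : h • S.pb x = S.pb (S.eps h * x) := by
  rw [pb, pb, ← mul_smul, ← S.conj_tr hh, mul_smul (h * S.tr x) h⁻¹, inv_smul_eq_iff.2 (S.H_fix_b hh).symm]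

theorem conj_w_mem {h : G} (hh : h ∈ S.H) : S.w * h * S.w ∈ S.H := S.swaps_conj S.w_mem hh

/-- The formula of `w` on the block. -/
theorem w_pb : ∃ c : F, c ≠ 0 ∧ ∀ x, x ≠ 0 → S.w • S.pb x = S.pb (c / x) := by
  have hex : ∀ x : F, ∃ y, x ≠ 0 → y ≠ 0 ∧ S.pb y = S.w • S.pb x := by
    intro x
    by_cases hx : x = 0
    · exact ⟨0, fun h => absurd hx h⟩
    obtain ⟨y, hy⟩ := S.exists_pb (S.smul_block S.w_comm_t (S.t_pb x)) (fun e => hx (S.pb_inj (by
      rw [S.pb_zero, ← S.w_mem.2, ← e, ← mul_smul, S.w_sq, one_smul])))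
    refine ⟨y, fun _ => ⟨fun e => ?_, hy⟩⟩
    rw [e, S.pb_zero, ← S.w_mem.2] at hy
    exact S.pb_ne x (MulAction.injective S.w hy).symm
  choose π hπ using hex
  have hwπ : ∀ x, x ≠ 0 → S.w • S.pb x = S.pb (π x) := fun x hx => (hπ x hx).2.symm
  have hππ : ∀ x, x ≠ 0 → π (π x) = x := fun x hx => S.pb_inj (by
    rw [← hwπ _ (hπ x hx).1, ← hwπ x hx, ← mul_smul, S.w_sq, one_smul])
  set c := π 1 with hc
  have hc0 : c ≠ 0 := (hπ 1 one_ne_zero).1
  have hh : ∀ h, h ∈ S.H → ∀ x, x ≠ 0 → π (S.eps h * x) = S.eps (S.w * h * S.w) * π x := fun h hh x hx => S.pb_inj (by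
    rw [← hwπ _ (mul_ne_zero (S.eps_ne hh) hx), ← S.H_pb hh, ← S.H_pb (S.conj_w_mem hh), ← hwπ x hx, ← mul_smul,
      ← mul_smul]
    rw [mul_assoc (S.w * h) S.w S.w, S.w_sq, mul_one])
  set θ : F → F := fun x => π x / c with hθ
  have hπθ : ∀ x, π x = c * θ x := fun x => by rw [hθ]; field_simp
  have hθe : ∀ h ∈ S.H, θ (S.eps h) = S.eps (S.w * h * S.w) := fun h h' => by
    show π (S.eps h) / c = _
    rw [← mul_one (S.eps h), hh h h' 1 one_ne_zero, mul_div_assoc, ← hc, div_self hc0, mul_one]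
  have hθne : ∀ x, x ≠ 0 → θ x ≠ 0 := fun x hx => div_ne_zero (hπ x hx).1 hc0
  have hθmul : ∀ x y, x ≠ 0 → y ≠ 0 → θ (x * y) = θ x * θ y := fun x y hx hy => by
    obtain ⟨h, h', rfl⟩ := S.exists_eps_eq hx
    rw [hθe h h']
    show π (S.eps h * y) / c = _
    rw [hh h h' y hy, mul_div_assoc]
  have hθinv : ∀ x, x ≠ 0 → θ (θ x) = x := fun x hx => by
    obtain ⟨h, h', rfl⟩ := S.exists_eps_eq hx
    rw [hθe h h', hθe _ (S.conj_w_mem h'),
      show S.w * (S.w * h * S.w) * S.w = (S.w * S.w) * h * (S.w * S.w) by group, S.w_sq, one_mul, mul_one]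
  -- the element fixing `a`
  have hct : ∀ x, S.w * S.tr x * S.t = S.t * (S.w * S.tr x) := fun x => by
    rw [mul_assoc, S.tr_comm_t, ← mul_assoc, S.w_comm_t, mul_assoc]
  set g := S.w * (S.tr c)⁻¹ * (S.w * S.tr 1 * S.w) with hg
  have hga : g • S.a = S.a := by
    rw [hg, ← S.tr_neg, mul_smul, mul_smul, mul_smul, mul_smul, S.w_mem.2, ← S.pb_zero, S.tr_pb, add_zero,
      hwπ 1 one_ne_zero, S.tr_pb, ← hc, neg_add_cancel, S.pb_zero, S.swaps_b S.w_mem]
  have hgt : g * S.t = S.t * g := by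
    rw [hg, ← S.tr_neg, mul_assoc, mul_assoc (S.w * S.tr 1), S.w_comm_t, ← mul_assoc (S.w * S.tr 1), hct,
      ← mul_assoc, ← mul_assoc, hct]
    group
  obtain ⟨u, hu, h, h', hguh⟩ := S.exists_mul hga
  have hu0 : u ∈ S.U0 := S.mem_U0.2 ⟨hu, by
    refine mul_right_cancel (b := h) ?_
    rw [mul_assoc, ← S.H_comm_t h', ← mul_assoc, ← hguh, hgt, hguh, mul_assoc]⟩
  obtain ⟨β, rfl⟩ := S.exists_tr hu0
  have hgx : ∀ x, g • S.pb x = S.pb (β + S.eps h * x) := fun x => by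
    rw [hguh, mul_smul, S.H_pb h', S.tr_pb]
  have hgv : ∀ x, g • S.pb x = S.w • (S.tr (-c)) • S.w • S.tr 1 • S.w • S.pb x := fun x => by
    rw [hg, ← S.tr_neg]; simp only [mul_smul]
  have hθ1 : θ 1 = 1 := div_self hc0
  have hm1 : (-1 : F) ≠ 0 := neg_ne_zero.2 one_ne_zero
  have hθneg : θ (-1) = -1 := by
    have h1 := hθmul (-1) (-1) hm1 hm1
    rw [show (-1 : F) * -1 = 1 by ring, hθ1] at h1
    rcases mul_self_eq_one_iff.1 h1.symm with h1 | h1
    · exfalso
      have := hθinv (-1) hm1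
      rw [h1, hθ1] at this
      exact S.two_ne_F (by linear_combination this)
    · exact h1
  have hnc : π (-c) = -1 := by
    rw [hπθ, show -c = -1 * π 1 by rw [← hc, neg_one_mul], hθmul _ _ hm1 (hπ 1 one_ne_zero).1, hθneg]
    have := hππ 1 one_ne_zero
    rw [← hc, hπθ] at this
    rw [← hc]
    linear_combination -this
  have hβ : β = -1 := by
    have := hgx 0
    rw [hgv, mul_zero, add_zero, S.pb_zero, S.swaps_b S.w_mem, S.tr_a, S.w_mem.2, ← S.pb_zero, S.tr_pb, add_zero,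
      hwπ _ (neg_ne_zero.2 hc0), hnc] at this
    exact (S.pb_inj this).symm
  have hα : S.eps h = -(1 / c) := by
    have hx0 : π (-1) = -c := by rw [hπθ, hθneg, mul_neg_one]
    have := hgx (-c)
    rw [hgv, hwπ _ (neg_ne_zero.2 hc0), hnc, S.tr_pb, add_neg_cancel, S.pb_zero, S.swaps_b S.w_mem, S.tr_a,
      S.w_mem.2, ← S.pb_zero] at this
    have h0 := S.pb_inj this
    rw [hβ] at h0
    field_simp
    linear_combination h0
  have hid : ∀ z, z ≠ 0 → z ≠ -1 → θ (1 + z) = 1 - θ (1 + θ z) := by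
    intro z hz hz1
    have hθz1 : θ z ≠ -1 := fun e => hz1 (by rw [← hθinv z hz, e, hθneg])
    have h1z : (1 + z) ≠ 0 := fun e => hz1 (by linear_combination e)
    have hx : π z ≠ 0 := (hπ z hz).1
    have := hgx (π z)
    rw [hgv, hwπ _ hx, hππ z hz, S.tr_pb, hwπ _ h1z, S.tr_pb, hβ, hα] at this
    have harg : -1 + -(1 / c) * π z = -1 * (1 + θ z) := by rw [hπθ z]; field_simp; ring
    have hne : -1 + -(1 / c) * π z ≠ 0 := by
      rw [harg]
      exact mul_ne_zero hm1 fun e => hθz1 (by linear_combination e)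
    have h2 := congrArg (S.w • ·) this
    simp only [← mul_smul, S.w_sq, one_smul] at h2
    rw [hwπ _ hne] at h2
    have h3 := S.pb_inj h2
    rw [harg, hπθ, hπθ (-1 * _), hθmul _ _ hm1 fun e => hθz1 (by linear_combination e), hθneg] at h3
    refine mul_left_cancel₀ hc0 ?_
    linear_combination h3
  refine ⟨c, hc0, fun x hx => ?_⟩
  rw [hwπ x hx, hπθ, theta_inv S.two_ne_F hθne hθmul hθinv hid x hx, div_eq_mul_inv]

end Setting

end CfsgLib.U3Odd
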