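/-
The Weyl element and the torus of the block's `SL₂(q)`.
-/
import Cfsg.Agent.U3Odd.Line

set_option autoImplicit false
set_option linter.style.haveILetI false
set_option linter.unusedSectionVars false

namespace CfsgLib.U3Odd

open MulAction

variable {G Ω : Type*} [Group G] [MulAction G Ω] [Finite G] [Finite Ω] [FaithfulSMul G Ω] [IsSimpleGroup G]
  {p n d : ℕ} [Fact p.Prime]

namespace Setting

variable (S : Setting G Ω p n d)
include S

local notation "F" => GaloisField p n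

theorem exists_n0 : ∃ g : G, g * S.t = S.t * g ∧ g • S.a = S.b ∧ g • S.b = S.a ∧
    (∀ x : GaloisField p n, x ≠ 0 → g • S.pb x = S.pb (-x⁻¹)) ∧ ∃ h ∈ S.H, g = S.w * h := by
  obtain ⟨c, hc, hw⟩ := S.w_pb
  obtain ⟨h, hh, he⟩ := S.exists_eps_eq (x := -c) (neg_ne_zero.2 hc)
  refine ⟨S.w * h, ?_, ?_, ?_, fun x hx => ?_, h, hh, rfl⟩
  · rw [mul_assoc, S.H_comm_t hh, ← mul_assoc, S.w_comm_t, mul_assoc]
  · rw [mul_smul, S.H_fix_a hh, S.w_mem.2]
  · rw [mul_smul, S.H_fix_b hh, S.swaps_b S.w_mem]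
  · rw [mul_smul, S.H_pb hh, he, hw _ (mul_ne_zero (neg_ne_zero.2 hc) hx)]
    congr 1
    field_simp

/-- A first approximation of the Weyl element. -/
noncomputable def n0 : G := S.exists_n0.choose

theorem n0_t : S.n0 * S.t = S.t * S.n0 := S.exists_n0.choose_spec.1

theorem n0_a : S.n0 • S.a = S.b := S.exists_n0.choose_spec.2.1

theorem n0_b : S.n0 • S.b = S.a := S.exists_n0.choose_spec.2.2.1

theorem n0_pb {x : F} (hx : x ≠ 0) : S.n0 • S.pb x = S.pb (-x⁻¹) := S.exists_n0.choose_spec.2.2.2.1 x hx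

theorem n0_inv_pb {x : F} (hx : x ≠ 0) : S.n0⁻¹ • S.pb x = S.pb (-x⁻¹) := by
  rw [inv_smul_eq_iff, S.n0_pb (neg_ne_zero.2 (inv_ne_zero hx)), inv_neg, inv_inv, neg_neg]

theorem n0_conj_mem {h : G} (hh : h ∈ S.H) : S.n0⁻¹ * h * S.n0 ∈ S.H := by
  obtain ⟨k, hk, e⟩ := S.exists_n0.choose_spec.2.2.2.2
  rw [show S.n0 = S.w * k from e,
    show (S.w * k)⁻¹ * h * (S.w * k) = k⁻¹ * (S.w⁻¹ * h * S.w) * k by group, S.w_inv]
  exact mul_mem (mul_mem (inv_mem hk) (S.conj_w_mem hh)) hk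

theorem eps_n0_conj {h : G} (hh : h ∈ S.H) : S.eps (S.n0⁻¹ * h * S.n0) = (S.eps h)⁻¹ := by
  have h1 := S.H_pb (S.n0_conj_mem hh) 1
  rw [mul_smul, mul_smul, S.n0_pb one_ne_zero, S.H_pb hh, S.n0_inv_pb (mul_ne_zero (S.eps_ne hh)
    (neg_ne_zero.2 (inv_ne_zero one_ne_zero))), mul_one] at h1
  rw [← S.pb_inj h1]
  simp [inv_neg]

/-- A translation at the second point. -/
noncomputable def vv (y : GaloisField p n) : G := S.n0 * S.tr (-y) * S.n0⁻¹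

theorem vv_t (y : F) : S.vv y * S.t = S.t * S.vv y := by
  have h : S.n0⁻¹ * S.t = S.t * S.n0⁻¹ := by
    rw [inv_mul_eq_iff_eq_mul, ← mul_assoc, S.n0_t, mul_inv_cancel_right]
  rw [vv, mul_assoc, h, ← mul_assoc, mul_assoc S.n0, S.tr_comm_t, ← mul_assoc, S.n0_t]
  group

theorem vv_neg (y : F) : S.vv (-y) = (S.vv y)⁻¹ := by
  rw [vv, vv, neg_neg, S.tr_neg]
  group

theorem conj_vv {h : G} (hh : h ∈ S.H) (y : F) : h * S.vv y * h⁻¹ = S.vv (y / S.eps h) := by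
  rw [vv, vv]
  calc h * (S.n0 * S.tr (-y) * S.n0⁻¹) * h⁻¹
      = S.n0 * ((S.n0⁻¹ * h * S.n0) * S.tr (-y) * (S.n0⁻¹ * h * S.n0)⁻¹) * S.n0⁻¹ := by group
    _ = _ := by rw [S.conj_tr (S.n0_conj_mem hh), S.eps_n0_conj hh]; congr 3; ring

/-- The elements `u v u` of the block. -/
noncomputable def nn (x : GaloisField p n) : G := S.tr x * S.vv (-x⁻¹) * S.tr x

theorem conj_nn {h : G} (hh : h ∈ S.H) (x : F) : h * S.nn x * h⁻¹ = S.nn (S.eps h * x) := by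
  rw [nn, nn]
  calc h * (S.tr x * S.vv (-x⁻¹) * S.tr x) * h⁻¹
      = (h * S.tr x * h⁻¹) * (h * S.vv (-x⁻¹) * h⁻¹) * (h * S.tr x * h⁻¹) := by group
    _ = _ := by
      rw [S.conj_tr hh, S.conj_vv hh]
      congr 3
      rw [mul_inv, div_eq_mul_inv]
      ring

/-- The Weyl element. -/
noncomputable def nw : G := S.nn 1

theorem nw_t : S.nw * S.t = S.t * S.nw := by
  rw [nw, nn, mul_assoc, S.tr_comm_t, ← mul_assoc, mul_assoc (S.tr 1), S.vv_t, ← mul_assoc, S.tr_comm_t]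
  group

theorem nw_action : S.nw • S.a = S.b ∧ S.nw • S.b = S.a ∧ ∀ z : F, z ≠ 0 → S.nw • S.pb z = S.pb (-z⁻¹) := by
  have hv : ∀ x : Ω, S.vv (-(1 : F)⁻¹) • x = S.n0 • S.tr 1 • S.n0⁻¹ • x := fun x => by
    rw [vv, inv_one, neg_neg, mul_smul, mul_smul]
  have hb : S.n0⁻¹ • S.b = S.a := inv_smul_eq_iff.2 S.n0_a.symm
  have ha : S.n0⁻¹ • S.a = S.b := inv_smul_eq_iff.2 S.n0_b.symm
  refine ⟨?_, ?_, fun z hz => ?_⟩
  · rw [nw, nn, mul_smul, mul_smul, S.tr_a, hv, ha, ← S.pb_zero, S.tr_pb, add_zero, S.n0_pb one_ne_zero, S.tr_pb,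
      inv_one, add_neg_cancel]
  · rw [nw, nn, mul_smul, mul_smul, ← S.pb_zero, S.tr_pb, add_zero, hv, S.n0_inv_pb one_ne_zero, S.tr_pb,
      inv_one, add_neg_cancel, S.pb_zero, S.n0_b, S.tr_a]
  · rw [nw, nn, mul_smul, mul_smul, S.tr_pb, hv]
    by_cases h1 : 1 + z = 0
    · rw [h1, S.pb_zero, hb, S.tr_a, S.n0_a, ← S.pb_zero, S.tr_pb, add_zero,
        show z = -1 by linear_combination h1, inv_neg, inv_one, neg_neg]
    · have h2 : 1 + -(1 + z)⁻¹ ≠ 0 := fun e => hz (by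
        have e2 : (1 + z)⁻¹ = 1 := by linear_combination -e
        have := inv_eq_one.1 e2
        linear_combination this)
      rw [S.n0_inv_pb h1, S.tr_pb, S.n0_pb h2, S.tr_pb]
      congr 1
      rw [show 1 + -(1 + z)⁻¹ = z / (1 + z) by field_simp; ring, inv_div]
      field_simp
      ring

theorem nw_K : ∃ k ∈ S.K, S.nw = S.n0 * k := by
  refine ⟨S.n0⁻¹ * S.nw, S.mem_K.2 ⟨(S.mem_H _).2 ⟨?_, ?_⟩, fun y hy => ?_⟩, (mul_inv_cancel_left _ _).symm⟩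
  · rw [mul_smul, S.nw_action.1, inv_smul_eq_iff, S.n0_a]
  · rw [mul_smul, S.nw_action.2.1, inv_smul_eq_iff, S.n0_b]
  · rw [mul_smul]
    by_cases hya : y = S.a
    · rw [hya, S.nw_action.1, inv_smul_eq_iff, S.n0_a]
    obtain ⟨z, rfl⟩ := S.exists_pb hy hya
    by_cases hz : z = 0
    · rw [hz, S.pb_zero, S.nw_action.2.1, inv_smul_eq_iff, S.n0_b]
    · rw [S.nw_action.2.2 z hz, inv_smul_eq_iff, S.n0_pb hz]

theorem nw_conj_mem {h : G} (hh : h ∈ S.H) : S.nw * h * S.nw⁻¹ ∈ S.H := by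
  have e : ∀ x : Ω, S.nw • x = S.a ↔ x = S.b := fun x =>
    ⟨fun e => MulAction.injective S.nw (e.trans S.nw_action.2.1.symm), fun e => e ▸ S.nw_action.2.1⟩
  refine (S.mem_H _).2 ⟨?_, ?_⟩ <;> rw [mul_smul, mul_smul]
  · rw [inv_smul_eq_iff.2 S.nw_action.2.1.symm, S.H_fix_b hh, S.nw_action.2.1]
  · rw [inv_smul_eq_iff.2 S.nw_action.1.symm, S.H_fix_a hh, S.nw_action.1]

theorem eps_nw_conj {h : G} (hh : h ∈ S.H) : S.eps (S.nw * h * S.nw⁻¹) = (S.eps h)⁻¹ := by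
  have h1 := S.H_pb (S.nw_conj_mem hh) 1
  rw [mul_smul, mul_smul, show S.nw⁻¹ • S.pb 1 = S.pb (-1) from inv_smul_eq_iff.2 (by
    rw [S.nw_action.2.2 _ (neg_ne_zero.2 one_ne_zero)]; simp [inv_neg]), S.H_pb hh,
    S.nw_action.2.2 _ (mul_ne_zero (S.eps_ne hh) (neg_ne_zero.2 one_ne_zero)), mul_one] at h1
  rw [← S.pb_inj h1]
  simp [inv_neg]

open Classical in
/-- The torus of the block. -/
noncomputable def hh (x : GaloisField p n) : G := if x = 0 then 1 else S.nn x * S.nw⁻¹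

theorem hh_eps {h : G} (h' : h ∈ S.H) : S.hh (S.eps h) = h * (S.nw * h⁻¹ * S.nw⁻¹) := by
  rw [hh, if_neg (S.eps_ne h'), ← mul_one (S.eps h), ← S.conj_nn h' 1, ← nw]
  group

theorem hh_mem {x : F} (hx : x ≠ 0) : S.hh x ∈ S.H := by
  obtain ⟨h, h', rfl⟩ := S.exists_eps_eq hx
  rw [S.hh_eps h']
  exact mul_mem h' (S.nw_conj_mem (inv_mem h'))

theorem hh_mul {x y : F} (hx : x ≠ 0) (hy : y ≠ 0) : S.hh (x * y) = S.hh x * S.hh y := by
  obtain ⟨h, h', rfl⟩ := S.exists_eps_eq hx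
  obtain ⟨k, k', rfl⟩ := S.exists_eps_eq hy
  rw [← S.eps_mul h' k', S.hh_eps (mul_mem h' k'), S.hh_eps h', S.hh_eps k',
    show h * k * (S.nw * (h * k)⁻¹ * S.nw⁻¹) = h * (k * (S.nw * k⁻¹ * S.nw⁻¹)) * (S.nw * h⁻¹ * S.nw⁻¹) by group,
    mul_assoc, S.H_comm (mul_mem k' (S.nw_conj_mem (inv_mem k'))) (S.nw_conj_mem (inv_mem h'))]
  group

theorem hh_one : S.hh 1 = 1 := by rw [hh, if_neg one_ne_zero, ← nw, mul_inv_cancel]

theorem hh_inv {x : F} (hx : x ≠ 0) : S.hh x⁻¹ = (S.hh x)⁻¹ :=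
  eq_inv_of_mul_eq_one_left (by rw [← S.hh_mul (inv_ne_zero hx) hx, inv_mul_cancel₀ hx, S.hh_one])

theorem eps_hh {x : F} (hx : x ≠ 0) : S.eps (S.hh x) = x * x := by
  obtain ⟨h, h', rfl⟩ := S.exists_eps_eq hx
  rw [S.hh_eps h', S.eps_mul h' (S.nw_conj_mem (inv_mem h')), S.eps_nw_conj (inv_mem h'), S.eps_inv h', inv_inv]

theorem tr_hh {m : F} (hm : m ≠ 0) (x : F) : S.hh m * S.tr x = S.tr (m * m * x) * S.hh m := by
  rw [← S.eps_hh hm, ← S.conj_tr (S.hh_mem hm), inv_mul_cancel_right]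

theorem nw_neg_one : S.nn (-1) = S.nw⁻¹ := by
  rw [nw, nn, nn, inv_neg, inv_one, neg_neg, S.tr_neg, mul_inv_rev, mul_inv_rev, ← S.vv_neg, neg_neg, mul_assoc]

theorem hh_neg_one : S.hh (-1) = (S.nw * S.nw)⁻¹ := by
  rw [hh, if_neg (neg_ne_zero.2 one_ne_zero), S.nw_neg_one, mul_inv_rev]

theorem nw_sq : S.nw * S.nw = S.hh (-1) := by
  have h : S.hh (-1) * S.hh (-1) = 1 := by
    rw [← S.hh_mul (neg_ne_zero.2 one_ne_zero) (neg_ne_zero.2 one_ne_zero), neg_mul_neg, one_mul, S.hh_one]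
  rw [← inv_inv (S.nw * S.nw), ← S.hh_neg_one]
  exact inv_eq_of_mul_eq_one_left h

theorem nw_hh {x : F} (hx : x ≠ 0) : S.nw * S.hh x = S.hh x⁻¹ * S.nw := by
  rw [S.hh_inv hx]
  obtain ⟨h, h', rfl⟩ := S.exists_eps_eq hx
  rw [S.hh_eps h']
  have hsq : S.nw * S.nw ∈ S.H := by rw [S.nw_sq]; exact S.hh_mem (neg_ne_zero.2 one_ne_zero)
  have hc : S.nw * S.nw * h⁻¹ = h⁻¹ * (S.nw * S.nw) := S.H_comm hsq (inv_mem h')
  calc S.nw * (h * (S.nw * h⁻¹ * S.nw⁻¹)) = (S.nw * h * S.nw⁻¹) * (S.nw * S.nw * h⁻¹) * S.nw⁻¹ := by group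
    _ = (S.nw * h * S.nw⁻¹) * h⁻¹ * S.nw := by rw [hc]; group
    _ = _ := by group

/-- The relation of the three types of generators. -/
theorem nw_tr {x : F} (hx : x ≠ 0) :
    S.nw * S.tr x * S.nw = S.tr (-x⁻¹) * S.hh (-x⁻¹) * S.nw * S.tr (-x⁻¹) := by
  obtain ⟨k, hk, hkn⟩ := S.nw_K
  have hxi := inv_ne_zero hx
  have hv : S.vv (-x) = S.nw * S.tr x * S.nw⁻¹ := by
    rw [vv, neg_neg, hkn]
    calc S.n0 * S.tr x * S.n0⁻¹ = S.n0 * (S.tr x * k) * k⁻¹ * S.n0⁻¹ := by group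
      _ = S.n0 * (k * S.tr x) * k⁻¹ * S.n0⁻¹ := by rw [Subgroup.mem_centralizer_iff.1 hk.2 _ (S.tr_mem x)]
      _ = _ := by group
  have hn : S.hh x⁻¹ * S.nw = S.tr x⁻¹ * (S.nw * S.tr x * S.nw⁻¹) * S.tr x⁻¹ := by
    rw [hh, if_neg hxi, inv_mul_cancel_right, nn, inv_inv, hv]
  have hm1 : (-1 : F) ≠ 0 := neg_ne_zero.2 one_ne_zero
  calc S.nw * S.tr x * S.nw
      = (S.tr x⁻¹)⁻¹ * (S.tr x⁻¹ * (S.nw * S.tr x * S.nw⁻¹) * S.tr x⁻¹) * (S.tr x⁻¹)⁻¹ * (S.nw * S.nw) := by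
        group
    _ = S.tr (-x⁻¹) * (S.hh x⁻¹ * S.nw) * S.tr (-x⁻¹) * S.hh (-1) := by rw [← hn, S.tr_neg, S.nw_sq]
    _ = S.tr (-x⁻¹) * S.hh x⁻¹ * S.nw * (S.tr (-x⁻¹) * S.hh (-1)) := by group
    _ = S.tr (-x⁻¹) * S.hh x⁻¹ * (S.nw * S.hh (-1)) * S.tr (-x⁻¹) := by
        rw [show S.tr (-x⁻¹) * S.hh (-1) = S.hh (-1) * S.tr (-x⁻¹) by
          rw [S.tr_hh hm1]; simp]
        group
    _ = S.tr (-x⁻¹) * (S.hh x⁻¹ * S.hh (-1)) * S.nw * S.tr (-x⁻¹) := by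
        rw [S.nw_hh hm1, inv_neg, inv_one]; group
    _ = _ := by rw [← S.hh_mul hxi hm1, mul_neg_one]

/-- The central element of the block's group is `t`. -/
theorem hh_neg_one_eq : S.hh (-1) = S.t := by
  have hm1 : (-1 : F) ≠ 0 := neg_ne_zero.2 one_ne_zero
  have hsq : S.hh (-1) * S.hh (-1) = 1 := by rw [← S.hh_mul hm1 hm1, neg_mul_neg, one_mul, S.hh_one]
  refine (S.t_unique (S.hh_mem hm1) hsq).resolve_left fun e1 => ?_
  have hsmall : ∀ {h : G}, h ∈ S.H → h * h = 1 → S.eps h = 1 := fun {h} h' h2 => by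
    rcases S.t_unique h' h2 with rfl | rfl
    · exact S.eps_one
    · exact S.eps_K S.t_mem_K
  letI := Fintype.ofFinite F
  by_cases hi : IsSquare (-1 : F)
  · obtain ⟨i, hi⟩ := hi
    have hi0 : i ≠ 0 := fun e => hm1 (by rw [hi, e, mul_zero])
    have := hsmall (S.hh_mem hi0) (by rw [← S.hh_mul hi0 hi0, ← hi, e1])
    rw [S.eps_hh hi0, ← hi] at this
    exact S.two_ne_F (by linear_combination -this)
  obtain ⟨h, h', he⟩ := S.exists_eps_eq hm1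
  have hne2 : h * h ≠ 1 := fun e => S.two_ne_F (by linear_combination (hsmall h' e).symm.trans he)
  have h2K : h * h ∈ S.K := (S.eps_eq_one_iff (mul_mem h' h')).1 (by rw [S.eps_mul h' h', he]; ring)
  have hcn : S.nw * h = h * S.nw := by
    have e := S.hh_eps h'
    rw [he, e1] at e
    calc S.nw * h = (h * (S.nw * h⁻¹ * S.nw⁻¹))⁻¹ * h * S.nw := by group
      _ = h * S.nw := by rw [← e, inv_one, one_mul]
  have hcw : S.w * h = h * S.w := by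
    obtain ⟨k, hk, hkn⟩ := S.nw_K
    obtain ⟨k', hk', hkn'⟩ := S.exists_n0.choose_spec.2.2.2.2
    rw [show S.nw = S.w * (k' * k) by rw [hkn, show S.n0 = S.w * k' from hkn', mul_assoc]] at hcn
    refine mul_right_cancel (b := k' * k) ?_
    rw [mul_assoc, S.H_comm h' (mul_mem hk' (S.K_le hk)), ← mul_assoc, hcn, mul_assoc]
  obtain ⟨g, hg⟩ := isConj_iff.1 S.w_mem.1
  -- the kernel of the block of `w`
  have hgh : g⁻¹ * h * g * S.t = S.t * (g⁻¹ * h * g) := by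
    rw [← hg] at hcw
    calc g⁻¹ * h * g * S.t = g⁻¹ * (h * (g * S.t * g⁻¹)) * g := by group
      _ = g⁻¹ * ((g * S.t * g⁻¹) * h) * g := by rw [hcw]
      _ = _ := by group
  have hfix : ∀ x : Ω, h • x = x → x = S.a ∨ x = S.b := by
    intro x hx
    have hxB : S.t • x = x := (S.fix_of_mem_K h2K hne2).1 (by rw [mul_smul, hx, hx])
    by_cases hxa : x = S.a
    · exact Or.inl hxa
    obtain ⟨z, rfl⟩ := S.exists_pb hxB hxa
    rw [S.H_pb h', he] at hx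
    have hz : z = 0 := by
      have := S.pb_inj hx
      exact (mul_eq_zero.1 (show (2 : F) * z = 0 by linear_combination -this)).resolve_left S.two_ne_F
    exact Or.inr (by rw [hz, S.pb_zero])
  have hK2 : ∀ k ∈ S.K, k = 1 ∨ k = S.t := by
    intro k hk
    refine S.t_unique (S.K_le hk) ?_
    by_contra hne
    have hc := S.stab_comm_K hgh hk
    have hmap : ∀ x : Ω, h • x = x → h • ((g * k * g⁻¹) • x) = (g * k * g⁻¹) • x := fun x hx => by
      rw [← mul_smul, show h * (g * k * g⁻¹) = g * (g⁻¹ * h * g * k) * g⁻¹ by group, hc,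
        show g * (k * (g⁻¹ * h * g)) * g⁻¹ = (g * k * g⁻¹) * h by group, mul_smul, hx]
    have h2 : (g * (k * k) * g⁻¹) • S.a = S.a := by
      rw [show g * (k * k) * g⁻¹ = (g * k * g⁻¹) * (g * k * g⁻¹) by group, mul_smul]
      rcases hfix _ (hmap _ (S.H_fix_a h')) with e | e
      · rw [e, e]
      · rcases hfix _ (hmap _ (S.H_fix_b h')) with e' | e'
        · rw [e, e']
        · exact absurd (MulAction.injective (g * k * g⁻¹) (e.trans e'.symm)) S.ab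
    rw [mul_smul, mul_smul, smul_eq_iff_eq_inv_smul, S.fix_of_mem_K (mul_mem hk hk) hne] at h2
    refine S.ab ?_
    rw [← S.w_mem.2, ← hg, mul_smul, mul_smul, h2, smul_inv_smul]
  have hcK : Nat.card S.K ≤ 2 := by
    calc Nat.card S.K ≤ ({1, S.t} : Set G).ncard := by
          rw [← SetLike.coe_sort_coe, Nat.card_coe_set_eq]
          exact Set.ncard_le_ncard (fun k hk => hK2 k hk) (Set.toFinite _)
      _ ≤ 2 := (Set.ncard_insert_le _ _).trans (by rw [Set.ncard_singleton])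
  have h34 : Fintype.card F % 4 = 3 := Classical.not_not.1 fun hne => hi (FiniteField.isSquare_neg_one_iff.2 hne)
  rw [← Nat.card_eq_fintype_card, S.card_F] at h34
  have hK := S.card_K
  rcases S.d_cases with hd | ⟨hd, h3⟩
  · subst hd; have := S.two_le_q; omega
  · subst hd; have := S.two_le_q; omega

end Setting

end CfsgLib.U3Odd
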