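/-
The group `SL₂(q)` of the block acts regularly on the points outside the block.
-/
import Cfsg.Agent.U3Odd.Weyl
import Cfsg.Agent.U3Odd.Top
import Cfsg.Agent.SL2C.Basic

set_option autoImplicit false
set_option linter.style.haveILetI false
set_option linter.unusedSectionVars false

namespace CfsgLib.U3Odd

open MulAction

/-- Upper unitriangular matrix. -/
def mU {F : Type*} [Field F] (x : F) : Matrix.SpecialLinearGroup (Fin 2) F :=
  ⟨!![1, x; 0, 1], by simp [Matrix.det_fin_two]⟩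

/-- The Weyl matrix. -/
def mN {F : Type*} [Field F] : Matrix.SpecialLinearGroup (Fin 2) F :=
  ⟨!![0, 1; -1, 0], by simp [Matrix.det_fin_two]⟩

/-- Diagonal matrix. -/
def mH {F : Type*} [Field F] (m : Fˣ) : Matrix.SpecialLinearGroup (Fin 2) F :=
  ⟨!![(m : F), 0; 0, (m : F)⁻¹], by simp [Matrix.det_fin_two]⟩

lemma val_mul {F : Type*} [Field F] (g h : Matrix.SpecialLinearGroup (Fin 2) F) : (g * h).1 = g.1 * h.1 := rfl

lemma mU_val {F : Type*} [Field F] (x : F) : (mU x).1 = !![1, x; 0, 1] := rfl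

lemma mN_val {F : Type*} [Field F] : (mN : Matrix.SpecialLinearGroup (Fin 2) F).1 = !![0, 1; -1, 0] := rfl

lemma mH_val {F : Type*} [Field F] (m : Fˣ) : (mH m).1 = !![(m : F), 0; 0, (m : F)⁻¹] := rfl

lemma det_rel {F : Type*} [Field F] (g : Matrix.SpecialLinearGroup (Fin 2) F) :
    g.1 0 0 * g.1 1 1 - g.1 0 1 * g.1 1 0 = 1 := by
  rw [← Matrix.det_fin_two]; exact g.2

variable {G Ω : Type*} [Group G] [MulAction G Ω] [Finite G] [Finite Ω] [FaithfulSMul G Ω] [IsSimpleGroup G]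
  {p n d : ℕ} [Fact p.Prime]

namespace Setting

variable (S : Setting G Ω p n d)
include S

local notation "F" => GaloisField p n
local notation "SL₂" => Matrix.SpecialLinearGroup (Fin 2) (GaloisField p n)

open Classical in
/-- The element of a matrix. -/
noncomputable def elt (A B C D : GaloisField p n) : G :=
  if C = 0 then S.tr (B / D) * S.hh A else S.tr (A / C) * S.hh (-C⁻¹) * S.nw * S.tr (D / C)

theorem elt_U (x A B C D : F) (hdet : A * D - B * C = 1) :
    S.elt (A + x * C) (B + x * D) C D = S.tr x * S.elt A B C D := by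
  by_cases hC : C = 0
  · have hD : D ≠ 0 := fun h => by rw [hC, h] at hdet; simp at hdet
    rw [elt, elt, if_pos hC, if_pos hC, hC, mul_zero, add_zero, ← mul_assoc, ← S.tr_add]
    congr 2
    field_simp
    ring
  · rw [elt, elt, if_neg hC, if_neg hC, ← mul_assoc, ← mul_assoc, ← mul_assoc, ← S.tr_add]
    congr 4
    field_simp
    ring

theorem elt_H {m : F} (hm : m ≠ 0) (A B C D : F) (hdet : A * D - B * C = 1) :
    S.elt (m * A) (m * B) (m⁻¹ * C) (m⁻¹ * D) = S.hh m * S.elt A B C D := by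
  by_cases hC : C = 0
  · have hA : A ≠ 0 := fun h => by rw [hC, h] at hdet; simp at hdet
    rw [elt, elt, if_pos (by rw [hC, mul_zero]), if_pos hC, ← mul_assoc, S.tr_hh hm, S.hh_mul hm hA, ← mul_assoc]
    congr 3
    field_simp
  · have hC' : -C⁻¹ ≠ 0 := neg_ne_zero.2 (inv_ne_zero hC)
    rw [elt, elt, if_neg (mul_ne_zero (inv_ne_zero hm) hC), if_neg hC, ← mul_assoc, ← mul_assoc, ← mul_assoc,
      S.tr_hh hm, mul_assoc (S.tr _) (S.hh m), ← S.hh_mul hm hC']
    have e1 : m * A / (m⁻¹ * C) = m * m * (A / C) := by field_simp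
    have e2 : -(m⁻¹ * C)⁻¹ = m * -C⁻¹ := by field_simp
    have e3 : m⁻¹ * D / (m⁻¹ * C) = D / C := by field_simp
    rw [e1, e2, e3]

theorem elt_N (A B C D : F) (hdet : A * D - B * C = 1) : S.elt C D (-A) (-B) = S.nw * S.elt A B C D := by
  by_cases hC : C = 0
  · have hA : A ≠ 0 := fun h => by rw [hC, h] at hdet; simp at hdet
    rw [hC, mul_zero, sub_zero] at hdet
    have hD : D = A⁻¹ := eq_inv_of_mul_eq_one_right hdet
    rw [elt, elt, if_neg (neg_ne_zero.2 hA), if_pos hC, hC, zero_div, S.tr_zero, one_mul, hD, inv_neg, neg_neg]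
    have h := S.tr_hh hA (-B / -A)
    rw [show A * A * (-B / -A) = B / A⁻¹ by field_simp] at h
    rw [← h, ← mul_assoc S.nw, S.nw_hh hA]
  · by_cases hA : A = 0
    · have hB : B = -C⁻¹ := by
        rw [hA, zero_mul, zero_sub] at hdet
        field_simp
        linear_combination -hdet
      rw [elt, elt, if_pos (by rw [hA, neg_zero]), if_neg hC, hA, zero_div, S.tr_zero, one_mul, ← mul_assoc,
        ← mul_assoc, S.nw_hh (neg_ne_zero.2 (inv_ne_zero hC)), inv_neg, inv_inv, mul_assoc (S.hh (-C)) S.nw S.nw,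
        S.nw_sq, ← S.hh_mul (neg_ne_zero.2 hC) (neg_ne_zero.2 one_ne_zero), neg_mul_neg, mul_one, S.tr_hh hC, hB,
        neg_neg]
      congr 2
      field_simp
    have hx : A / C ≠ 0 := div_ne_zero hA hC
    have hxi : -(A / C)⁻¹ ≠ 0 := neg_ne_zero.2 (inv_ne_zero hx)
    rw [elt, elt, if_neg (neg_ne_zero.2 hA), if_neg hC]
    have key : S.nw * (S.tr (A / C) * S.hh (-C⁻¹) * S.nw * S.tr (D / C)) =
        S.tr (-(A / C)⁻¹) * S.hh (-(A / C)⁻¹) * S.nw * S.tr (-(A / C)⁻¹) * S.hh (-C) * S.tr (D / C) := by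
      calc S.nw * (S.tr (A / C) * S.hh (-C⁻¹) * S.nw * S.tr (D / C))
          = S.nw * S.tr (A / C) * (S.hh (-C⁻¹) * S.nw) * S.tr (D / C) := by group
        _ = S.nw * S.tr (A / C) * (S.nw * S.hh (-C)) * S.tr (D / C) := by
            rw [S.nw_hh (neg_ne_zero.2 hC), inv_neg]
        _ = (S.nw * S.tr (A / C) * S.nw) * S.hh (-C) * S.tr (D / C) := by group
        _ = _ := by rw [S.nw_tr hx]
    rw [key]
    set y := -(A / C)⁻¹ with hy
    have e1 : S.tr y * S.hh (-C) = S.hh (-C) * S.tr (y / (C * C)) := by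
      rw [S.tr_hh (neg_ne_zero.2 hC)]; congr 2; field_simp
    rw [mul_assoc (S.tr y * S.hh y * S.nw) (S.tr y), e1, show S.tr y * S.hh y * S.nw *
      (S.hh (-C) * S.tr (y / (C * C))) * S.tr (D / C) =
      S.tr y * S.hh y * (S.nw * S.hh (-C)) * (S.tr (y / (C * C)) * S.tr (D / C)) by group,
      S.nw_hh (neg_ne_zero.2 hC), ← S.tr_add, show (-C)⁻¹ = -C⁻¹ from inv_neg, ← mul_assoc _ (S.hh (-C⁻¹)) S.nw,
      mul_assoc (S.tr y) (S.hh y), ← S.hh_mul hxi (neg_ne_zero.2 (inv_ne_zero hC))]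
    have e2 : C / -A = y := by rw [hy]; field_simp
    have e3 : y * -C⁻¹ = -(-A)⁻¹ := by rw [hy]; field_simp
    have e4 : y / (C * C) + D / C = -B / -A := by
      rw [hy]; field_simp; linear_combination hdet
    rw [e2, e3, e4]

/-- The element of a matrix. -/
noncomputable def elf (g : Matrix.SpecialLinearGroup (Fin 2) (GaloisField p n)) : G :=
  S.elt (g.1 0 0) (g.1 0 1) (g.1 1 0) (g.1 1 1)

theorem elf_mU (x : F) (g : SL₂) : S.elf (mU x * g) = S.tr x * S.elf g := by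
  rw [elf, elf, ← S.elt_U x _ _ _ _ (det_rel g)]
  simp [val_mul, mU_val, Matrix.mul_apply, Fin.sum_univ_two]

theorem elf_mH (m : Fˣ) (g : SL₂) : S.elf (mH m * g) = S.hh m * S.elf g := by
  rw [elf, elf, ← S.elt_H m.ne_zero _ _ _ _ (det_rel g)]
  simp [val_mul, mH_val, Matrix.mul_apply, Fin.sum_univ_two]

theorem elf_mN (g : SL₂) : S.elf (mN * g) = S.nw * S.elf g := by
  rw [elf, elf, ← S.elt_N _ _ _ _ (det_rel g)]
  simp [val_mul, mN_val, Matrix.mul_apply, Fin.sum_univ_two]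

theorem elf_one : S.elf 1 = 1 := by simp [elf, elt, S.tr_zero, S.hh_one]

theorem elf_mul (g g' : SL₂) : S.elf (g * g') = S.elf g * S.elf g' := by
  let P : SL₂ → Prop := fun g => ∀ g', S.elf (g * g') = S.elf g * S.elf g'
  have hP : ∀ g h, P g → P h → P (g * h) := fun g h hg hh g' => by
    rw [mul_assoc, hg, hh, hg h, mul_assoc]
  have hU : ∀ x, P (mU x) := fun x g' => by
    rw [S.elf_mU, ← mul_one (mU x), S.elf_mU, S.elf_one, mul_one]
  have hH : ∀ m, P (mH m) := fun m g' => by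
    rw [S.elf_mH, ← mul_one (mH m), S.elf_mH, S.elf_one, mul_one]
  have hN : P mN := fun g' => by
    rw [S.elf_mN, ← mul_one (mN : SL₂), S.elf_mN, S.elf_one, mul_one]
  refine (?_ : P g) g'
  have hdet := det_rel g
  by_cases hC : g.1 1 0 = 0
  · have hA : g.1 0 0 ≠ 0 := fun h => by rw [hC, h] at hdet; simp at hdet
    rw [hC, mul_zero, sub_zero] at hdet
    have hD : g.1 1 1 = (g.1 0 0)⁻¹ := eq_inv_of_mul_eq_one_right hdet
    have e : g = mU (g.1 0 1 * g.1 0 0) * mH (Units.mk0 _ hA) := by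
      ext i j
      fin_cases i <;> fin_cases j <;> simp [val_mul, mU_val, mH_val, hC, hD, hA, Matrix.mul_apply, Fin.sum_univ_two]
    rw [e]
    exact hP _ _ (hU _) (hH _)
  · have e : g = mU (g.1 0 0 / g.1 1 0) *
        (mH (Units.mk0 _ (neg_ne_zero.2 (inv_ne_zero hC))) * (mN * mU (g.1 1 1 / g.1 1 0))) := by
      ext i j
      fin_cases i <;> fin_cases j <;>
        simp [val_mul, mU_val, mH_val, mN_val, Matrix.mul_apply, Fin.sum_univ_two, Matrix.vecMul, dotProduct] <;> field_simp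
      all_goals linear_combination -hdet
    rw [e]
    exact hP _ _ (hU _) (hP _ _ (hH _) (hP _ _ hN (hU _)))

/-- The homomorphism from `SL₂(q)`. -/
noncomputable def L : Matrix.SpecialLinearGroup (Fin 2) (GaloisField p n) →* G := MonoidHom.mk' S.elf S.elf_mul

theorem L_apply (g : SL₂) : S.L g = S.elt (g.1 0 0) (g.1 0 1) (g.1 1 0) (g.1 1 1) := rfl

theorem L_mU (x : F) : S.L (mU x) = S.tr x := by simp [L_apply, elt, mU_val, S.hh_one]

theorem L_mN : S.L mN = S.nw := by simp [L_apply, elt, mN_val, S.tr_zero, S.hh_one]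

theorem L_mH (m : Fˣ) : S.L (mH m) = S.hh m := by simp [L_apply, elt, mH_val, S.tr_zero]

theorem L_neg_one : S.L (mH (-1 : Fˣ)) = S.t := by rw [S.L_mH, Units.val_neg, Units.val_one, S.hh_neg_one_eq]

theorem L_t (g : SL₂) : S.L g * S.t = S.t * S.L g := by
  rw [← S.L_neg_one, ← map_mul, ← map_mul]
  congr 1
  ext i j
  fin_cases i <;> fin_cases j <;> simp [val_mul, mH_val, Matrix.mul_apply, Fin.sum_univ_two]

/-- Conjugation by `H` on the group of the block. -/
theorem conj_L {h : G} (hh' : h ∈ S.H) (g g' : SL₂) (h0 : g'.1 0 0 = g.1 0 0) (h01 : g'.1 0 1 = S.eps h * g.1 0 1)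
    (h10 : g'.1 1 0 = g.1 1 0 / S.eps h) (h11 : g'.1 1 1 = g.1 1 1) : h * S.L g * h⁻¹ = S.L g' := by
  have hdet := det_rel g
  have he := S.eps_ne hh'
  rw [L_apply, L_apply, h0, h01, h10, h11]
  by_cases hC : g.1 1 0 = 0
  · have hA : g.1 0 0 ≠ 0 := fun h => by rw [hC, h] at hdet; simp at hdet
    rw [elt, elt, if_pos hC, if_pos (by rw [hC, zero_div]), show S.eps h * g.1 0 1 / g.1 1 1 =
      S.eps h * (g.1 0 1 / g.1 1 1) by ring, ← S.conj_tr hh']
    generalize g.1 0 1 / g.1 1 1 = x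
    calc h * (S.tr x * S.hh (g.1 0 0)) * h⁻¹ = h * S.tr x * h⁻¹ * (h * S.hh (g.1 0 0) * h⁻¹) := by group
      _ = _ := by rw [S.H_comm hh' (S.hh_mem hA), mul_inv_cancel_right]
  · have hc' : -(g.1 1 0)⁻¹ ≠ 0 := neg_ne_zero.2 (inv_ne_zero hC)
    rw [elt, elt, if_neg hC, if_neg (div_ne_zero hC he),
      show g.1 0 0 / (g.1 1 0 / S.eps h) = S.eps h * (g.1 0 0 / g.1 1 0) by field_simp,
      show g.1 1 1 / (g.1 1 0 / S.eps h) = S.eps h * (g.1 1 1 / g.1 1 0) by field_simp,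
      show -(g.1 1 0 / S.eps h)⁻¹ = -(g.1 1 0)⁻¹ * S.eps h by field_simp,
      S.hh_mul hc' he, ← S.conj_tr hh', ← S.conj_tr hh']
    have hn : h * S.nw * h⁻¹ = S.hh (S.eps h) * S.nw := by rw [S.hh_eps hh']; group
    generalize g.1 0 0 / g.1 1 0 = x
    generalize g.1 1 1 / g.1 1 0 = z
    calc h * (S.tr x * S.hh (-(g.1 1 0)⁻¹) * S.nw * S.tr z) * h⁻¹
        = (h * S.tr x * h⁻¹) * (h * S.hh (-(g.1 1 0)⁻¹) * h⁻¹) * (h * S.nw * h⁻¹) * (h * S.tr z * h⁻¹) := by group
      _ = _ := by rw [S.H_comm hh' (S.hh_mem hc'), mul_inv_cancel_right, hn]; group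

theorem L_a_of_zero {g : SL₂} (hC : g.1 1 0 = 0) : S.L g • S.a = S.a := by
  have hA : g.1 0 0 ≠ 0 := fun h => by
    have := det_rel g; rw [hC, h] at this; simp at this
  rw [L_apply, elt, if_pos hC, mul_smul, S.H_fix_a (S.hh_mem hA), S.tr_a]

theorem L_a_of_ne {g : SL₂} (hC : g.1 1 0 ≠ 0) : S.L g • S.a = S.pb (g.1 0 0 / g.1 1 0) := by
  have hc' : -(g.1 1 0)⁻¹ ≠ 0 := neg_ne_zero.2 (inv_ne_zero hC)
  rw [L_apply, elt, if_neg hC, mul_smul, mul_smul, mul_smul, S.tr_a, S.nw_action.1, S.H_fix_b (S.hh_mem hc')]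
  rfl

theorem L_eq_zero_of_fix {g : SL₂} (h : S.L g • S.a = S.a) : g.1 1 0 = 0 := by
  by_contra hC
  exact S.pb_ne _ ((S.L_a_of_ne hC).symm.trans h)

theorem exists_L {y : Ω} (hy : S.t • y = y) : ∃ g : SL₂, S.L g • S.a = y := by
  by_cases hya : y = S.a
  · exact ⟨1, by rw [map_one, one_smul, hya]⟩
  obtain ⟨x, rfl⟩ := S.exists_pb hy hya
  refine ⟨mU x * mN, ?_⟩
  rw [map_mul, S.L_mU, S.L_mN, mul_smul, S.nw_action.1]
  rfl

theorem L_fix_a {g : SL₂} {P : Ω} (hP : S.t • P ≠ P) (ha : S.L g • S.a = S.a) (hgP : S.L g • P = P) : g = 1 := by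
  have hC := S.L_eq_zero_of_fix ha
  have hdet := det_rel g
  have hA : g.1 0 0 ≠ 0 := fun h => by rw [hC, h] at hdet; simp at hdet
  have hPa : P ≠ S.a := fun e => hP (by rw [e, S.t_a])
  have hL : S.L g = S.tr (g.1 0 1 / g.1 1 1) * S.hh (g.1 0 0) := by rw [L_apply, elt, if_pos hC]
  rw [hL] at hgP
  set x := g.1 0 1 / g.1 1 1 with hx
  have hA2 : g.1 0 0 * g.1 0 0 = 1 := by
    by_contra hne
    set y := x / (1 - g.1 0 0 * g.1 0 0) with hy
    have h1 : 1 - g.1 0 0 * g.1 0 0 ≠ 0 := sub_ne_zero.2 (Ne.symm hne)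
    have hh1 : S.hh (g.1 0 0) ≠ 1 := fun e => hne (by rw [← S.eps_hh hA, e, S.eps_one])
    have e : S.hh (g.1 0 0) • (S.tr (-y) • P) = S.tr (-y) • P := by
      conv_rhs => rw [← hgP]
      rw [← mul_smul, S.tr_hh hA, ← mul_smul, ← mul_assoc, ← S.tr_add]
      have hxy : x = y * (1 - g.1 0 0 * g.1 0 0) := by rw [hy, div_mul_cancel₀ _ h1]
      congr 3
      first | linear_combination hxy | linear_combination -hxy
    have := S.fix_H (S.hh_mem hA) hh1 e
    rw [← mul_smul, ← S.tr_comm_t, mul_smul] at this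
    exact hP (MulAction.injective (S.tr (-y)) this)
  rcases mul_self_eq_one_iff.1 hA2 with hA1 | hA1
  · rw [hA1, S.hh_one, mul_one] at hgP
    have hx0 : x = 0 := S.tr_inj (by
      rw [S.tr_zero]; by_contra hne; exact hPa (S.U_only_a (S.tr_U x) hne hgP))
    rw [hA1, one_mul, hC, mul_zero, sub_zero] at hdet
    rw [hx, hdet, div_one] at hx0
    ext i j
    fin_cases i <;> fin_cases j <;> simp [hA1, hC, hdet, hx0]
  · exfalso
    rw [hA1, S.hh_neg_one_eq] at hgP
    have h2 : S.tr (x + x) • P = P := by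
      have := congrArg (fun z => (S.tr x * S.t) • z) hgP
      simp only [← mul_smul] at this
      rw [show S.tr x * S.t * (S.tr x * S.t) = S.tr x * (S.t * S.tr x) * S.t by group, ← S.tr_comm_t] at this
      rw [show S.tr x * (S.tr x * S.t) * S.t = S.tr x * S.tr x * (S.t * S.t) by group, S.t_sq, mul_one,
        ← S.tr_add] at this
      rw [this, hgP]
    have hxx : x + x = 0 := S.tr_inj (by
      rw [S.tr_zero]; by_contra hne; exact hPa (S.U_only_a (S.tr_U _) hne h2))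
    rw [← two_mul] at hxx
    rw [(mul_eq_zero.1 hxx).resolve_left S.two_ne_F, S.tr_zero, one_mul] at hgP
    exact hP hgP

theorem L_no_fix {g : SL₂} {P : Ω} (hP : S.t • P ≠ P) (hgP : S.L g • P = P) (h1 : g ≠ 1) {y : Ω}
    (hy : S.t • y = y) : S.L g • y ≠ y := by
  intro hgy
  obtain ⟨c, rfl⟩ := S.exists_L hy
  refine h1 ?_
  have hP' : S.t • (S.L c⁻¹ • P) ≠ S.L c⁻¹ • P := fun e => hP (MulAction.injective (S.L c⁻¹) (by
    show S.L c⁻¹ • S.t • P = S.L c⁻¹ • P
    rw [← mul_smul, S.L_t, mul_smul]; exact e))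
  have := S.L_fix_a (g := c⁻¹ * g * c) hP'
    (by rw [map_mul, map_mul, mul_smul, mul_smul, hgy, ← mul_smul, ← map_mul, inv_mul_cancel, map_one, one_smul])
    (by rw [← mul_smul, ← map_mul, mul_inv_cancel_right, map_mul, mul_smul, hgP])
  rw [mul_assoc, inv_mul_eq_one] at this
  exact mul_eq_right.1 this.symm

/-- No non-trivial element fixes a point outside the block. -/
theorem L_free {g : SL₂} {P : Ω} (hP : S.t • P ≠ P) (hgP : S.L g • P = P) : g = 1 := by
  classical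
  by_contra h1
  -- an element of prime order
  obtain ⟨r, hr, hrd⟩ := Nat.exists_prime_and_dvd (fun e => h1 (orderOf_eq_one_iff.1 e) : orderOf g ≠ 1)
  obtain ⟨m, hm⟩ := hrd
  set g1 := g ^ m with hg1def
  have hg1o : orderOf g1 = r := by
    rw [hg1def, orderOf_pow' g (fun e => by rw [e, mul_zero] at hm; exact (orderOf_pos g).ne' hm), hm,
      Nat.gcd_eq_right (Dvd.intro_left _ rfl), Nat.mul_div_cancel _ (Nat.pos_of_ne_zero fun e => by
        rw [e, mul_zero] at hm; exact (orderOf_pos g).ne' hm)]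
  have hg1 : g1 ≠ 1 := fun e => hr.one_lt.ne' (by rw [← hg1o, e, orderOf_one])
  have hg1P : S.L g1 • P = P := by
    rw [hg1def, map_pow]; exact mem_stabilizer_iff.1 (pow_mem (mem_stabilizer_iff.2 hgP) m)
  have hno : ∀ {y : Ω}, S.t • y = y → S.L g1 • y ≠ y := S.L_no_fix hP hg1P hg1
  have hC : g1.1 1 0 ≠ 0 := fun hC => hno S.t_a (S.L_a_of_zero hC)
  set x := S.L g1 with hx
  have hxo : x ^ r = 1 := by rw [hx, ← map_pow, ← hg1o, pow_orderOf_eq_one, map_one]
  have hr2 : r ≠ 2 := by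
    intro e
    have h2 : g1 * g1 = 1 := by
      have := pow_orderOf_eq_one g1
      rwa [hg1o, e, pow_two] at this
    have h21 := congrArg (fun M : SL₂ => M.1 1 0) h2
    have h22 := congrArg (fun M : SL₂ => M.1 0 0) h2
    simp [Matrix.mul_apply, Fin.sum_univ_two] at h21 h22
    have hAD : g1.1 0 0 + g1.1 1 1 = 0 := (mul_eq_zero.1 (show (g1.1 0 0 + g1.1 1 1) * g1.1 1 0 = 0 by
      linear_combination h21)).resolve_right hC
    exact S.two_ne_F (by linear_combination g1.1 0 0 * hAD - det_rel g1 - h22)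
  -- `r` divides `q + 1`
  have hrq : r ∣ p ^ n + 1 := by
    haveI := Fact.mk hr
    let B : SubMulAction (Subgroup.zpowers x) Ω :=
      { carrier := fixedBy Ω S.t
        smul_mem' := fun z y hy => by
          have hz : (z : G) * S.t = S.t * z := by
            obtain ⟨k, hk⟩ := Subgroup.mem_zpowers_iff.1 z.2
            rw [← hk]
            exact (Commute.zpow_left (S.L_t g1) k : Commute (x ^ k) S.t)
          exact S.smul_block hz hy }
    have hpg : IsPGroup r (Subgroup.zpowers x) := by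
      refine IsPGroup.of_card (n := 1) ?_
      rw [Nat.card_zpowers, pow_one]
      exact orderOf_eq_prime hxo fun e => hno S.t_a (by rw [e, one_smul])
    have hmod := hpg.card_modEq_card_fixedPoints B
    have h0 : Nat.card (MulAction.fixedPoints (Subgroup.zpowers x) B) = 0 := by
      haveI : IsEmpty (MulAction.fixedPoints (Subgroup.zpowers x) B) := ⟨fun y =>
        hno (y : B).2 (congrArg Subtype.val (y.2 ⟨x, Subgroup.mem_zpowers x⟩))⟩
      exact Nat.card_of_isEmpty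
    have hB : Nat.card B = p ^ n + 1 := by
      rw [← S.card_U0, U0, ← S.card_fix S.t_mem, ← Nat.card_coe_set_eq]
      rfl
    rw [h0, hB] at hmod
    exact Nat.modEq_zero_iff_dvd.1 hmod
  -- conjugate into `H`
  have hxt : x * S.t = S.t * x := S.L_t g1
  obtain ⟨f, hfa, hfb⟩ := S.two S.a S.b P (S.t • P) S.ab (Ne.symm hP)
  have hyH : f⁻¹ * x * f ∈ S.H := (S.mem_H _).2
    ⟨by rw [mul_smul, mul_smul, hfa, hg1P, ← hfa, inv_smul_smul],
     by rw [mul_smul, mul_smul, hfb, ← mul_smul x, hxt, mul_smul S.t, hg1P, ← hfb, inv_smul_smul]⟩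
  set y := f⁻¹ * x * f with hy
  have hy1 : y ≠ 1 := fun e => hno S.t_a (by
    rw [show x = f * y * f⁻¹ by rw [hy]; group, e, mul_one, mul_inv_cancel, one_smul])
  have hyr : y ^ r = 1 := by
    rw [hy, show f⁻¹ * x * f = f⁻¹ * x * f⁻¹⁻¹ by group, conj_pow, hxo]; group
  have hyo : orderOf y = r := by haveI := Fact.mk hr; exact orderOf_eq_prime hyr hy1
  have hrH : r ∣ Nat.card S.H := hyo ▸ Subgroup.orderOf_dvd_natCard S.H hyH
  have hrq1 : ¬ r ∣ p ^ n - 1 := fun hd => by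
    have h2 := Nat.dvd_sub hrq hd
    rw [show p ^ n + 1 - (p ^ n - 1) = 2 by have := S.two_le_q; omega] at h2
    exact hr2 ((Nat.prime_dvd_prime_iff_eq hr Nat.prime_two).1 h2)
  have hrK : r ∣ Nat.card S.K := by
    have e := S.card_range_actU0
    rw [show Nat.card S.actU0.range = p ^ n - 1 by have := S.card_range; omega] at e
    exact (hr.dvd_mul.1 (e ▸ hrH)).resolve_right hrq1
  haveI := Fact.mk hr
  obtain ⟨⟨z, hz⟩, hzo⟩ := exists_prime_orderOf_dvd_card' r hrK
  rw [Subgroup.orderOf_mk] at hzo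
  have hyK : y ∈ S.K := Subgroup.zpowers_le.2 hz (mem_zpowers_of_orderOf_dvd S.H_cyclic (S.K_le hz) hyH
    (by rw [hzo, hyo]))
  -- an element inverting it
  obtain ⟨h, hh', he⟩ := S.exists_eps_eq (x := (-1 : F)) (neg_ne_zero.2 one_ne_zero)
  set c := mU ((g1.1 0 0 - g1.1 1 1) / g1.1 1 0) with hc
  let g2 : SL₂ := ⟨!![g1.1 0 0, -g1.1 0 1; -g1.1 1 0, g1.1 1 1], by
    rw [Matrix.det_fin_two_of]; linear_combination det_rel g1⟩
  have hconj1 : h * x * h⁻¹ = S.L g2 := by
    refine S.conj_L hh' g1 g2 rfl ?_ ?_ rfl <;> simp [g2, he, div_neg]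
  have hconj2 : c * g2 = g1⁻¹ * c := by
    apply Subtype.ext
    rw [Matrix.SpecialLinearGroup.coe_mul, Matrix.SpecialLinearGroup.coe_mul, Matrix.SpecialLinearGroup.coe_inv,
      Matrix.adjugate_fin_two]
    ext i j
    fin_cases i <;> fin_cases j <;>
      simp [c, mU_val, g2, Matrix.mul_apply, Fin.sum_univ_two, Matrix.vecMul, dotProduct] <;> field_simp <;> ring
  set k := S.L c * h with hk
  have hkx : k * x * k⁻¹ = x⁻¹ := by
    rw [hk, show S.L c * h * x * (S.L c * h)⁻¹ = S.L c * (h * x * h⁻¹) * (S.L c)⁻¹ by group, hconj1, ← map_mul,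
      hconj2, map_mul, mul_inv_cancel_right, map_inv]
  set j := f⁻¹ * k * f with hj
  have hjy : j * y * j⁻¹ = y⁻¹ := by
    rw [hj, hy, show f⁻¹ * k * f * (f⁻¹ * x * f) * (f⁻¹ * k * f)⁻¹ = f⁻¹ * (k * x * k⁻¹) * f by group, hkx]
    group
  have hjt : j * S.t = S.t * j := S.comm_t_of_maps fun v hv => by
    refine (S.fix_of_mem_K (inv_mem hyK) (inv_ne_one.2 hy1)).1 ?_
    rw [← hjy, mul_smul, mul_smul, inv_smul_smul, (S.fix_of_mem_K hyK hy1).2 hv]
  have hc2 : y * y = 1 := by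
    have := S.stab_comm_K hjt hyK
    rw [this, mul_inv_cancel_right] at hjy
    exact mul_eq_one_iff_eq_inv.2 hjy
  have := orderOf_dvd_of_pow_eq_one (show y ^ 2 = 1 by rw [pow_two, hc2])
  rw [hyo] at this
  exact hr2 ((Nat.prime_dvd_prime_iff_eq hr Nat.prime_two).1 this)

theorem L_bijective {P : Ω} (hP : S.t • P ≠ P) {y : Ω} (hy : S.t • y ≠ y) : ∃! g : SL₂, S.L g • P = y := by
  classical
  letI := Fintype.ofFinite F
  let f : SL₂ → {z : Ω // S.t • z ≠ z} := fun g => ⟨S.L g • P, fun e => hP (MulAction.injective (S.L g) (by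
    show S.L g • S.t • P = S.L g • P
    rw [← mul_smul, S.L_t, mul_smul]; exact e))⟩
  have hf : Function.Injective f := fun g g' e => by
    have e' : S.L g • P = S.L g' • P := congrArg Subtype.val e
    refine (inv_mul_eq_one.1 (S.L_free hP (?_ : S.L (g'⁻¹ * g) • P = P))).symm
    rw [map_mul, mul_smul, e', ← mul_smul, ← map_mul, inv_mul_cancel, map_one, one_smul]
  have hc : Nat.card SL₂ = Nat.card {z : Ω // S.t • z ≠ z} := by
    have h := Set.ncard_add_ncard_compl (fixedBy Ω S.t)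
    rw [S.card_fix S.t_mem, S.card_Omega, ← U0, S.card_U0, ← Nat.card_coe_set_eq] at h
    change p ^ n + 1 + Nat.card {z : Ω // S.t • z ≠ z} = _ at h
    have e : p ^ (3 * n) = p ^ n * (p ^ n) ^ 2 := by rw [← pow_mul, ← pow_add]; congr 1; omega
    have h1 : 1 ≤ (p ^ n) ^ 2 := Nat.one_le_pow _ _ (pow_pos S.prime.pos _)
    rw [CfsgLib.SL2C.card_SL2_mul, ← Nat.card_eq_fintype_card, S.card_F, Nat.mul_sub_one]
    omega
  obtain ⟨g, hg⟩ := ((Nat.bijective_iff_injective_and_card f).2 ⟨hf, hc⟩).2 ⟨y, hy⟩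
  exact ⟨g, congrArg Subtype.val hg, fun g' hg' => hf (Subtype.ext (hg'.trans (congrArg Subtype.val hg).symm))⟩

end Setting

end CfsgLib.U3Odd
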