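/-
The generator of the two point stabiliser on the regular orbit of the block's `SL₂(q)` has no eigenvector: the pairs
of rows become pairs of elements of the field of `q ^ 2` elements on which it acts by scalars.
-/
import Cfsg.Agent.U3Odd.SL2
import Cfsg.Agent.U3Odd.Fields

set_option autoImplicit false
set_option linter.style.haveILetI false
set_option linter.unusedSectionVars false

namespace CfsgLib.U3Odd

open MulAction

variable {G Ω : Type*} [Group G] [MulAction G Ω] [Finite G] [Finite Ω] [FaithfulSMul G Ω] [IsSimpleGroup G]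
  {p n d : ℕ} [Fact p.Prime]

namespace Setting

variable (S : Setting G Ω p n d)
include S

local notation "F" => GaloisField p n
local notation "E" => GaloisField p (2 * n)
local notation "SL₂" => Matrix.SpecialLinearGroup (Fin 2) (GaloisField p n)

/-- The embedding. -/
noncomputable def emb : GaloisField p n →+* GaloisField p (2 * n) :=
  (exists_emb (show n ≠ 0 by have := S.n_pos; omega)).some.toRingHom

theorem n_ne : n ≠ 0 := by have := S.n_pos; omega

theorem cj_emb' (x : F) : cj (S.emb x) = S.emb x := cj_emb S.n_ne S.emb x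

theorem exists_base : ∃ P : Ω, S.t • P ≠ P := by
  by_contra h
  push Not at h
  exact S.t_ne (eq_of_smul_eq_smul (α := Ω) fun x => by rw [h, one_smul])

/-- The base point. -/
noncomputable def P0 : Ω := S.exists_base.choose

theorem P0_off : S.t • S.P0 ≠ S.P0 := S.exists_base.choose_spec

theorem L_off (g : SL₂) : S.t • (S.L g • S.P0) ≠ S.L g • S.P0 := fun e =>
  S.P0_off (MulAction.injective (S.L g) (by
    show S.L g • S.t • S.P0 = S.L g • S.P0
    rw [← mul_smul, S.L_t, mul_smul]; exact e))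

theorem L_P0_inj {g g' : SL₂} (h : S.L g • S.P0 = S.L g' • S.P0) : g = g' :=
  (S.L_bijective S.P0_off (S.L_off g')).unique h rfl

theorem exists_gen : ∃ g ∈ S.H, ∀ h ∈ S.H, ∃ k : ℕ, h = g ^ k := by
  obtain ⟨⟨g, hg⟩, hgen⟩ := S.H_cyclic.exists_generator
  refine ⟨g, hg, fun h hh => ?_⟩
  obtain ⟨k, hk⟩ := Submonoid.mem_powers_iff _ _ |>.1 (mem_powers_iff_mem_zpowers.2 (hgen ⟨h, hh⟩))
  exact ⟨k, (congrArg Subtype.val hk).symm⟩

/-- A generator of `H`. -/
noncomputable def g0 : G := S.exists_gen.choose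

theorem g0_mem : S.g0 ∈ S.H := S.exists_gen.choose_spec.1

theorem exists_pow_g0 {h : G} (hh : h ∈ S.H) : ∃ k : ℕ, h = S.g0 ^ k := S.exists_gen.choose_spec.2 h hh

theorem g0_off : S.t • (S.g0 • S.P0) ≠ S.g0 • S.P0 := fun e => S.P0_off (MulAction.injective S.g0 (by
  show S.g0 • S.t • S.P0 = S.g0 • S.P0
  rw [← mul_smul, S.H_comm_t S.g0_mem, mul_smul]; exact e))

/-- The element of the block's group matching the generator at the base point. -/
noncomputable def kap : Matrix.SpecialLinearGroup (Fin 2) (GaloisField p n) :=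
  (S.L_bijective S.P0_off S.g0_off).exists.choose

theorem kap_spec : S.L S.kap • S.P0 = S.g0 • S.P0 := (S.L_bijective S.P0_off S.g0_off).exists.choose_spec

/-- The generator in coordinates. -/
theorem g0_L (g : SL₂) : ∃ g' : SL₂, S.g0 • (S.L g • S.P0) = S.L g' • S.P0 ∧
    g'.1 0 0 = g.1 0 0 * S.kap.1 0 0 + S.eps S.g0 * g.1 0 1 * S.kap.1 1 0 ∧
    g'.1 0 1 = g.1 0 0 * S.kap.1 0 1 + S.eps S.g0 * g.1 0 1 * S.kap.1 1 1 ∧
    g'.1 1 0 = g.1 1 0 / S.eps S.g0 * S.kap.1 0 0 + g.1 1 1 * S.kap.1 1 0 ∧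
    g'.1 1 1 = g.1 1 0 / S.eps S.g0 * S.kap.1 0 1 + g.1 1 1 * S.kap.1 1 1 := by
  have he := S.eps_ne S.g0_mem
  let c : SL₂ := ⟨!![g.1 0 0, S.eps S.g0 * g.1 0 1; g.1 1 0 / S.eps S.g0, g.1 1 1], by
    rw [Matrix.det_fin_two_of]; field_simp; linear_combination det_rel g⟩
  refine ⟨c * S.kap, ?_, ?_, ?_, ?_, ?_⟩
  · rw [map_mul, mul_smul, S.kap_spec, ← S.conj_L S.g0_mem g c rfl rfl rfl rfl, mul_smul, mul_smul, inv_smul_smul]
  all_goals rw [val_mul]
  all_goals simp [c, Matrix.mul_apply, Fin.sum_univ_two]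

/-- The unique element of `U` carrying `b` to a point. -/
noncomputable def toU (x : Ω) : G :=
  open Classical in if h : x = S.a then 1 else (S.U_trans x h).choose

theorem toU_mem (x : Ω) : S.toU x ∈ S.U := by
  unfold toU
  split
  · exact one_mem _
  · rename_i h
    exact (S.U_trans x h).choose_spec.1

theorem toU_b {x : Ω} (hx : x ≠ S.a) : S.toU x • S.b = x := by
  unfold toU
  rw [dif_neg hx]
  exact (S.U_trans x hx).choose_spec.2

theorem toU_smul {u : G} (hu : u ∈ S.U) : S.toU (u • S.b) = u :=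
  S.U_eq (S.toU_mem _) hu (S.toU_b (S.U_ne_a hu))

theorem toU_beta_ne {x : Ω} (hx : S.t • x ≠ x) : S.beta (S.toU x) ≠ 0 := fun e => hx (by
  have hxa : x ≠ S.a := fun e => hx (by rw [e, S.t_a])
  have := S.U0_block ((S.beta_eq_zero (S.toU_mem x)).1 e) (S.H_fix_b S.t_mem)
  rwa [S.toU_b hxa] at this)

theorem mU_of_bottom {g g' : SL₂} (h0 : g'.1 1 0 = g.1 1 0) (h1 : g'.1 1 1 = g.1 1 1) : ∃ s, g' = mU s * g := by
  refine ⟨g'.1 0 1 * g.1 0 0 - g'.1 0 0 * g.1 0 1, ?_⟩
  have hd := det_rel g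
  have hd' := det_rel g'
  rw [h0, h1] at hd'
  apply Subtype.ext
  rw [val_mul, mU_val]
  ext i j
  fin_cases i <;> fin_cases j <;> simp [Matrix.mul_apply, Fin.sum_univ_two, h0, h1]
  · linear_combination g.1 0 0 * hd' - g'.1 0 0 * hd
  · linear_combination g.1 0 1 * hd' - g'.1 0 1 * hd

/-- No row is an eigenvector. -/
theorem no_eigen {x y l : F} (hne : x ≠ 0 ∨ y ≠ 0)
    (hx : x / S.eps S.g0 * S.kap.1 0 0 + y * S.kap.1 1 0 = l * x)
    (hy : x / S.eps S.g0 * S.kap.1 0 1 + y * S.kap.1 1 1 = l * y) : False := by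
  obtain ⟨g, hg0, hg1⟩ : ∃ g : SL₂, g.1 1 0 = x ∧ g.1 1 1 = y := by
    by_cases hy0 : y = 0
    · have hx0 : x ≠ 0 := hne.resolve_right (not_not.2 hy0)
      exact ⟨⟨!![0, -x⁻¹; x, y], by simp [Matrix.det_fin_two_of, hx0]⟩, rfl, rfl⟩
    · exact ⟨⟨!![y⁻¹, 0; x, y], by simp [Matrix.det_fin_two_of, hy0]⟩, rfl, rfl⟩
  have hpow : ∀ k : ℕ, ∃ g' : SL₂, S.g0 ^ k • (S.L g • S.P0) = S.L g' • S.P0 ∧
      g'.1 1 0 = l ^ k * x ∧ g'.1 1 1 = l ^ k * y := by
    intro k
    induction k with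
    | zero => exact ⟨g, by rw [pow_zero, one_smul], by rw [hg0, pow_zero, one_mul], by rw [hg1, pow_zero, one_mul]⟩
    | succ k ih =>
      obtain ⟨g', e, e0, e1⟩ := ih
      obtain ⟨g'', e', -, -, e0', e1'⟩ := S.g0_L g'
      refine ⟨g'', by rw [pow_succ', mul_smul, e, e'], ?_, ?_⟩
      · rw [e0', e0, e1, pow_succ]; linear_combination l ^ k * hx
      · rw [e1', e0, e1, pow_succ]; linear_combination l ^ k * hy
  have hl : l ≠ 0 := fun e => by
    obtain ⟨g', -, e0, e1⟩ := hpow 1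
    have := det_rel g'
    rw [e0, e1, e] at this
    simp at this
  letI := Fintype.ofFinite F
  have hlq : l ^ (p ^ n - 1) = 1 := by
    rw [← S.card_F, Nat.card_eq_fintype_card]; exact FiniteField.pow_card_sub_one_eq_one l hl
  obtain ⟨g', e, e0, e1⟩ := hpow (p ^ n - 1)
  rw [hlq, one_mul] at e0 e1
  obtain ⟨s, rfl⟩ := S.mU_of_bottom (g := g) (g' := g') (e0.trans hg0.symm) (e1.trans hg1.symm)
  set P := S.L g • S.P0 with hP
  set h := S.g0 ^ (p ^ n - 1) with hh
  have hmem : h ∈ S.H := pow_mem S.g0_mem _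
  rw [map_mul, mul_smul, ← hP, S.L_mU] at e
  have hPoff : S.t • P ≠ P := S.L_off g
  have hPa : P ≠ S.a := fun e => hPoff (by rw [e, S.t_a])
  set u := S.toU P with hu
  have hconj : h * u * h⁻¹ = S.tr s * u := S.U_eq (S.conj_U hmem (S.toU_mem P)) (mul_mem (S.tr_U s) (S.toU_mem P)) (by
    rw [mul_smul, mul_smul, mul_smul, inv_smul_eq_iff.2 (S.H_fix_b hmem).symm, S.toU_b hPa, e])
  have hb := congrArg S.beta hconj
  rw [S.beta_conj hmem (S.toU_mem P), S.beta_mul (S.tr_U s) (S.toU_mem P),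
    (S.beta_eq_zero (S.tr_U s)).2 (S.tr_mem s), zero_add] at hb
  have h1 : h = 1 := S.chi_eq_one hmem ((mul_eq_right₀ (S.toU_beta_ne hPoff)).1 hb)
  have hall : ∀ k : S.H, k ^ (p ^ n - 1) = 1 := fun k => by
    obtain ⟨i, hi⟩ := S.exists_pow_g0 k.2
    apply Subtype.ext
    rw [SubmonoidClass.coe_pow, hi, ← pow_mul, mul_comm, pow_mul, ← hh, h1, one_pow]
    rfl
  haveI := S.H_cyclic
  obtain ⟨⟨z, hz⟩, hzgen⟩ := IsCyclic.exists_ofOrder_eq_natCard (α := S.H)
  have hdvd : Nat.card S.H ∣ p ^ n - 1 := hzgen ▸ orderOf_dvd_of_pow_eq_one (hall _)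
  have e2 := S.card_range_actU0
  rw [show Nat.card S.actU0.range = p ^ n - 1 by have := S.card_range; omega] at e2
  rw [← e2] at hdvd
  have h2 := S.two_le_q
  have hK1 : Nat.card S.K = 1 := by
    have h3 := Nat.le_of_dvd (by omega) hdvd
    have : 0 < Nat.card S.K := Nat.card_pos
    by_contra hne1
    have : 2 * (p ^ n - 1) ≤ Nat.card S.K * (p ^ n - 1) := Nat.mul_le_mul_right _ (by omega)
    omega
  exact S.t_ne (Subgroup.mem_bot.1 ((Subgroup.card_eq_one.1 hK1).le S.t_mem_K))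

/-- The frame: an eigenvalue and an element outside the field of `q` elements. -/
theorem exists_frame : ∃ ω θ : E, cj ω ≠ ω ∧
    S.emb (S.kap.1 0 0 / S.eps S.g0) + S.emb (S.kap.1 0 1 / S.eps S.g0) * ω = θ ∧
    S.emb (S.kap.1 1 0) + S.emb (S.kap.1 1 1) * ω = θ * ω := by
  set a := S.kap.1 0 0 / S.eps S.g0 with ha
  set b := S.kap.1 0 1 / S.eps S.g0 with hb
  set c := S.kap.1 1 0
  set e := S.kap.1 1 1
  have h2 := S.two_ne_F
  have hb0 : b ≠ 0 := fun h => S.no_eigen (x := 1) (y := 0) (l := a) (Or.inl one_ne_zero)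
    (by rw [ha]; ring) (by rw [show (1 : F) / S.eps S.g0 * S.kap.1 0 1 + 0 * S.kap.1 1 1 = b by rw [hb]; ring, h]; ring)
  obtain ⟨r, hr⟩ := exists_sqrt S.n_ne S.p_ne S.emb ((e - a) * (e - a) + 4 * b * c)
  simp only [map_add, map_mul, map_sub, map_ofNat] at hr
  have hb' : S.emb b ≠ 0 := (map_ne_zero S.emb).2 hb0
  have h2' : (2 : E) ≠ 0 := fun h => h2 ((map_eq_zero S.emb).1 (by rw [map_ofNat]; exact h))
  set ω := (S.emb e - S.emb a + r) / (2 * S.emb b) with hω
  have hroot : S.emb b * ω * ω + (S.emb a - S.emb e) * ω - S.emb c = 0 := by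
    rw [hω]; field_simp; linear_combination hr
  refine ⟨ω, S.emb a + S.emb b * ω, fun hfix => ?_, rfl, by linear_combination -hroot⟩
  obtain ⟨s, hs⟩ := exists_of_cj S.n_ne S.emb hfix
  have hq : b * s * s + (a - e) * s - c = 0 := S.emb.injective (by
    rw [map_sub, map_add, map_mul, map_mul, map_mul, map_sub, hs, map_zero]; exact hroot)
  by_cases h0 : c = 0 ∧ b * s = 0
  · refine S.no_eigen (x := 0) (y := 1) (l := e) (Or.inr one_ne_zero) ?_ ?_
    · rw [zero_div, zero_mul, zero_add, one_mul, mul_zero]; exact h0.1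
    · rw [zero_div, zero_mul, zero_add, one_mul, mul_one]
  · refine S.no_eigen (x := c) (y := b * s) (l := a + b * s) (by tauto) ?_ ?_
    · rw [ha]; ring
    · rw [show c / S.eps S.g0 * S.kap.1 0 1 = c * b by rw [hb]; ring]
      linear_combination -b * hq

end Setting

end CfsgLib.U3Odd
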