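/-
Points outside the block as pairs `(T, R)` of elements of the field of `q ^ 2` elements with `T R̄ - T̄ R = 2 δ`.
-/
import Cfsg.Agent.U3Odd.Frame

set_option autoImplicit false
set_option linter.style.haveILetI false
set_option linter.unusedSectionVars false

namespace CfsgLib.U3Odd

open MulAction

variable {G Ω : Type*} [Group G] [MulAction G Ω] [Finite G] [Finite Ω] [FaithfulSMul G Ω] [IsSimpleGroup G]
  {p n d : ℕ} [Fact p.Prime]

namespace Setting

variable (S : Setting G Ω p n d)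
include S

local notation "F" => GaloisField p n
local notation "E" => GaloisField p (2 * n)
local notation "SL₂" => Matrix.SpecialLinearGroup (Fin 2) (GaloisField p n)

/-- The second basis vector. -/
noncomputable def om : GaloisField p (2 * n) := S.exists_frame.choose

/-- The eigenvalue of the generator. -/
noncomputable def th : GaloisField p (2 * n) := S.exists_frame.choose_spec.choose

theorem om_ne : cj S.om ≠ S.om := S.exists_frame.choose_spec.choose_spec.1

theorem th_eq1 : S.emb (S.kap.1 0 0 / S.eps S.g0) + S.emb (S.kap.1 0 1 / S.eps S.g0) * S.om = S.th :=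
  S.exists_frame.choose_spec.choose_spec.2.1

theorem th_eq2 : S.emb (S.kap.1 1 0) + S.emb (S.kap.1 1 1) * S.om = S.th * S.om :=
  S.exists_frame.choose_spec.choose_spec.2.2

theorem two_ne_E : (2 : E) ≠ 0 := fun h => S.two_ne_F ((map_eq_zero S.emb).1 (by rw [map_ofNat]; exact h))

/-- Half the alternating form of the basis. -/
noncomputable def del : GaloisField p (2 * n) := (cj S.om - S.om) / 2

theorem two_del : 2 * S.del = cj S.om - S.om := by
  rw [del, mul_div_cancel₀ _ S.two_ne_E]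

theorem del_ne : S.del ≠ 0 := div_ne_zero (sub_ne_zero.2 S.om_ne) S.two_ne_E

theorem cj_del : cj S.del = -S.del := by
  rw [del, map_div₀, map_sub, cj_cj S.n_ne, map_ofNat]; ring

/-- Admissible pairs. -/
def Adm (T R : GaloisField p (2 * n)) : Prop := T * cj R - cj T * R = 2 * S.del

/-- The top row. -/
noncomputable def top (g : Matrix.SpecialLinearGroup (Fin 2) (GaloisField p n)) : GaloisField p (2 * n) :=
  S.emb (g.1 0 0) + S.emb (g.1 0 1) * S.om

/-- The bottom row. -/
noncomputable def bot (g : Matrix.SpecialLinearGroup (Fin 2) (GaloisField p n)) : GaloisField p (2 * n) :=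
  S.emb (g.1 1 0) + S.emb (g.1 1 1) * S.om

theorem coord_inj {x y x' y' : F} (h : S.emb x + S.emb y * S.om = S.emb x' + S.emb y' * S.om) :
    x = x' ∧ y = y' := by
  have hc := congrArg cj h
  simp only [map_add, map_mul, S.cj_emb'] at hc
  have hy : (S.emb y - S.emb y') * (cj S.om - S.om) = 0 := by linear_combination hc - h
  have hy' := S.emb.injective (sub_eq_zero.1 ((mul_eq_zero.1 hy).resolve_right (sub_ne_zero.2 S.om_ne)))
  subst hy'
  exact ⟨S.emb.injective (by linear_combination h), rfl⟩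

theorem exists_coord (z : E) : ∃ x y : F, S.emb x + S.emb y * S.om = z := by
  classical
  let f : F × F → E := fun w => S.emb w.1 + S.emb w.2 * S.om
  have hf : Function.Injective f := fun w w' h => Prod.ext (S.coord_inj h).1 (S.coord_inj h).2
  have hc : Nat.card (F × F) = Nat.card E := by
    rw [Nat.card_prod, S.card_F, GaloisField.card p _ (by have := S.n_pos; omega), ← pow_add, two_mul]
  obtain ⟨w, hw⟩ := ((Nat.bijective_iff_injective_and_card f).2 ⟨hf, hc⟩).2 z
  exact ⟨w.1, w.2, hw⟩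

theorem adm_rows (g : SL₂) : S.Adm (S.top g) (S.bot g) := by
  have hd := congrArg S.emb (det_rel g)
  rw [map_sub, map_mul, map_mul, map_one] at hd
  rw [Adm, S.two_del, top, bot]
  simp only [map_add, map_mul, S.cj_emb']
  linear_combination (cj S.om - S.om) * hd

theorem exists_rows {T R : E} (h : S.Adm T R) : ∃ g : SL₂, S.top g = T ∧ S.bot g = R := by
  obtain ⟨A, B, hT⟩ := S.exists_coord T
  obtain ⟨C, D, hR⟩ := S.exists_coord R
  refine ⟨⟨!![A, B; C, D], ?_⟩, hT, hR⟩
  rw [Matrix.det_fin_two_of]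
  refine S.emb.injective ?_
  rw [Adm, S.two_del, ← hT, ← hR] at h
  simp only [map_add, map_mul, S.cj_emb'] at h
  rw [map_sub, map_mul, map_mul, map_one]
  exact mul_right_cancel₀ (sub_ne_zero.2 S.om_ne) (by linear_combination h)

theorem rows_inj {g g' : SL₂} (h0 : S.top g = S.top g') (h1 : S.bot g = S.bot g') : g = g' := by
  obtain ⟨a, b⟩ := S.coord_inj h0
  obtain ⟨c, e⟩ := S.coord_inj h1
  ext i j
  fin_cases i <;> fin_cases j <;> assumption

open Classical in
/-- The point of a pair. -/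
noncomputable def pt (T R : GaloisField p (2 * n)) : Ω :=
  if h : S.Adm T R then S.L (S.exists_rows h).choose • S.P0 else S.a

theorem pt_rows (g : SL₂) : S.pt (S.top g) (S.bot g) = S.L g • S.P0 := by
  unfold pt
  rw [dif_pos (S.adm_rows g), S.rows_inj (S.exists_rows (S.adm_rows g)).choose_spec.1
    (S.exists_rows (S.adm_rows g)).choose_spec.2]

theorem pt_off {T R : E} (h : S.Adm T R) : S.t • S.pt T R ≠ S.pt T R := by
  obtain ⟨g, rfl, rfl⟩ := S.exists_rows h
  rw [S.pt_rows]; exact S.L_off g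

theorem pt_inj {T R T' R' : E} (h : S.Adm T R) (h' : S.Adm T' R') (e : S.pt T R = S.pt T' R') : T = T' ∧ R = R' := by
  obtain ⟨g, rfl, rfl⟩ := S.exists_rows h
  obtain ⟨g', rfl, rfl⟩ := S.exists_rows h'
  rw [S.pt_rows, S.pt_rows] at e
  rw [S.L_P0_inj e]
  exact ⟨rfl, rfl⟩

theorem exists_pt {x : Ω} (hx : S.t • x ≠ x) : ∃ T R, S.Adm T R ∧ S.pt T R = x := by
  obtain ⟨g, hg⟩ := (S.L_bijective S.P0_off hx).exists
  exact ⟨_, _, S.adm_rows g, (S.pt_rows g).trans hg⟩

theorem tr_pt (s : F) {T R : E} (h : S.Adm T R) : S.tr s • S.pt T R = S.pt (T + S.emb s * R) R := by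
  obtain ⟨g, rfl, rfl⟩ := S.exists_rows h
  rw [S.pt_rows, ← S.L_mU, ← mul_smul, ← map_mul, ← S.pt_rows]
  congr 1 <;> simp only [top, bot, val_mul, mU_val] <;>
    simp [Matrix.mul_apply, Fin.sum_univ_two] <;> ring

theorem nw_pt {T R : E} (h : S.Adm T R) : S.nw • S.pt T R = S.pt R (-T) := by
  obtain ⟨g, rfl, rfl⟩ := S.exists_rows h
  rw [S.pt_rows, ← S.L_mN, ← mul_smul, ← map_mul, ← S.pt_rows]
  congr 1 <;> simp only [top, bot, val_mul, mN_val] <;>
    simp [Matrix.mul_apply, Fin.sum_univ_two] <;> ring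

theorem adm_tr (s : F) {T R : E} (h : S.Adm T R) : S.Adm (T + S.emb s * R) R := by
  rw [Adm] at h ⊢
  rw [map_add, map_mul, S.cj_emb']
  linear_combination h

theorem adm_nw {T R : E} (h : S.Adm T R) : S.Adm R (-T) := by
  rw [Adm] at h ⊢
  rw [map_neg]
  linear_combination h

theorem adm_base {R : E} (hR : R ≠ 0) : S.Adm (S.del / cj R) R := by
  rw [Adm, map_div₀, cj_cj S.n_ne, S.cj_del, div_mul_cancel₀ _ (cj_ne hR), div_mul_cancel₀ _ hR]
  ring

theorem adm_ne {T R : E} (h : S.Adm T R) : T ≠ 0 ∧ R ≠ 0 := by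
  constructor <;> rintro rfl <;>
    · rw [Adm, map_zero] at h
      exact mul_ne_zero S.two_ne_E S.del_ne (by linear_combination -h)

theorem g0_pt {T R : E} (h : S.Adm T R) :
    S.g0 • S.pt T R = S.pt (S.emb (S.eps S.g0) * (S.th * T)) (S.th * R) := by
  obtain ⟨g, rfl, rfl⟩ := S.exists_rows h
  obtain ⟨g', e, e00, e01, e10, e11⟩ := S.g0_L g
  have he : S.emb (S.eps S.g0) ≠ 0 := (map_ne_zero S.emb).2 (S.eps_ne S.g0_mem)
  have h1 := S.th_eq1
  have h2 := S.th_eq2
  rw [map_div₀, map_div₀] at h1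
  field_simp at h1
  rw [S.pt_rows, e, ← S.pt_rows]
  congr 1 <;> simp only [top, bot, e00, e01, e10, e11, map_add, map_mul, map_div₀]
  · linear_combination S.emb (g.1 0 0) * h1 + S.emb (S.eps S.g0) * S.emb (g.1 0 1) * h2
  · field_simp
    linear_combination S.emb (g.1 1 0) * h1 + S.emb (S.eps S.g0) * S.emb (g.1 1 1) * h2

/-- Elements of `H` act by scalars. -/
theorem exists_nu {h : G} (hh : h ∈ S.H) :
    ∃ ν : E, ν ≠ 0 ∧ ∀ T R, S.Adm T R → S.Adm (T / cj ν) (ν * R) ∧ h • S.pt T R = S.pt (T / cj ν) (ν * R) := by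
  obtain ⟨g', e, e00, e01, e10, e11⟩ := S.g0_L 1
  have hne : S.th ≠ 0 := fun hz => by
    have := S.th_eq1
    have h2 := S.th_eq2
    rw [hz, zero_mul] at h2
    rw [hz] at this
    obtain ⟨c0, e0⟩ := S.coord_inj (x := S.kap.1 1 0) (y := S.kap.1 1 1) (x' := 0) (y' := 0) (by simpa using h2)
    have := det_rel S.kap
    rw [c0, e0] at this
    simp at this
  have hN : S.emb (S.eps S.g0) * S.th * cj S.th = 1 := by
    have h0 := S.adm_base one_ne_zero
    have h1 : S.Adm (S.emb (S.eps S.g0) * (S.th * (S.del / cj 1))) (S.th * 1) := by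
      obtain ⟨g, hg0, hg1⟩ := S.exists_rows h0
      obtain ⟨g', e, -⟩ := S.g0_L g
      have e' := S.g0_pt h0
      rw [← hg0, ← hg1, S.pt_rows, e, ← S.pt_rows] at e'
      by_contra hna
      rw [hg0, hg1] at e'
      have h3 := S.pt_off (S.adm_rows g')
      rw [e', pt, dif_neg hna] at h3
      exact h3 S.t_a
    rw [Adm, map_one, div_one, mul_one, map_mul, map_mul, S.cj_emb', S.cj_del] at h1
    exact mul_right_cancel₀ (mul_ne_zero S.two_ne_E S.del_ne) (by linear_combination h1)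
  obtain ⟨k, rfl⟩ := S.exists_pow_g0 hh
  clear hh
  induction k with
  | zero => exact ⟨1, one_ne_zero, fun T R h => by simp [h]⟩
  | succ k ih =>
    obtain ⟨ν, hν, hν'⟩ := ih
    refine ⟨S.th * ν, mul_ne_zero hne hν, fun T R h => ?_⟩
    obtain ⟨hA, he⟩ := hν' T R h
    have hT : S.emb (S.eps S.g0) * (S.th * (T / cj ν)) = T / cj (S.th * ν) := by
      rw [map_mul]
      have := cj_ne hne
      have := cj_ne hν
      field_simp
      linear_combination T * hN
    have hR : S.th * (ν * R) = S.th * ν * R := (mul_assoc _ _ _).symm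
    refine ⟨?_, by rw [pow_succ', mul_smul, he, S.g0_pt hA, hT, hR]⟩
    rw [Adm] at hA ⊢
    rw [← hT, ← hR]
    simp only [map_mul, S.cj_emb'] at hA ⊢
    linear_combination S.emb (S.eps S.g0) * S.th * cj S.th * hA + (2 * S.del) * hN

open Classical in
/-- The scalar of an element of `H`. -/
noncomputable def nu (h : G) : GaloisField p (2 * n) := if hh : h ∈ S.H then (S.exists_nu hh).choose else 1

theorem nu_ne {h : G} (hh : h ∈ S.H) : S.nu h ≠ 0 := by
  rw [nu, dif_pos hh]; exact (S.exists_nu hh).choose_spec.1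

theorem H_pt {h : G} (hh : h ∈ S.H) {T R : E} (hA : S.Adm T R) :
    S.Adm (T / cj (S.nu h)) (S.nu h * R) ∧ h • S.pt T R = S.pt (T / cj (S.nu h)) (S.nu h * R) := by
  rw [nu, dif_pos hh]; exact (S.exists_nu hh).choose_spec.2 T R hA

theorem nu_mul {h k : G} (hh : h ∈ S.H) (hk : k ∈ S.H) : S.nu (h * k) = S.nu h * S.nu k := by
  have hA := S.adm_base one_ne_zero
  obtain ⟨h1, e1⟩ := S.H_pt hk hA
  obtain ⟨h2, e2⟩ := S.H_pt hh h1
  obtain ⟨h3, e3⟩ := S.H_pt (mul_mem hh hk) hA
  rw [mul_smul, e1, e2] at e3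
  have := (S.pt_inj h2 h3 e3).2
  rw [mul_one, mul_one] at this
  exact this.symm

theorem nu_inj {h k : G} (hh : h ∈ S.H) (hk : k ∈ S.H) (e : S.nu h = S.nu k) : h = k := by
  have hA := S.adm_base one_ne_zero
  by_contra hne
  refine S.pt_off hA (S.fix_H (mul_mem (inv_mem hk) hh) (fun h' => hne (inv_mul_eq_one.1 h').symm) ?_)
  rw [mul_smul, inv_smul_eq_iff, (S.H_pt hh hA).2, (S.H_pt hk hA).2, e]

theorem nu_one : S.nu 1 = 1 := by
  have h := S.nu_mul (one_mem S.H) (one_mem S.H)
  rw [one_mul] at h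
  exact (left_eq_mul₀ (S.nu_ne (one_mem S.H))).1 h

theorem nu_t : S.nu S.t = -1 := by
  have h := S.nu_mul S.t_mem S.t_mem
  rw [S.t_sq, S.nu_one] at h
  exact (mul_self_eq_one_iff.1 h.symm).resolve_left fun e =>
    S.t_ne (S.nu_inj S.t_mem (one_mem _) (e.trans S.nu_one.symm))

theorem chi_t : S.chi S.t = -1 := by
  have h := S.chi_mul S.t_mem S.t_mem
  rw [S.t_sq, S.chi_one] at h
  exact (mul_self_eq_one_iff.1 h.symm).resolve_left fun e => S.t_ne (S.chi_eq_one S.t_mem e)

theorem nu_pow {h : G} (hh : h ∈ S.H) (k : ℕ) : S.nu (h ^ k) = S.nu h ^ k := by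
  induction k with
  | zero => rw [pow_zero, pow_zero, S.nu_one]
  | succ k ih => rw [pow_succ, pow_succ, S.nu_mul (pow_mem hh k) hh, ih]

theorem card_H_eq : Nat.card S.H = (p ^ (2 * n) - 1) / d := by
  have hd : 0 < d := by rcases S.d_eq_one_or_three with h | h <;> omega
  rw [← S.card_H, Nat.mul_div_cancel_left _ hd]

theorem nu_mem {h : G} (hh : h ∈ S.H) : S.nu h ^ Nat.card S.H = 1 := by
  rw [← S.nu_pow hh, ← S.nu_one]
  congr 1
  exact congrArg Subtype.val (pow_card_eq_one' (x := (⟨h, hh⟩ : S.H)))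

theorem exists_nu_eq {z : E} (hz : z ^ Nat.card S.H = 1) : ∃ h ∈ S.H, S.nu h = z := by
  classical
  letI := Fintype.ofFinite S.H
  have hsub : (Finset.univ.image fun h : S.H => S.nu (h : G)) ⊆
      (Polynomial.nthRoots (Nat.card S.H) (1 : E)).toFinset := fun y hy => by
    obtain ⟨h, -, rfl⟩ := Finset.mem_image.1 hy
    rw [Multiset.mem_toFinset, Polynomial.mem_nthRoots Nat.card_pos]
    exact S.nu_mem h.2
  have he := Finset.eq_of_subset_of_card_le hsub (by
    rw [Finset.card_image_of_injective _ (fun h k e => Subtype.ext (S.nu_inj h.2 k.2 e)), Finset.card_univ,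
      ← Nat.card_eq_fintype_card]
    exact (Multiset.toFinset_card_le _).trans (Polynomial.card_nthRoots _ _))
  have : z ∈ (Polynomial.nthRoots (Nat.card S.H) (1 : E)).toFinset := by
    rw [Multiset.mem_toFinset, Polynomial.mem_nthRoots Nat.card_pos]; exact hz
  obtain ⟨h, -, rfl⟩ := Finset.mem_image.1 (he.ge this)
  exact ⟨h, h.2, rfl⟩

theorem eps_nu {h : G} (hh : h ∈ S.H) : S.emb (S.eps h) * (S.nu h * cj (S.nu h)) = 1 := by
  have hν := S.nu_ne hh
  have hν' := cj_ne hν
  have h0 := S.adm_base one_ne_zero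
  obtain ⟨h1, e1⟩ := S.H_pt hh h0
  obtain ⟨h2, e2⟩ := S.H_pt hh (S.adm_tr 1 h0)
  have e := congrArg (fun g : G => g • S.pt (S.del / cj 1 / cj (S.nu h)) (S.nu h * 1)) (S.conj_tr hh 1)
  simp only [mul_smul] at e
  rw [inv_smul_eq_iff.2 e1.symm, S.tr_pt 1 h0, e2, S.tr_pt _ h1] at e
  have e' := (S.pt_inj h2 (S.adm_tr _ h1) e).1
  simp only [map_one, div_one, mul_one, one_mul] at e'
  field_simp at e'
  linear_combination -e'

end Setting

end CfsgLib.U3Odd
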