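/-
The orbit of the block translations on a point, its origin, and the real invariant of the origin.
-/
import Cfsg.Agent.U3Odd.Point

set_option autoImplicit false
set_option linter.style.haveILetI false
set_option linter.unusedSectionVars false

namespace CfsgLib.U3Odd

open MulAction

variable {G Ω : Type*} [Group G] [MulAction G Ω] [Finite G] [Finite Ω] [FaithfulSMul G Ω] [IsSimpleGroup G]
  {p n d : ℕ} [Fact p.Prime]

namespace Setting

variable (S : Setting G Ω p n d)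
include S

local notation "F" => GaloisField p n
local notation "E" => GaloisField p (2 * n)

/-- The block translations are central in `U`. -/
theorem U0_central {u z : G} (hu : u ∈ S.U) (hz : z ∈ S.U0) : u * z = z * u := by
  let C : Subgroup G := S.U ⊓ Subgroup.centralizer (S.U0 : Set G)
  suffices hC : C = S.U by exact (Subgroup.mem_centralizer_iff.1 (hC.ge hu).2 z hz).symm
  have h0 : S.U0 ≤ C := fun x hx => ⟨S.U0_le hx, Subgroup.mem_centralizer_iff.2 fun y hy => S.U0_comm hy hx⟩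
  refine (S.invariant_eq h0 inf_le_left fun h hh x hx => ⟨S.conj_U hh hx.1, ?_⟩).resolve_left fun e => ?_
  · refine Subgroup.mem_centralizer_iff.2 fun y hy => ?_
    have hy' : h⁻¹ * y * h ∈ S.U0 := by simpa using S.conj_U0 (inv_mem hh) hy
    calc y * (h * x * h⁻¹) = h * ((h⁻¹ * y * h) * x) * h⁻¹ := by group
      _ = h * (x * (h⁻¹ * y * h)) * h⁻¹ := by rw [Subgroup.mem_centralizer_iff.1 hx.2 _ hy']
      _ = _ := by group
  obtain ⟨u, hu, hu1⟩ := S.beta_surj 1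
  have hv : S.t * u * S.t⁻¹ ∈ S.U := S.conj_U S.t_mem hu
  have hm : u⁻¹ * (S.t * u * S.t⁻¹) ∈ C := by
    refine Subgroup.mem_inf.2 ⟨mul_mem (inv_mem hu) hv, Subgroup.mem_centralizer_iff.2 fun y hy => ?_⟩
    have hyt : ∀ z ∈ S.U0, S.t * z * S.t⁻¹ = z := fun z hz => by rw [← (S.mem_U0.1 hz).2, mul_inv_cancel_right]
    have hy' := S.U0_normal hu hy
    calc y * (u⁻¹ * (S.t * u * S.t⁻¹)) = u⁻¹ * (u * y * u⁻¹) * (S.t * u * S.t⁻¹) := by group
      _ = u⁻¹ * (S.t * (u * y * u⁻¹) * S.t⁻¹) * (S.t * u * S.t⁻¹) := by rw [hyt _ hy']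
      _ = u⁻¹ * (S.t * u * S.t⁻¹) * (S.t * y * S.t⁻¹) := by group
      _ = _ := by rw [hyt y hy]
  have h := (S.beta_eq_zero hm.1).2 (e.le hm)
  rw [S.beta_mul (inv_mem hu) hv, S.beta_inv hu, S.beta_conj S.t_mem hu, S.chi_t, hu1] at h
  exact S.two_ne_E (by linear_combination -h)

/-- The element of `U` of a pair. -/
noncomputable def uu (T R : GaloisField p (2 * n)) : G := S.toU (S.pt T R)

theorem uu_mem (T R : E) : S.uu T R ∈ S.U := S.toU_mem _

theorem uu_b {T R : E} (h : S.Adm T R) : S.uu T R • S.b = S.pt T R :=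
  S.toU_b fun e => S.pt_off h (by rw [e, S.t_a])

theorem uu_eq {u : G} (hu : u ∈ S.U) {T R : E} (h : S.Adm T R) (e : u • S.b = S.pt T R) : S.uu T R = u :=
  S.U_eq (S.uu_mem T R) hu ((S.uu_b h).trans e.symm)

theorem uu_beta_ne {T R : E} (h : S.Adm T R) : S.beta (S.uu T R) ≠ 0 := S.toU_beta_ne (S.pt_off h)

theorem exists_uu {u : G} (hu : u ∈ S.U) (hu0 : S.beta u ≠ 0) : ∃ T R, S.Adm T R ∧ S.uu T R = u := by
  obtain ⟨T, R, h, e⟩ := S.exists_pt (x := u • S.b) fun e => hu0 ((S.beta_eq_zero hu).2 ((S.U_fix_b_iff hu).1 e))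
  exact ⟨T, R, h, S.uu_eq hu h e.symm⟩

theorem tr_uu (s : F) {T R : E} (h : S.Adm T R) : S.uu (T + S.emb s * R) R = S.tr s * S.uu T R :=
  S.uu_eq (mul_mem (S.tr_U s) (S.uu_mem T R)) (S.adm_tr s h) (by rw [mul_smul, S.uu_b h, S.tr_pt s h])

theorem H_uu {h : G} (hh : h ∈ S.H) {T R : E} (hA : S.Adm T R) :
    S.uu (T / cj (S.nu h)) (S.nu h * R) = h * S.uu T R * h⁻¹ :=
  S.uu_eq (S.conj_U hh (S.uu_mem T R)) (S.H_pt hh hA).1 (by
    rw [mul_smul, mul_smul, inv_smul_eq_iff.2 (S.H_fix_b hh).symm, S.uu_b hA, (S.H_pt hh hA).2])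

theorem t_uu {T R : E} (hA : S.Adm T R) : S.Adm (-T) (-R) ∧ S.uu (-T) (-R) = S.t * S.uu T R * S.t := by
  have h1 := S.H_uu S.t_mem hA
  have h2 := (S.H_pt S.t_mem hA).1
  rw [S.nu_t, map_neg, map_one, div_neg, div_one, neg_one_mul] at h1 h2
  exact ⟨h2, by rw [h1, S.t_inv]⟩

theorem exists_shift {T T' R : E} (h : S.Adm T R) (h' : S.Adm T' R) : ∃ s, T' = T + S.emb s * R := by
  have hR := (S.adm_ne h).2
  have hR' := cj_ne hR
  obtain ⟨s, hs⟩ := exists_of_cj S.n_ne S.emb (x := (T' - T) / R) (by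
    rw [map_div₀, map_sub]
    field_simp
    rw [Adm] at h h'
    linear_combination h - h')
  exact ⟨s, by rw [hs, div_mul_cancel₀ _ hR]; ring⟩

/-- The coordinate of the orbit of a bottom row. -/
noncomputable def phi (R : GaloisField p (2 * n)) : GaloisField p (2 * n) :=
  S.beta (S.uu (S.del / cj R) R)

theorem beta_uu {T R : E} (h : S.Adm T R) : S.beta (S.uu T R) = S.phi R := by
  have hb := S.adm_base (S.adm_ne h).2
  obtain ⟨s, rfl⟩ := S.exists_shift hb h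
  rw [S.tr_uu s hb, S.beta_mul (S.tr_U s) (S.uu_mem _ _), (S.beta_eq_zero (S.tr_U s)).2 (S.tr_mem s), zero_add, phi]

theorem phi_ne {R : E} (hR : R ≠ 0) : S.phi R ≠ 0 := S.uu_beta_ne (S.adm_base hR)

theorem phi_nu {h : G} (hh : h ∈ S.H) {R : E} (hR : R ≠ 0) : S.phi (S.nu h * R) = S.chi h * S.phi R := by
  have hb := S.adm_base hR
  rw [← S.beta_uu (S.H_pt hh hb).1, S.H_uu hh hb, S.beta_conj hh (S.uu_mem _ _), S.beta_uu hb]

theorem phi_neg {R : E} (hR : R ≠ 0) : S.phi (-R) = -S.phi R := by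
  have := S.phi_nu S.t_mem hR
  rwa [S.nu_t, S.chi_t, neg_one_mul, neg_one_mul] at this

theorem exists_origin {R : E} (hR : R ≠ 0) :
    ∃ T, S.Adm T R ∧ S.t * S.uu T R * S.t = (S.uu T R)⁻¹ := by
  have hb := S.adm_base hR
  set u := S.uu (S.del / cj R) R with hu
  have hum : u ∈ S.U := S.uu_mem _ _
  have htu : S.t * u * S.t ∈ S.U := by
    have := S.conj_U S.t_mem hum
    rwa [S.t_inv] at this
  have hc : u * (S.t * u * S.t) ∈ S.U0 := by
    refine (S.beta_eq_zero (mul_mem hum htu)).1 ?_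
    rw [S.beta_mul hum htu, show S.t * u * S.t = S.t * u * S.t⁻¹ by rw [S.t_inv], S.beta_conj S.t_mem hum, S.chi_t]
    ring
  obtain ⟨c, hc'⟩ := S.exists_tr hc
  refine ⟨S.del / cj R + S.emb (-(c / 2)) * R, S.adm_tr _ hb, ?_⟩
  rw [S.tr_uu _ hb, ← hu]
  refine eq_inv_of_mul_eq_one_right ?_
  set z := S.tr (-(c / 2)) with hz
  have hzc : z * z * S.tr c = 1 := by
    rw [hz, ← S.tr_add, ← S.tr_add]
    have h2 := S.two_ne_F
    rw [show -(c / 2) + -(c / 2) + c = 0 by field_simp; ring, S.tr_zero]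
  have hzt : S.t * z = z * S.t := (S.tr_comm_t _).symm
  calc z * u * (S.t * (z * u) * S.t) = z * u * ((S.t * z) * u * S.t) := by group
    _ = z * (u * z) * (S.t * u * S.t) := by rw [hzt]; group
    _ = z * (z * u) * (S.t * u * S.t) := by rw [S.U0_central hum (S.tr_mem _)]
    _ = z * z * S.tr c := by rw [hc']; group
    _ = 1 := hzc

open Classical in
/-- The top row of the point of the element inverted by `t`. -/
noncomputable def org (R : GaloisField p (2 * n)) : GaloisField p (2 * n) :=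
  if h : R = 0 then 0 else (S.exists_origin h).choose

theorem org_spec {R : E} (hR : R ≠ 0) :
    S.Adm (S.org R) R ∧ S.t * S.uu (S.org R) R * S.t = (S.uu (S.org R) R)⁻¹ := by
  rw [org, dif_neg hR]; exact (S.exists_origin hR).choose_spec

theorem org_unique {T R : E} (h : S.Adm T R) (ht : S.t * S.uu T R * S.t = (S.uu T R)⁻¹) : T = S.org R := by
  obtain ⟨hA, ht'⟩ := S.org_spec (S.adm_ne h).2
  obtain ⟨s, rfl⟩ := S.exists_shift hA h
  set o := S.uu (S.org R) R with ho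
  rw [S.tr_uu s hA, mul_inv_rev, ← ho] at ht
  have e : S.tr (s + s) * o⁻¹ = o⁻¹ := by
    calc S.tr (s + s) * o⁻¹ = S.tr s * (S.tr s * S.t) * o * S.t := by rw [S.tr_add, ← ht']; group
      _ = S.tr s * (S.t * (S.tr s * o) * S.t) := by rw [S.tr_comm_t]; group
      _ = S.tr s * (o⁻¹ * (S.tr s)⁻¹) := by rw [ht]
      _ = o⁻¹ := by
        rw [S.U0_central (inv_mem (S.uu_mem _ _)) (inv_mem (S.tr_mem s)), mul_inv_cancel_left]
  have := S.tr_inj ((mul_eq_right.1 e).trans S.tr_zero.symm)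
  rw [← two_mul] at this
  rw [(mul_eq_zero.1 this).resolve_left S.two_ne_F, map_zero, zero_mul, add_zero]

theorem org_nu {h : G} (hh : h ∈ S.H) {R : E} (hR : R ≠ 0) : S.org (S.nu h * R) = S.org R / cj (S.nu h) := by
  obtain ⟨hA, ht⟩ := S.org_spec hR
  refine (S.org_unique (S.H_pt hh hA).1 ?_).symm
  rw [S.H_uu hh hA]
  calc S.t * (h * S.uu (S.org R) R * h⁻¹) * S.t
      = (S.t * h) * S.uu (S.org R) R * (S.t * h)⁻¹ * (S.t * S.t) := by group
    _ = h * S.t * S.uu (S.org R) R * (h * S.t)⁻¹ := by rw [S.t_sq, mul_one, S.H_comm_t hh]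
    _ = h * (S.t * S.uu (S.org R) R * S.t) * h⁻¹ := by rw [mul_inv_rev, S.t_inv]; group
    _ = _ := by rw [ht]; group

/-- The invariant of the origin. -/
noncomputable def kp (R : GaloisField p (2 * n)) : GaloisField p (2 * n) := S.org R * cj R - S.del

theorem org_eq {R : E} (hR : R ≠ 0) : S.org R = (S.del + S.kp R) / cj R := by
  rw [kp, add_sub_cancel, mul_div_cancel_right₀ _ (cj_ne hR)]

theorem kp_nu {h : G} (hh : h ∈ S.H) {R : E} (hR : R ≠ 0) : S.kp (S.nu h * R) = S.kp R := by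
  rw [kp, kp, S.org_nu hh hR, map_mul, ← mul_assoc, div_mul_cancel₀ _ (cj_ne (S.nu_ne hh))]

theorem kp_neg {R : E} (hR : R ≠ 0) : S.kp (-R) = S.kp R := by
  rw [← neg_one_mul, ← S.nu_t, S.kp_nu S.t_mem hR]

/-- The pair of the inverse. -/
theorem inv_uu {T R : E} (h : S.Adm T R) :
    S.Adm (T - 2 * S.org R) (-R) ∧ S.uu (T - 2 * S.org R) (-R) = (S.uu T R)⁻¹ := by
  obtain ⟨hA, ht⟩ := S.org_spec (S.adm_ne h).2
  obtain ⟨s, rfl⟩ := S.exists_shift hA h
  obtain ⟨hA', e⟩ := S.t_uu hA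
  have hT : S.org R + S.emb s * R - 2 * S.org R = -S.org R + S.emb (-s) * -R := by rw [map_neg]; ring
  rw [hT]
  refine ⟨S.adm_tr _ hA', ?_⟩
  rw [S.tr_uu _ hA', e, ht, S.tr_uu _ hA, S.tr_neg, mul_inv_rev,
    S.U0_central (inv_mem (S.uu_mem _ _)) (inv_mem (S.tr_mem s))]

end Setting

end CfsgLib.U3Odd
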