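/-
Associativity: the invariants of the origins vanish.
-/
import Cfsg.Agent.U3Odd.Origin

set_option autoImplicit false
set_option linter.style.haveILetI false
set_option linter.unusedSectionVars false

namespace CfsgLib.U3Odd

open MulAction

variable {G Ω : Type*} [Group G] [MulAction G Ω] [Finite G] [Finite Ω] [FaithfulSMul G Ω] [IsSimpleGroup G]
  {p n d : ℕ} [Fact p.Prime]

namespace Setting

variable (S : Setting G Ω p n d)
include S

local notation "F" => GaloisField p n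
local notation "E" => GaloisField p (2 * n)

theorem nw_sq_t : S.nw * S.nw = S.t := S.nw_sq.trans S.hh_neg_one_eq

theorem nw_inv : S.nw⁻¹ = S.t * S.nw :=
  inv_eq_of_mul_eq_one_right (by rw [← mul_assoc, S.nw_t, mul_assoc, S.nw_sq_t, S.t_sq])

/-- The element of `U` after the Weyl element in the decomposition. -/
noncomputable def gT (T R : GaloisField p (2 * n)) : GaloisField p (2 * n) := R - 2 * S.org (T - 2 * S.org R)

theorem adm_g {T R : E} (h : S.Adm T R) : S.Adm (S.gT T R) (-(T - 2 * S.org R)) := by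
  obtain ⟨h1, -⟩ := S.inv_uu h
  have h2 := (S.t_uu (S.adm_nw h1)).1
  rw [neg_neg, neg_neg] at h2
  exact (S.inv_uu h2).1

/-- The Weyl element's relation. -/
theorem nw_uu {T R : E} (h : S.Adm T R) : ∃ η ∈ S.H,
    S.nw * S.uu T R * S.nw = S.uu R (-T) * S.nw * η * S.uu (S.gT T R) (-(T - 2 * S.org R)) := by
  obtain ⟨h1, e1⟩ := S.inv_uu h
  have hσ := S.adm_nw h
  have hσ1 := S.adm_nw h1
  have hub : S.uu R (-T) • S.b = S.nw • S.uu T R • S.b := by rw [S.uu_b hσ, S.uu_b h, S.nw_pt h]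
  set f := S.nw⁻¹ * ((S.uu R (-T))⁻¹ * (S.nw * S.uu T R * S.nw)) with hf
  have hfa : f • S.a = S.a := by
    rw [hf, mul_smul, mul_smul, mul_smul, mul_smul, S.nw_action.1, ← hub, inv_smul_smul,
      inv_smul_eq_iff, S.nw_action.1]
  obtain ⟨v, hv, η, hη, hfe⟩ := S.exists_mul hfa
  set g := η⁻¹ * v * η with hg
  have hgm : g ∈ S.U := by simpa [hg] using S.conj_U (inv_mem hη) hv
  have hfg : f = η * g := by rw [hfe, hg]; group
  refine ⟨η, hη, ?_⟩
  have hgb : g⁻¹ • S.b = f⁻¹ • S.b := by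
    rw [hfg, mul_inv_rev η g, mul_smul g⁻¹ η⁻¹, S.H_fix_b (inv_mem hη)]
  obtain ⟨h2, e2⟩ := S.t_uu hσ1
  rw [neg_neg, neg_neg] at h2 e2
  have hfb : f⁻¹ • S.b = S.uu R (T - 2 * S.org R) • S.b := by
    rw [hf, S.uu_b h2, mul_inv_rev, mul_inv_rev, inv_inv, inv_inv, mul_inv_rev, mul_inv_rev]
    simp only [mul_smul]
    rw [S.nw_action.2.1, S.U_fix _ (S.uu_mem _ _), inv_smul_eq_iff.2 S.nw_action.2.1.symm]
    rw [← e1, S.uu_b h1, S.nw_inv, mul_smul, S.nw_pt h1, (S.H_pt S.t_mem (S.adm_nw h1)).2, S.nu_t]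
    simp
  have hginv : g⁻¹ = S.uu R (T - 2 * S.org R) :=
    S.U_eq (inv_mem hgm) (S.uu_mem _ _) (hgb.trans hfb)
  have hgg : g = S.uu (S.gT T R) (-(T - 2 * S.org R)) := by
    rw [gT, (S.inv_uu h2).2, ← hginv, inv_inv]
  rw [← hgg]
  calc S.nw * S.uu T R * S.nw = S.uu R (-T) * S.nw * f := by rw [hf]; group
    _ = _ := by rw [hfg]; group

/-- The three origins' invariants sum to zero. -/
theorem kp_sum {T R : E} (h : S.Adm T R) : S.kp R + S.kp (T - 2 * S.org R) + S.kp T = 0 := by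
  obtain ⟨η, hη, e⟩ := S.nw_uu h
  obtain ⟨h3, e3⟩ := S.inv_uu (S.adm_nw h)
  rw [neg_neg] at h3 e3
  have hg := S.adm_g h
  set Tm := T - 2 * S.org R with hTm
  have hh : S.nw * η⁻¹ * S.nw⁻¹ ∈ S.H := S.nw_conj_mem (inv_mem hη)
  have e2 : S.nw • S.pt (S.gT T R) (-Tm) = (S.nw * η⁻¹ * S.nw⁻¹) • S.pt (R - 2 * S.org (-T)) T := by
    rw [← S.uu_b hg, ← S.uu_b h3, e3, ← mul_smul, ← mul_smul,
      show S.uu (S.gT T R) (-Tm) = η⁻¹ * S.nw⁻¹ * (S.uu R (-T))⁻¹ * (S.nw * S.uu T R * S.nw) by rw [e]; group]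
    simp only [mul_smul]
    rw [S.nw_action.2.1, S.U_fix _ (S.uu_mem _ _), S.nw_action.1]
  obtain ⟨h4, e4⟩ := S.H_pt hh h3
  rw [S.nw_pt hg, e4] at e2
  obtain ⟨a1, a2⟩ := S.pt_inj (S.adm_nw hg) h4 e2
  have hT0 := (S.adm_ne h).1
  have hR0 := (S.adm_ne h).2
  have hTm0 : Tm ≠ 0 := (S.adm_ne (S.inv_uu h).1).1
  have hν := cj_ne (S.nu_ne hh)
  have key : -Tm * cj (-S.gT T R) = (R - 2 * S.org (-T)) * cj T := by
    rw [a1, a2, map_mul]
    field_simp
  have o1 : S.org R * cj R = S.del + S.kp R := by rw [kp]; ring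
  have o2 : S.org (-T) * cj T = -(S.del + S.kp T) := by
    have : S.org (-T) * cj (-T) = S.del + S.kp (-T) := by rw [kp]; ring
    rw [map_neg, S.kp_neg hT0] at this
    linear_combination -this
  have o3 : Tm * cj (S.org Tm) = -S.del + cj (S.kp Tm) := by
    rw [kp, map_sub, map_mul, cj_cj S.n_ne, S.cj_del]; ring
  have o4 : cj (S.kp Tm) = S.kp Tm := by
    have hA := (S.org_spec hTm0).1
    rw [Adm] at hA
    rw [kp, map_sub, map_mul, cj_cj S.n_ne, S.cj_del]
    linear_combination -hA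
  rw [Adm] at h
  rw [gT, map_neg, map_sub, map_mul, map_ofNat] at key
  have h6 : (2 : E) * (S.kp R + S.kp Tm + S.kp T) = 0 := by
    rw [hTm] at key o3 o4 ⊢
    linear_combination -key - 2 * o3 - 2 * o4 + h - 2 * o1 + 2 * o2
  exact (mul_eq_zero.1 h6).resolve_left S.two_ne_E

theorem org_ne {R : E} (hR : R ≠ 0) : S.org R ≠ 0 := (S.adm_ne (S.org_spec hR).1).1

theorem kp_org {R : E} (hR : R ≠ 0) : S.kp R + 2 * S.kp (S.org R) = 0 := by
  have := S.kp_sum (S.org_spec hR).1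
  rw [show S.org R - 2 * S.org R = -S.org R by ring, S.kp_neg (S.org_ne hR)] at this
  linear_combination this

/-- The characteristic three case: a triangle with a cyclic symmetry. -/
theorem exists_triangle (hp3 : p = 3) : ∃ T R, S.Adm T R ∧ S.kp R = 0 := by
  obtain ⟨hA, ht⟩ := S.org_spec (one_ne_zero (α := E))
  set x := S.uu (S.org 1) 1 with hx
  have hxU : x ∈ S.U := S.uu_mem _ _
  have hx1 : S.beta x ≠ 0 := S.uu_beta_ne hA
  have hxne : x ≠ 1 := fun e => hx1 (e ▸ S.beta_one)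
  have hx3 : x ^ 3 = 1 := by
    have hb : S.beta (x ^ 3) = 0 := by
      rw [pow_succ, pow_succ, pow_one, S.beta_mul (mul_mem hxU hxU) hxU, S.beta_mul hxU hxU]
      have h3 : (3 : E) = 0 := by
        exact_mod_cast (CharP.cast_eq_zero_iff E p 3).2 (by rw [hp3])
      linear_combination S.beta x * h3
    have h0 := (S.beta_eq_zero (pow_mem hxU 3)).1 hb
    have h1 : (x ^ 3)⁻¹ = x ^ 3 := by
      calc (x ^ 3)⁻¹ = (S.t * x * S.t⁻¹) ^ 3 := by rw [S.t_inv, ht, inv_pow]
        _ = S.t * x ^ 3 * S.t⁻¹ := conj_pow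
        _ = x ^ 3 := by rw [← (S.mem_U0.1 h0).2, mul_inv_cancel_right]
    have h2 : (x ^ 3) ^ 2 = 1 := by rw [pow_two]; nth_rewrite 1 [← h1]; exact inv_mul_cancel _
    have h3 : (x ^ 3) ^ p = 1 := S.U0_pow h0
    have := pow_gcd_eq_one.2 ⟨h2, h3⟩
    rwa [hp3, show Nat.gcd 2 3 = 1 by norm_num, pow_one] at this
  obtain ⟨g, hga, hgb⟩ := S.two S.a S.b S.b (x • S.b) S.ab fun e => hxne (S.U_free x hxU e.symm)
  have hoff : S.t • (g⁻¹ • x ^ 2 • S.b) ≠ g⁻¹ • x ^ 2 • S.b := by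
    intro hc
    set t' := g * S.t * g⁻¹ with ht'
    have hb' : t' • S.b = S.b := by
      rw [ht', mul_smul, mul_smul, inv_smul_eq_iff.2 hga.symm, S.H_fix_a S.t_mem, hga]
    have hxb : t' • x • S.b = x • S.b := by
      rw [ht', mul_smul, mul_smul, inv_smul_eq_iff.2 hgb.symm, S.H_fix_b S.t_mem, hgb]
    have hxxb : t' • x ^ 2 • S.b = x ^ 2 • S.b := by
      rw [ht', mul_smul, mul_smul, hc, smul_inv_smul]
    have hcomm : x * t' = t' * x := by
      have e := S.eq_t (u := g⁻¹ * (x * t' * x⁻¹) * g) (isConj_iff.2 ⟨g⁻¹ * x * g, by rw [ht']; group⟩) ?_ ?_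
      · calc x * t' = g * (g⁻¹ * (x * t' * x⁻¹) * g) * g⁻¹ * x := by group
          _ = t' * x := by rw [e, ht']
      · rw [mul_smul _ g, hga, mul_smul g⁻¹, mul_smul _ x⁻¹, mul_smul x t',
          show x⁻¹ • S.b = x ^ 2 • S.b by
            rw [inv_smul_eq_iff, ← mul_smul, ← pow_succ', hx3, one_smul], hxxb, ← mul_smul x, ← pow_succ', hx3,
          one_smul, ← hga, inv_smul_smul]
      · rw [mul_smul _ g, hgb, mul_smul g⁻¹, mul_smul _ x⁻¹, mul_smul x t', inv_smul_smul, hb', ← hgb,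
          inv_smul_smul]
    have ha : t' • S.a = S.a := S.U_only_a hxU hxne (by rw [← mul_smul, hcomm, mul_smul, S.U_fix x hxU])
    have htt : t' = S.t := S.eq_t (isConj_iff.2 ⟨g, rfl⟩) ha hb'
    rw [htt] at hxb
    exact hx1 ((S.beta_eq_zero hxU).2 ((S.U_fix_b_iff hxU).1 hxb))
  obtain ⟨T, R, h, hTR⟩ := S.exists_pt hoff
  refine ⟨T, R, h, ?_⟩
  set z := g⁻¹ * x * g with hz
  set u := S.uu T R with hu
  have hub : u • S.b = g⁻¹ • x ^ 2 • S.b := (S.uu_b h).trans hTR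
  have hzb : z • S.b = g⁻¹ • x ^ 2 • S.b := by rw [hz, mul_smul, mul_smul, hgb, pow_two, mul_smul]
  have hza : z • S.a = S.b := by rw [hz, mul_smul, mul_smul, hga, ← hgb, inv_smul_smul]
  have hzc : z • (u • S.b) = S.a := by
    rw [hub, hz, mul_smul, mul_smul, smul_inv_smul, ← mul_smul x, ← pow_succ', hx3, one_smul, ← hga,
      inv_smul_smul]
  have hh : (u * S.nw)⁻¹ * (z * z) ∈ S.H := (S.mem_H _).2
    ⟨by rw [mul_smul (u * S.nw)⁻¹ (z * z), inv_smul_eq_iff, mul_smul z z, mul_smul u S.nw, S.nw_action.1, hza,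
        hzb, hub],
     by rw [mul_smul (u * S.nw)⁻¹ (z * z), inv_smul_eq_iff, mul_smul z z, mul_smul u S.nw, hzb, ← hub, hzc,
       S.nw_action.2.1,
       S.U_fix u (S.uu_mem _ _)]⟩
  set η := (u * S.nw)⁻¹ * (z * z) with hη
  have hzzc : (z * z) • (u • S.b) = S.b := by rw [mul_smul z z, hzc, hza]
  rw [show z * z = u * S.nw * η by rw [hη]; group, mul_smul, mul_smul, S.uu_b h, (S.H_pt hh h).2,
    S.nw_pt (S.H_pt hh h).1, smul_eq_iff_eq_inv_smul] at hzzc
  obtain ⟨h1, e1⟩ := S.inv_uu h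
  rw [hu, ← e1, S.uu_b h1] at hzzc
  obtain ⟨a1, a2⟩ := S.pt_inj (S.adm_nw (S.H_pt hh h).1) h1 hzzc
  have hν := cj_ne (S.nu_ne hh)
  have hν' := S.nu_ne hh
  have key : (T - 2 * S.org R) * cj (-R) = S.nu η * R * cj (-(T / cj (S.nu η))) := by rw [a1, a2]
  rw [map_neg, map_neg, map_div₀, cj_cj S.n_ne] at key
  field_simp at key
  have o1 : S.org R * cj R = S.del + S.kp R := by rw [kp]; ring
  rw [Adm] at h
  exact (mul_eq_zero.1 (show (2 : E) * S.kp R = 0 by linear_combination key + h - 2 * o1)).resolve_left S.two_ne_E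

theorem kp_zero_three (hp3 : p = 3) {R : E} (hR : R ≠ 0) : S.kp R = 0 := by
  obtain ⟨T, R', h, e⟩ := S.exists_triangle hp3
  have hd : d = 1 := by
    rw [S.d_eq, hp3]
    refine (Nat.prime_three.coprime_iff_not_dvd.2 fun hd => ?_)
    have := Nat.dvd_sub hd (dvd_pow_self 3 S.n_ne)
    rw [Nat.add_sub_cancel_left] at this
    exact absurd (Nat.dvd_one.1 this) (by norm_num)
  have hR' := (S.adm_ne h).2
  obtain ⟨k, hk, ek⟩ := S.exists_nu_eq (z := R / R') (by
    letI := Fintype.ofFinite E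
    rw [S.card_H_eq, hd, Nat.div_one, ← GaloisField.card p (2 * n) (by have := S.n_pos; omega),
      Nat.card_eq_fintype_card]
    exact FiniteField.pow_card_sub_one_eq_one _ (div_ne_zero hR hR'))
  have := S.kp_nu hk hR'
  rwa [ek, div_mul_cancel₀ _ hR', e] at this

/-- All origins have vanishing invariant. -/
theorem kp_zero {R : E} (hR : R ≠ 0) : S.kp R = 0 := by
  classical
  by_cases hp3 : p = 3
  · exact S.kp_zero_three hp3 hR
  let ρ : ℕ → E := fun i => (S.org)^[i] R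
  have hρ : ∀ i, ρ i ≠ 0 := by
    intro i
    induction i with
    | zero => exact hR
    | succ i ih => show (S.org)^[i + 1] R ≠ 0; rw [Function.iterate_succ_apply']; exact S.org_ne ih
  have hκ : ∀ i, S.kp R = (-2) ^ i * S.kp (ρ i) := by
    intro i
    induction i with
    | zero => simp [ρ]
    | succ i ih =>
      rw [ih, show ρ (i + 1) = S.org (ρ i) from Function.iterate_succ_apply' _ _ _, pow_succ]
      linear_combination (-2) ^ i * S.kp_org (hρ i)
  letI := Fintype.ofFinite E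
  have hd : 0 < d := by rcases S.d_eq_one_or_three with h | h <;> omega
  have hmem : ∀ i : Fin 4, ρ i ^ Nat.card S.H ∈ (Polynomial.nthRoots d (1 : E)).toFinset := fun i => by
    have e := FiniteField.pow_card_sub_one_eq_one _ (hρ i)
    rw [← Nat.card_eq_fintype_card, GaloisField.card p (2 * n) (by have := S.n_pos; omega), ← S.card_H, mul_comm d,
      pow_mul] at e
    rw [Multiset.mem_toFinset, Polynomial.mem_nthRoots hd, e]
  obtain ⟨i, -, j, -, hij, he⟩ := Finset.exists_ne_map_eq_of_card_lt_of_maps_to (s := (Finset.univ : Finset (Fin 4)))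
    (t := (Polynomial.nthRoots d (1 : E)).toFinset) (by
      rw [Finset.card_univ, Fintype.card_fin]
      have := (Multiset.toFinset_card_le (Polynomial.nthRoots d (1 : E))).trans (Polynomial.card_nthRoots _ _)
      rcases S.d_eq_one_or_three with h | h <;> omega) (fun i _ => hmem i)
  have main : ∀ i j : Fin 4, (i : ℕ) < j → ρ i ^ Nat.card S.H = ρ j ^ Nat.card S.H → S.kp R = 0 := by
    intro i j hlt he
    obtain ⟨k, hk, ek⟩ := S.exists_nu_eq (z := ρ j / ρ i) (by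
      rw [div_pow, ← he, div_self (pow_ne_zero _ (hρ i))])
    have hκe := S.kp_nu hk (hρ i)
    rw [ek, div_mul_cancel₀ _ (hρ i)] at hκe
    by_contra hne
    have h1 := hκ i
    have h2 := hκ j
    rw [hκe, show (j : ℕ) = ((j : ℕ) - i) + i by omega, pow_add, mul_assoc, ← h1] at h2
    have h3 : ((-2 : E)) ^ ((j : ℕ) - i) = 1 := (mul_eq_right₀ hne).1 h2.symm
    have hj := j.isLt
    have h3' : (3 : E) ≠ 0 := fun h => hp3
      ((Nat.prime_dvd_prime_iff_eq S.prime Nat.prime_three).1 ((CharP.cast_eq_zero_iff E p 3).1 (by exact_mod_cast h)))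
    obtain h | h | h : (j : ℕ) - i = 1 ∨ (j : ℕ) - i = 2 ∨ (j : ℕ) - i = 3 := by omega
    all_goals rw [h] at h3
    · exact h3' (by linear_combination -h3)
    · exact h3' (by linear_combination h3)
    · exact mul_ne_zero h3' h3' (by linear_combination -h3)
  rcases lt_or_gt_of_ne (fun e => hij (Fin.ext e) : (i : ℕ) ≠ j) with h | h
  · exact main i j h he
  · exact main j i h he.symm

theorem org_del {R : E} (hR : R ≠ 0) : S.org R = S.del / cj R := by
  rw [S.org_eq hR, S.kp_zero hR, add_zero]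

end Setting

end CfsgLib.U3Odd
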