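/-
Associativity at a point: the inverse of the coordinate of a bottom row is multiplicatively affine on every line.
-/
import Cfsg.Agent.U3Odd.Kappa

set_option autoImplicit false
set_option linter.style.haveILetI false
set_option linter.unusedSectionVars false

namespace CfsgLib.U3Odd

open MulAction

variable {G Ω : Type*} [Group G] [MulAction G Ω] [Finite G] [Finite Ω] [FaithfulSMul G Ω] [IsSimpleGroup G]
  {p n d : ℕ} [Fact p.Prime]

namespace Setting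

variable (S : Setting G Ω p n d)
include S

local notation "F" => GaloisField p n
local notation "E" => GaloisField p (2 * n)

/-- The translate at the origin's mirror. -/
theorem sub_org {T R : E} (h : S.Adm T R) : T - 2 * S.org R = cj T * R / cj R := by
  have hR := cj_ne (S.adm_ne h).2
  rw [S.org_del (S.adm_ne h).2]
  rw [Adm] at h
  field_simp
  linear_combination h

/-- Associativity: moving the point along its line. -/
theorem move {T R : E} (h : S.Adm T R) : ∃ η ∈ S.H, ∀ c : F, c ≠ 0 → ∀ X : E,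
    X = -(cj T * R / cj R) * (T + S.emb c * R) / (S.emb c * T) →
      S.Adm (-(cj T * R / cj R) / cj (S.nu η)) (S.nu η * X) ∧
        S.uu R (-(T + S.emb c * R)) = S.uu R (-T) * S.uu (-(cj T * R / cj R) / cj (S.nu η)) (S.nu η * X) := by
  obtain ⟨η₀, hη₀, e⟩ := S.nw_uu h
  have hη : S.nw * η₀ * S.nw⁻¹ ∈ S.H := S.nw_conj_mem hη₀
  refine ⟨S.nw * η₀ * S.nw⁻¹, hη, fun c hc X hX => ?_⟩
  obtain ⟨hT0, hR0⟩ := S.adm_ne h
  have hce : S.emb c ≠ 0 := (map_ne_zero S.emb).2 hc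
  have hTc := cj_ne hT0
  have hRc := cj_ne hR0
  have hg := S.adm_g h
  have hz : -c⁻¹ ≠ 0 := neg_ne_zero.2 (inv_ne_zero hc)
  set Tm := T - 2 * S.org R with hTm
  set g := S.uu (S.gT T R) (-Tm) with hgdef
  have hTm' : Tm = cj T * R / cj R := S.sub_org h
  have hTm0 : Tm ≠ 0 := by rw [hTm']; exact div_ne_zero (mul_ne_zero hTc hR0) hRc
  have hgT : S.gT T R = Tm * R / T := by
    rw [gT, ← hTm, S.org_del hTm0, hTm', map_div₀, map_mul, cj_cj S.n_ne, cj_cj S.n_ne]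
    rw [Adm] at h
    field_simp
    linear_combination h
  set w := S.emb (-c⁻¹) with hw
  have hXeq : -(S.gT T R + w * -Tm) = X := by
    rw [hgT, hX, hw, map_neg, map_inv₀, hTm']
    field_simp
    ring
  have e1 : S.uu R (-(T + S.emb c * R)) • S.b = (S.nw * S.uu T R * S.nw * S.tr (-c⁻¹)) • S.b := by
    rw [S.uu_b (S.adm_nw (S.adm_tr c h)), mul_smul, mul_smul, mul_smul, show S.tr (-c⁻¹) • S.b = S.pb (-c⁻¹) from rfl,
      S.nw_action.2.2 _ hz, inv_neg, inv_inv, neg_neg, pb, ← mul_smul (S.uu T R),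
      S.U0_central (S.uu_mem T R) (S.tr_mem c), mul_smul, S.uu_b h, S.tr_pt c h, S.nw_pt (S.adm_tr c h)]
  have hq1 := S.adm_tr (-c⁻¹) hg
  have hq2 := S.adm_nw hq1
  rw [← hw, hXeq] at hq2
  obtain ⟨hq3, e3⟩ := S.H_pt hη hq2
  rw [← hTm']
  refine ⟨hq3, ?_⟩
  refine S.U_eq (S.uu_mem _ _) (mul_mem (S.uu_mem _ _) (S.uu_mem _ _)) ?_
  rw [e1, e, show S.uu R (-T) * S.nw * η₀ * g * S.tr (-c⁻¹) =
      S.uu R (-T) * ((S.nw * η₀ * S.nw⁻¹) * (S.nw * (g * S.tr (-c⁻¹)))) by group,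
    S.U0_central (S.uu_mem _ _) (S.tr_mem _), mul_smul (S.uu R (-T)), mul_smul (S.nw * η₀ * S.nw⁻¹),
    mul_smul S.nw (S.tr _ * _), mul_smul (S.tr _), S.uu_b hg, S.tr_pt _ hg,
    S.nw_pt hq1, ← hw, hXeq, e3, mul_smul, S.uu_b hq3]

theorem nu_emb {x : F} (hx : x ≠ 0) : S.emb x ^ Nat.card S.H = 1 := by
  letI := Fintype.ofFinite F
  have e := FiniteField.pow_card_sub_one_eq_one x hx
  rw [← Nat.card_eq_fintype_card, S.card_F] at e
  rw [← S.card_range_actU0, show Nat.card S.actU0.range = p ^ n - 1 by have := S.card_range; omega,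
    mul_comm (Nat.card S.K), pow_mul, ← map_pow, e, map_one, one_pow]

theorem nu_imag {x : E} (hx : x ≠ 0) (hcx : cj x = -x) : x ^ Nat.card S.H = 1 := by
  obtain ⟨m, hm⟩ : 2 ∣ Nat.card S.K := S.t_order ▸ Subgroup.orderOf_dvd_natCard S.K S.t_mem_K
  rw [← S.card_range_actU0, show Nat.card S.actU0.range = p ^ n - 1 by have := S.card_range; omega, hm,
    show 2 * m * (p ^ n - 1) = (p ^ n - 1) * 2 * m by ring, pow_mul, pow_mul]
  have h1 : x ^ (p ^ n - 1) = -1 := by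
    refine mul_right_cancel₀ hx ?_
    rw [← pow_succ, Nat.sub_add_cancel (Nat.one_le_pow _ _ S.prime.pos), ← cj_def, hcx, neg_one_mul]
  rw [h1, show ((-1 : E)) ^ 2 = 1 by ring, one_pow]

open Classical in
/-- The inverse multiplier of a scalar. -/
noncomputable def psi0 (z : GaloisField p (2 * n)) : GaloisField p (2 * n) :=
  if h : ∃ k ∈ S.H, S.nu k = z then (S.chi h.choose)⁻¹ else 0

theorem psi0_nu {h : G} (hh : h ∈ S.H) : S.psi0 (S.nu h) = (S.chi h)⁻¹ := by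
  have hex : ∃ k ∈ S.H, S.nu k = S.nu h := ⟨h, hh, rfl⟩
  rw [psi0, dif_pos hex, S.nu_inj hex.choose_spec.1 hh hex.choose_spec.2]

/-- The reciprocal coordinate of a row. -/
noncomputable def psi (R : GaloisField p (2 * n)) : GaloisField p (2 * n) := (S.phi R)⁻¹

theorem psi_ne {R : E} (hR : R ≠ 0) : S.psi R ≠ 0 := inv_ne_zero (S.phi_ne hR)

theorem psi_hom {z R : E} (hz : z ^ Nat.card S.H = 1) (hR : R ≠ 0) : S.psi (z * R) = S.psi0 z * S.psi R := by
  obtain ⟨h, hh, rfl⟩ := S.exists_nu_eq hz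
  rw [psi, psi, S.psi0_nu hh, S.phi_nu hh hR, mul_inv]

theorem psi0_mem {z : E} (hz : z ^ Nat.card S.H = 1) : S.psi0 z ^ Nat.card S.H = 1 := by
  obtain ⟨h, hh, rfl⟩ := S.exists_nu_eq hz
  rw [S.psi0_nu hh, inv_pow, inv_eq_one]
  have hpow : ∀ k : ℕ, S.chi (h ^ k) = S.chi h ^ k := fun k => by
    induction k with
    | zero => rw [pow_zero, pow_zero, S.chi_one]
    | succ k ih => rw [pow_succ, pow_succ, S.chi_mul (pow_mem hh k) hh, ih]
  rw [← hpow, show h ^ Nat.card S.H = 1 from congrArg Subtype.val (pow_card_eq_one' (x := (⟨h, hh⟩ : S.H))), S.chi_one]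

theorem psi0_mul {z w : E} (hz : z ^ Nat.card S.H = 1) (hw : w ^ Nat.card S.H = 1) :
    S.psi0 (z * w) = S.psi0 z * S.psi0 w := by
  obtain ⟨h, hh, rfl⟩ := S.exists_nu_eq hz
  obtain ⟨k, hk, rfl⟩ := S.exists_nu_eq hw
  rw [← S.nu_mul hh hk, S.psi0_nu (mul_mem hh hk), S.psi0_nu hh, S.psi0_nu hk, S.chi_mul hh hk, mul_inv]

theorem psi0_inj {z w : E} (hz : z ^ Nat.card S.H = 1) (hw : w ^ Nat.card S.H = 1) (e : S.psi0 z = S.psi0 w) :
    z = w := by
  obtain ⟨h, hh, rfl⟩ := S.exists_nu_eq hz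
  obtain ⟨k, hk, rfl⟩ := S.exists_nu_eq hw
  rw [S.psi0_nu hh, S.psi0_nu hk, inv_inj] at e
  have : h * k⁻¹ = 1 := S.chi_eq_one (mul_mem hh (inv_mem hk)) (by
    have h2 := S.chi_mul (mul_mem hh (inv_mem hk)) hk
    rw [inv_mul_cancel_right, e] at h2
    exact (right_eq_mul₀ (S.chi_ne hk)).1 h2)
  rw [mul_inv_eq_one.1 this]

/-- The line identity. -/
theorem psi_line {T : E} (hT : T ≠ 0) :
    ∃ K : E, ∀ x : E, x ≠ 0 → cj x = -x → S.psi (T * (1 + x)) = S.psi T * (1 + K * S.psi0 x) := by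
  have hTc := cj_ne hT
  obtain ⟨R, hR⟩ : ∃ R, R = -(S.del / cj T) := ⟨_, rfl⟩
  have hδ := S.del_ne
  have hR0 : R ≠ 0 := hR ▸ neg_ne_zero.2 (div_ne_zero S.del_ne hTc)
  have hRc : cj R = S.del / T := by rw [hR, map_neg, map_div₀, S.cj_del, cj_cj S.n_ne]; ring
  have h : S.Adm T R := by
    rw [Adm, hRc, hR]
    field_simp
    ring
  obtain ⟨η, hη, hmv⟩ := S.move h
  obtain ⟨y, hy⟩ : ∃ y, y = S.del / (R * cj R) := ⟨_, rfl⟩
  have hR0' := cj_ne hR0
  have hy0 : y ≠ 0 := hy ▸ div_ne_zero S.del_ne (mul_ne_zero hR0 (cj_ne hR0))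
  have hyc : cj y = -y := by
    rw [hy, map_div₀, S.cj_del, map_mul, cj_cj S.n_ne]; ring
  refine ⟨S.chi η * S.psi0 y, fun x hx hcx => ?_⟩
  obtain ⟨c, hc⟩ := exists_of_cj S.n_ne S.emb (x := x * y) (by rw [map_mul, hcx, hyc, neg_mul_neg])
  have hce : S.emb c ≠ 0 := by rw [hc]; exact mul_ne_zero hx hy0
  have hc0 : c ≠ 0 := (map_ne_zero S.emb).1 hce
  have hT' : T + S.emb c * R = T * (1 + x) := by
    have hDR : R * cj R * y = S.del := by rw [hy]; field_simp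
    rw [hRc] at hDR
    field_simp at hDR
    rw [hc]
    linear_combination x * hDR
  obtain ⟨hA, e⟩ := hmv c hc0 ((S.emb c)⁻¹ * (T * (1 + x))) (by
    rw [hT', hRc, hR]
    field_simp)
  have hb := congrArg S.beta e
  have hT'0 : T * (1 + x) ≠ 0 := by
    have := (S.adm_ne (S.adm_tr c h)).1
    rwa [hT'] at this
  rw [S.beta_mul (S.uu_mem _ _) (S.uu_mem _ _), S.beta_uu (S.adm_nw (S.adm_tr c h)), S.beta_uu (S.adm_nw h),
    S.beta_uu hA, hT', S.phi_neg hT'0, S.phi_neg hT] at hb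
  have hi : (S.emb c)⁻¹ ^ Nat.card S.H = 1 := by rw [inv_pow, S.nu_emb hc0, inv_one]
  rw [S.phi_nu hη (mul_ne_zero (inv_ne_zero hce) hT'0)] at hb
  have e2 : S.phi ((S.emb c)⁻¹ * (T * (1 + x))) = S.psi0 (S.emb c) * S.phi (T * (1 + x)) := by
    obtain ⟨k, hk, ek⟩ := S.exists_nu_eq hi
    rw [← ek, S.phi_nu hk hT'0, show S.emb c = (S.nu k)⁻¹ by rw [ek, inv_inv]]
    have hki : S.nu k⁻¹ = (S.nu k)⁻¹ := eq_inv_of_mul_eq_one_left (by
      rw [← S.nu_mul (inv_mem hk) hk, inv_mul_cancel, S.nu_one])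
    rw [← hki, S.psi0_nu (inv_mem hk), show S.chi k⁻¹ = (S.chi k)⁻¹ from eq_inv_of_mul_eq_one_left (by
      rw [← S.chi_mul (inv_mem hk) hk, inv_mul_cancel, S.chi_one]), inv_inv]
  rw [e2, hc, S.psi0_mul (S.nu_imag hx hcx) (S.nu_imag hy0 hyc)] at hb
  rw [psi, psi]
  have := S.phi_ne hT
  have := S.phi_ne hT'0
  field_simp
  linear_combination hb

end Setting

end CfsgLib.U3Odd
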