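/-
Semilinearity of the coordinate of rows determines the multiplication of `U`.
-/
import Cfsg.Agent.U3Odd.Equation

set_option autoImplicit false
set_option linter.style.haveILetI false
set_option linter.unusedSectionVars false

namespace CfsgLib.U3Odd

open MulAction

variable {G Ω : Type*} [Group G] [MulAction G Ω] [Finite G] [Finite Ω] [FaithfulSMul G Ω] [IsSimpleGroup G]
  {p n d : ℕ} [Fact p.Prime]

namespace Setting

variable (S : Setting G Ω p n d)
include S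

local notation "F" => GaloisField p n
local notation "E" => GaloisField p (2 * n)

theorem exists_lam : ∃ l : E, l ≠ 0 ∧ l * cj l = 2 * S.del * S.del := by
  obtain ⟨r, hr⟩ := exists_of_cj S.n_ne S.emb (x := 2 * S.del * S.del) (by
    rw [map_mul, map_mul, map_ofNat, S.cj_del]; ring)
  have hre : S.emb r ≠ 0 := by rw [hr]; exact mul_ne_zero (mul_ne_zero S.two_ne_E S.del_ne) S.del_ne
  have hr0 : r ≠ 0 := (map_ne_zero S.emb).1 hre
  obtain ⟨h, hh, he⟩ := S.exists_eps_eq (inv_ne_zero hr0)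
  refine ⟨S.nu h, S.nu_ne hh, ?_⟩
  have := S.eps_nu hh
  rw [he, map_inv₀, inv_mul_eq_one₀ hre] at this
  rw [← this, hr]

/-- A scalar of norm `2 δ ^ 2`. -/
noncomputable def lam : GaloisField p (2 * n) := S.exists_lam.choose

theorem lam_ne : S.lam ≠ 0 := S.exists_lam.choose_spec.1

theorem lam_norm : S.lam * cj S.lam = 2 * S.del * S.del := S.exists_lam.choose_spec.2

variable (τ : GaloisField p (2 * n) ≃+* GaloisField p (2 * n))

/-- The first coordinate. -/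
noncomputable def ac (u : G) : GaloisField p (2 * n) := S.lam * τ.symm (S.beta u * S.psi 1)

open Classical in
/-- The second coordinate. -/
noncomputable def bc (u : G) : GaloisField p (2 * n) :=
  if h : u ∈ S.U ∧ S.beta u ≠ 0 then
    S.del * cj ((S.exists_uu h.1 h.2).choose / (S.exists_uu h.1 h.2).choose_spec.choose)
  else S.del * S.emb (S.iota u)

theorem ac_mul {u v : G} (hu : u ∈ S.U) (hv : v ∈ S.U) : S.ac τ (u * v) = S.ac τ u + S.ac τ v := by
  rw [ac, ac, ac, S.beta_mul hu hv, add_mul, map_add, mul_add]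

theorem ac_eq_zero {u : G} (hu : u ∈ S.U) : S.ac τ u = 0 ↔ u ∈ S.U0 := by
  rw [ac, mul_eq_zero, or_iff_right S.lam_ne, map_eq_zero_iff _ τ.symm.injective, mul_eq_zero,
    or_iff_left (S.psi_ne one_ne_zero), S.beta_eq_zero hu]

theorem beta_ne_of_ac {u : G} (hu : u ∈ S.U) (h : S.ac τ u ≠ 0) : S.beta u ≠ 0 := fun e =>
  h ((S.ac_eq_zero τ hu).2 ((S.beta_eq_zero hu).1 e))

theorem ac_surj (x : E) : ∃ u ∈ S.U, S.ac τ u = x := by
  obtain ⟨u, hu, e⟩ := S.beta_surj (τ (x / S.lam) / S.psi 1)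
  exact ⟨u, hu, by rw [ac, e, div_mul_cancel₀ _ (S.psi_ne one_ne_zero), RingEquiv.symm_apply_apply,
    mul_div_cancel₀ _ S.lam_ne]⟩

theorem bc_uu {T R : E} (h : S.Adm T R) : S.bc (S.uu T R) = S.del * cj (T / R) := by
  have hex : S.uu T R ∈ S.U ∧ S.beta (S.uu T R) ≠ 0 := ⟨S.uu_mem T R, S.uu_beta_ne h⟩
  rw [bc, dif_pos hex]
  obtain ⟨h', e⟩ := (S.exists_uu hex.1 hex.2).choose_spec.choose_spec
  have := congrArg (fun g : G => g • S.b) e
  simp only [S.uu_b h, S.uu_b h'] at this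
  obtain ⟨e1, e2⟩ := S.pt_inj h' h this
  exact congrArg (fun z => S.del * cj z) (congrArg₂ (· / ·) e1 e2)

theorem bc_tr (s : F) : S.bc (S.tr s) = S.del * S.emb s := by
  rw [bc, dif_neg fun h => h.2 ((S.beta_eq_zero (S.tr_U s)).2 (S.tr_mem s)), S.iota_tr]

theorem bc_tr_mul (s : F) {u : G} (hu : u ∈ S.U) : S.bc (S.tr s * u) = S.del * S.emb s + S.bc u := by
  by_cases hb : S.beta u = 0
  · obtain ⟨t, rfl⟩ := S.exists_tr ((S.beta_eq_zero hu).1 hb)
    rw [← S.tr_add, S.bc_tr, S.bc_tr, map_add, mul_add]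
  · obtain ⟨T, R, h, rfl⟩ := S.exists_uu hu hb
    rw [← S.tr_uu s h, S.bc_uu (S.adm_tr s h), S.bc_uu h, add_div, mul_div_cancel_right₀ _ (S.adm_ne h).2, map_add,
      S.cj_emb']
    ring

theorem ac_tr (s : F) : S.ac τ (S.tr s) = 0 := (S.ac_eq_zero τ (S.tr_U s)).2 (S.tr_mem s)

theorem exists_tr_mul {u v : G} (hu : u ∈ S.U) (hv : v ∈ S.U) (h : S.ac τ u = S.ac τ v) :
    ∃ s, u = S.tr s * v := by
  have hm : u * v⁻¹ ∈ S.U0 := (S.ac_eq_zero τ (mul_mem hu (inv_mem hv))).1 (by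
    have := S.ac_mul τ (mul_mem hu (inv_mem hv)) hv
    rw [inv_mul_cancel_right, h, eq_comm, add_eq_right] at this
    exact this)
  obtain ⟨s, hs⟩ := S.exists_tr hm
  exact ⟨s, by rw [hs, inv_mul_cancel_right]⟩

/-- The obstruction to the model's multiplication. -/
noncomputable def obs (u v : G) : GaloisField p (2 * n) :=
  S.bc (u * v) - S.bc u - S.bc v + S.ac τ u * cj (S.ac τ v)

theorem obs_cocycle {u v w : G} (hu : u ∈ S.U) (hv : v ∈ S.U) (hw : w ∈ S.U) :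
    S.obs τ u v + S.obs τ (u * v) w = S.obs τ v w + S.obs τ u (v * w) := by
  simp only [obs, S.ac_mul τ hu hv, S.ac_mul τ hv hw, map_add, mul_assoc]
  ring

theorem obs_left {u v : G} (hu : u ∈ S.U) (hv : v ∈ S.U) (s : F) : S.obs τ (S.tr s * u) v = S.obs τ u v := by
  rw [obs, obs, mul_assoc, S.bc_tr_mul s (mul_mem hu hv), S.bc_tr_mul s hu, S.ac_mul τ (S.tr_U s) hu, S.ac_tr]
  ring

theorem obs_right {u v : G} (hu : u ∈ S.U) (hv : v ∈ S.U) (s : F) : S.obs τ u (S.tr s * v) = S.obs τ u v := by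
  rw [obs, obs, ← mul_assoc, S.U0_central hu (S.tr_mem s), mul_assoc, S.bc_tr_mul s (mul_mem hu hv),
    S.bc_tr_mul s hv, S.ac_mul τ (S.tr_U s) hv, S.ac_tr]
  ring

theorem obs_of_zero {u v : G} (hu : u ∈ S.U) (hv : v ∈ S.U) (h : S.ac τ u = 0 ∨ S.ac τ v = 0) :
    S.obs τ u v = 0 := by
  rcases h with h | h
  · obtain ⟨s, rfl⟩ := S.exists_tr ((S.ac_eq_zero τ hu).1 h)
    rw [obs, S.bc_tr_mul s hv, S.bc_tr, h]
    ring
  · obtain ⟨s, rfl⟩ := S.exists_tr ((S.ac_eq_zero τ hv).1 h)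
    rw [obs, S.U0_central hu (S.tr_mem s), S.bc_tr_mul s hu, S.bc_tr, h, map_zero]
    ring

variable (hτ : ∀ R : GaloisField p (2 * n), R ≠ 0 → S.psi R = S.psi 1 * τ R)
include hτ

theorem ac_uu {T R : E} (h : S.Adm T R) : S.ac τ (S.uu T R) = S.lam / R := by
  have hR := (S.adm_ne h).2
  have hp1 := S.psi_ne one_ne_zero
  have e : S.phi R = (S.psi 1 * τ R)⁻¹ := by rw [← hτ R hR, psi, inv_inv]
  rw [ac, S.beta_uu h, e, mul_inv, mul_comm (S.psi 1)⁻¹, mul_assoc, inv_mul_cancel₀ hp1, mul_one, ← map_inv₀,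
    RingEquiv.symm_apply_apply, div_eq_mul_inv]

theorem obs_gen {u v : G} (hu : u ∈ S.U) (hv : v ∈ S.U) (hau : S.ac τ u ≠ 0)
    (hind : ∀ s : F, S.ac τ v ≠ S.emb s * S.ac τ u) : S.obs τ u v = 0 := by
  have huv : S.ac τ (u * v) ≠ 0 := fun e => hind (-1) (by
    rw [S.ac_mul τ hu hv] at e; rw [map_neg, map_one]; linear_combination e)
  obtain ⟨T0, R0, h0, rfl⟩ := S.exists_uu hu (S.beta_ne_of_ac τ hu hau)
  obtain ⟨T1, R1, h1, e1⟩ := S.exists_uu (mul_mem hu hv) (S.beta_ne_of_ac τ (mul_mem hu hv) huv)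
  have hR0 := (S.adm_ne h0).2
  have hR1 := (S.adm_ne h1).2
  have hsum : S.lam / R1 = S.lam / R0 + S.ac τ v := by
    rw [← S.ac_uu τ hτ h1, e1, S.ac_mul τ (S.uu_mem _ _) hv, S.ac_uu τ hτ h0]
  obtain ⟨T, hT⟩ : ∃ T, T = -R0 := ⟨_, rfl⟩
  obtain ⟨D, hD⟩ : ∃ D, D = R0 - R1 := ⟨_, rfl⟩
  have hT0 : T ≠ 0 := hT ▸ neg_ne_zero.2 hR0
  have hTc := cj_ne hT0
  obtain ⟨c, hc⟩ := exists_of_cj S.n_ne S.emb (x := (T * cj D - cj T * D) / (2 * S.del)) (by
    rw [map_div₀, map_sub, map_mul, map_mul, map_mul, map_ofNat, cj_cj S.n_ne, cj_cj S.n_ne, S.cj_del, mul_neg,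
      div_neg, ← neg_div]
    congr 1
    ring)
  have hδ := S.del_ne
  have h2 := S.two_ne_E
  have hc0 : c ≠ 0 := fun e => by
    rw [e, map_zero] at hc
    have hc' : T * cj D - cj T * D = 0 := (div_eq_zero_iff.1 hc.symm).resolve_right (mul_ne_zero h2 hδ)
    obtain ⟨r, hr⟩ := exists_of_cj S.n_ne S.emb (x := R1 / R0) (by
      rw [hT, hD, map_neg, map_sub] at hc'
      rw [map_div₀]
      have := cj_ne hR0
      field_simp
      linear_combination hc')
    have hr' : S.emb r ≠ 0 := by rw [hr]; exact div_ne_zero hR1 hR0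
    refine hind (r⁻¹ - 1) ?_
    rw [S.ac_uu τ hτ h0, map_sub, map_one, map_inv₀, hr, inv_div, sub_mul, one_mul]
    have e : R0 / R1 * (S.lam / R0) = S.lam / R1 := by field_simp
    rw [e]
    linear_combination -hsum
  have hce : S.emb c ≠ 0 := (map_ne_zero S.emb).2 hc0
  obtain ⟨R, hR⟩ : ∃ R, R = D / S.emb c := ⟨_, rfl⟩
  have hA : S.Adm T R := by
    rw [Adm, hR, map_div₀, S.cj_emb']
    have hcc : S.emb c * (2 * S.del) = T * cj D - cj T * D := by rw [hc]; field_simp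
    field_simp
    linear_combination -hcc
  have hT' : T + S.emb c * R = -R1 := by rw [hR, mul_div_cancel₀ _ hce, hT, hD]; ring
  obtain ⟨η, hη, hmv⟩ := S.move hA
  obtain ⟨hA2, e2⟩ := hmv c hc0 _ rfl
  set X := -(cj T * R / cj R) * (T + S.emb c * R) / (S.emb c * T) with hX
  have hA0 := S.adm_nw hA
  have hA1 := S.adm_nw (S.adm_tr c hA)
  have hu0 : S.ac τ (S.uu T0 R0) = S.ac τ (S.uu R (-T)) := by
    rw [S.ac_uu τ hτ h0, S.ac_uu τ hτ hA0, hT, neg_neg]
  have hv0 : S.ac τ v = S.ac τ (S.uu (-(cj T * R / cj R) / cj (S.nu η)) (S.nu η * X)) := by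
    have := congrArg (S.ac τ) e2
    rw [S.ac_mul τ (S.uu_mem _ _) (S.uu_mem _ _), S.ac_uu τ hτ hA1, hT', neg_neg, S.ac_uu τ hτ hA0, hT, neg_neg,
      ← hT] at this
    linear_combination this - hsum
  obtain ⟨s, hs⟩ := S.exists_tr_mul τ (S.uu_mem T0 R0) (S.uu_mem _ _) hu0
  obtain ⟨s', rfl⟩ := S.exists_tr_mul τ hv (S.uu_mem _ _) hv0
  rw [hs, S.obs_left τ (S.uu_mem _ _) (mul_mem (S.tr_U s') (S.uu_mem _ _)),
    S.obs_right τ (S.uu_mem _ _) (S.uu_mem _ _), obs, ← e2, S.bc_uu hA1, S.bc_uu hA0, S.bc_uu hA2,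
    S.ac_uu τ hτ hA0, S.ac_uu τ hτ hA2]
  -- the identity
  have hR' := (S.adm_ne hA).2
  have hRc := cj_ne hR'
  have hν := S.nu_ne hη
  have hY := (S.adm_ne hA2).2
  have hT1 : T + S.emb c * R ≠ 0 := (S.adm_ne (S.adm_tr c hA)).1
  have hT1c := cj_ne hT1
  have hY1 : 1 / (S.nu η * X) = 1 / T - 1 / (T + S.emb c * R) := by
    have e3 := congrArg (S.ac τ) e2
    rw [S.ac_mul τ (S.uu_mem _ _) (S.uu_mem _ _), S.ac_uu τ hτ hA1, S.ac_uu τ hτ hA0, S.ac_uu τ hτ hA2] at e3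
    refine mul_left_cancel₀ S.lam_ne ?_
    rw [mul_one_div, mul_sub, mul_one_div, mul_one_div]
    rw [div_neg, div_neg] at e3
    linear_combination -e3
  have hY2 : 1 / (S.nu η * X) = S.emb c * R / (T * (T + S.emb c * R)) := by
    rw [hY1]; field_simp; ring
  have hY2c : 1 / (cj (S.nu η) * cj X) = S.emb c * cj R / (cj T * cj (T + S.emb c * R)) := by
    have := congrArg cj hY2
    simpa [S.cj_emb'] using this
  have hTv : cj (-(cj T * R / cj R) / cj (S.nu η) / (S.nu η * X)) =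
      cj (-(cj T * R / cj R)) * X * (1 / (S.nu η * X)) * (1 / (cj (S.nu η) * cj X)) := by
    have hX0 : X ≠ 0 := right_ne_zero_of_mul hY
    have := cj_ne hX0
    have := cj_ne hν
    rw [map_div₀, map_div₀, map_mul, cj_cj S.n_ne]
    field_simp
  rw [hTv, map_div₀ cj S.lam, map_mul cj (S.nu η), show cj S.lam / (cj (S.nu η) * cj X) =
    cj S.lam * (1 / (cj (S.nu η) * cj X)) by ring, hY2, hY2c, hX]
  rw [Adm] at hA
  simp only [map_div₀, map_mul, map_add, map_neg, cj_cj S.n_ne, S.cj_emb'] at hT1c ⊢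
  have hl := S.lam_norm
  have hW : cj R * S.emb c + cj T ≠ 0 := fun e => hT1c (by linear_combination e)
  have hW' : cj T + cj R * S.emb c ≠ 0 := fun e => hT1c (by linear_combination e)
  field_simp
  linear_combination (cj R * S.emb c) * (S.del * hA - hl)

theorem obs_zero {u v : G} (hu : u ∈ S.U) (hv : v ∈ S.U) : S.obs τ u v = 0 := by
  by_cases hau : S.ac τ u = 0
  · exact S.obs_of_zero τ hu hv (Or.inl hau)
  by_cases hav : S.ac τ v = 0
  · exact S.obs_of_zero τ hu hv (Or.inr hav)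
  by_cases hind : ∀ s : F, S.ac τ v ≠ S.emb s * S.ac τ u
  · exact S.obs_gen τ hτ hu hv hau hind
  push Not at hind
  obtain ⟨r, hr⟩ := hind
  have hr0 : S.emb r ≠ 0 := fun e => hav (by rw [hr, e, zero_mul])
  obtain ⟨w, hw, haw⟩ := S.ac_surj τ (S.om * S.ac τ u)
  have hne : ∀ s : F, S.om ≠ S.emb s := fun s e => S.om_ne (by rw [e, S.cj_emb'])
  have h1 : S.obs τ u (v * w) = 0 := S.obs_gen τ hτ hu (mul_mem hv hw) hau fun s e => hne (s - r) (by
    rw [S.ac_mul τ hv hw, hr, haw] at e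
    rw [map_sub]
    refine mul_right_cancel₀ hau ?_
    linear_combination e)
  have h2 : S.obs τ v w = 0 := S.obs_gen τ hτ hv hw hav fun s e => hne (s * r) (by
    rw [hr, haw, ← mul_assoc] at e
    rw [map_mul]
    exact mul_right_cancel₀ hau e)
  have h3 : S.obs τ (u * v) w = 0 := by
    by_cases h : S.ac τ (u * v) = 0
    · exact S.obs_of_zero τ (mul_mem hu hv) hw (Or.inl h)
    refine S.obs_gen τ hτ (mul_mem hu hv) hw h fun s e => hne (s * (1 + r)) ?_
    rw [S.ac_mul τ hu hv, hr, haw] at e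
    rw [map_mul, map_add, map_one]
    refine mul_right_cancel₀ hau ?_
    linear_combination e
  have := S.obs_cocycle τ hu hv hw
  linear_combination this - h3 + h1 + h2

/-- The multiplication of `U`. -/
theorem bc_mul {u v : G} (hu : u ∈ S.U) (hv : v ∈ S.U) :
    S.bc (u * v) = S.bc u + S.bc v - S.ac τ u * cj (S.ac τ v) := by
  have := S.obs_zero τ hτ hu hv
  rw [obs] at this
  linear_combination this

end Setting

end CfsgLib.U3Odd
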