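/-
The chart: `G` acts as `PSU₃(q)` on the isotropic points.
-/
import Cfsg.Agent.U3Odd.Law
import Cfsg.Agent.SU3Pres.Count

set_option autoImplicit false
set_option linter.style.haveILetI false
set_option linter.unusedSectionVars false

namespace CfsgLib.U3Odd

open MulAction CfsgLib.SU3Pres

variable {G Ω : Type*} [Group G] [MulAction G Ω] [Finite G] [Finite Ω] [FaithfulSMul G Ω] [IsSimpleGroup G]
  {p n d : ℕ} [Fact p.Prime]

namespace Setting

variable (S : Setting G Ω p n d)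
include S

local notation "F" => GaloisField p n
local notation "E" => GaloisField p (2 * n)

theorem card_E : Nat.card (GaloisField p (2 * n)) = (p ^ n) ^ 2 := by
  rw [GaloisField.card p _ (by have := S.n_pos; omega), ← pow_mul, mul_comm]

/-- The Weyl element adjusted to the model. -/
theorem exists_n1 : ∃ m : G, m • S.a = S.b ∧ m • S.b = S.a ∧
    (∀ s : GaloisField p n, s ≠ 0 → ∃ r, S.emb r = (S.emb s * S.del * S.del)⁻¹ ∧ m • S.pb s = S.pb r) ∧
    (∀ T R : GaloisField p (2 * n), S.Adm T R → S.Adm (R / S.del) (S.del * T) ∧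
      m • S.pt T R = S.pt (R / S.del) (S.del * T)) := by
  have hδ := S.del_ne
  obtain ⟨h, hh, he⟩ := S.exists_nu_eq (z := -S.del)
    (S.nu_imag (neg_ne_zero.2 hδ) (by rw [map_neg, S.cj_del]))
  refine ⟨h * S.nw, ?_, ?_, fun s hs => ?_, fun T R hA => ?_⟩
  · rw [mul_smul, S.nw_action.1, S.H_fix_b hh]
  · rw [mul_smul, S.nw_action.2.1, S.H_fix_a hh]
  · refine ⟨S.eps h * -s⁻¹, ?_, by rw [mul_smul, S.nw_action.2.2 s hs, S.H_pb hh]⟩
    have e := S.eps_nu hh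
    rw [he, map_neg, S.cj_del] at e
    rw [map_mul, map_neg, map_inv₀]
    have := (map_ne_zero S.emb).2 hs
    field_simp
    linear_combination e
  · obtain ⟨hA', e⟩ := S.H_pt hh (S.adm_nw hA)
    rw [he, map_neg, S.cj_del, neg_neg, neg_mul_neg] at hA' e
    exact ⟨hA', by rw [mul_smul, S.nw_pt hA, e]⟩

variable (τ : GaloisField p (2 * n) ≃+* GaloisField p (2 * n))
  (hτ : ∀ R : GaloisField p (2 * n), R ≠ 0 → S.psi R = S.psi 1 * τ R)
include hτ

theorem vld {u : G} (hu : u ∈ S.U) : Vld (p ^ n) (S.ac τ u) (S.bc u) := by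
  rw [Vld, ← cj_def, ← cj_def]
  by_cases hb : S.beta u = 0
  · obtain ⟨s, rfl⟩ := S.exists_tr ((S.beta_eq_zero hu).1 hb)
    rw [S.bc_tr, S.ac_tr, map_mul, S.cj_del, S.cj_emb']
    ring
  · obtain ⟨T, R, h, rfl⟩ := S.exists_uu hu hb
    obtain ⟨hT, hR⟩ := S.adm_ne h
    have hRc := cj_ne hR
    rw [S.bc_uu h, S.ac_uu τ hτ h, map_mul, S.cj_del, map_div₀, map_div₀, map_div₀, cj_cj S.n_ne, cj_cj S.n_ne]
    have hl := S.lam_norm
    rw [Adm] at h
    field_simp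
    linear_combination hl - S.del * h

theorem coord_eq {u v : G} (hu : u ∈ S.U) (hv : v ∈ S.U) (ha : S.ac τ u = S.ac τ v) (hb : S.bc u = S.bc v) :
    u = v := by
  obtain ⟨s, rfl⟩ := S.exists_tr_mul τ hu hv ha
  rw [S.bc_tr_mul s hv, add_eq_right, mul_eq_zero, or_iff_right S.del_ne, map_eq_zero] at hb
  rw [hb, S.tr_zero, one_mul]

theorem exists_coordEquiv : ∃ e : UP (GaloisField p (2 * n)) (p ^ n) ≃ S.U,
    ∀ z, S.ac τ (e z : G) = z.1.1 ∧ S.bc (e z : G) = z.1.2 := by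
  let f : S.U → UP E (p ^ n) := fun u => ⟨(S.ac τ (u : G), S.bc (u : G)), S.vld τ hτ u.2⟩
  have hf : Function.Injective f := fun u v e => Subtype.ext (S.coord_eq τ hτ u.2 v.2
    (congrArg (fun z : UP E (p ^ n) => z.1.1) e) (congrArg (fun z : UP E (p ^ n) => z.1.2) e))
  have hb : Function.Bijective f := (Nat.bijective_iff_injective_and_card f).2 ⟨hf, by
    rw [card_UP S.card_E, S.card_U, ← pow_mul, mul_comm]⟩
  refine ⟨(Equiv.ofBijective f hb).symm, fun z => ?_⟩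
  have h := (Equiv.ofBijective f hb).apply_symm_apply z
  exact ⟨congrArg (fun z : UP E (p ^ n) => z.1.1) h, congrArg (fun z : UP E (p ^ n) => z.1.2) h⟩

theorem closure_top {m : G} (hma : m • S.a = S.b) (hmb : m • S.b = S.a) :
    Subgroup.closure ((S.U : Set G) ∪ {m}) = ⊤ := by
  classical
  set T : Set G := (S.U : Set G) ∪ (fun u => m * u * m⁻¹) '' (S.U : Set G) with hT
  have hmH : ∀ h ∈ S.H, m⁻¹ * h * m ∈ S.H := fun h hh => (S.mem_H _).2
    ⟨by rw [mul_smul, mul_smul, hma, S.H_fix_b hh, ← hma, inv_smul_smul],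
     by rw [mul_smul, mul_smul, hmb, S.H_fix_a hh, ← hmb, inv_smul_smul]⟩
  have hm2 : m * m ∈ S.H := (S.mem_H _).2 ⟨by rw [mul_smul, hma, hmb], by rw [mul_smul, hmb, hma]⟩
  -- the generators normalise the subgroup generated by the two unipotent groups
  have hN : ∀ g : G, ∀ x ∈ Subgroup.closure T, g * x * g⁻¹ ∈ Subgroup.closure T := by
    have step : ∀ g : G, (∀ x ∈ T, g * x * g⁻¹ ∈ Subgroup.closure T) →
        ∀ x ∈ Subgroup.closure T, g * x * g⁻¹ ∈ Subgroup.closure T := fun g hg x hx => by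
      have : Subgroup.closure T ≤ (Subgroup.closure T).comap (MulAut.conj g).toMonoidHom :=
        (Subgroup.closure_le _).2 hg
      exact this hx
    have hUm : ∀ x ∈ S.U, m * x * m⁻¹ ∈ Subgroup.closure T := fun x hx =>
      Subgroup.subset_closure (Or.inr ⟨x, hx, rfl⟩)
    have hgenU : ∀ g ∈ S.U, ∀ x ∈ Subgroup.closure T, g * x * g⁻¹ ∈ Subgroup.closure T := fun g hg x hx =>
      mul_mem (mul_mem (Subgroup.subset_closure (Or.inl hg)) hx) (inv_mem (Subgroup.subset_closure (Or.inl hg)))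
    have hgenH : ∀ g ∈ S.H, ∀ x ∈ Subgroup.closure T, g * x * g⁻¹ ∈ Subgroup.closure T := fun g hg => step g (by
      rintro x (hx | ⟨v, hv, rfl⟩)
      · exact Subgroup.subset_closure (Or.inl (S.conj_U hg hx))
      · rw [show g * (m * v * m⁻¹) * g⁻¹ = m * ((m⁻¹ * g * m) * v * (m⁻¹ * g * m)⁻¹) * m⁻¹ by group]
        exact hUm _ (S.conj_U (hmH g hg) hv))
    have hgenm : ∀ x ∈ Subgroup.closure T, m * x * m⁻¹ ∈ Subgroup.closure T := step m (by
      rintro x (hx | ⟨v, hv, rfl⟩)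
      · exact hUm x hx
      · rw [show m * (m * v * m⁻¹) * m⁻¹ = (m * m) * v * (m * m)⁻¹ by group]
        exact Subgroup.subset_closure (Or.inl (S.conj_U hm2 hv)))
    have hB : ∀ g : G, g • S.a = S.a → ∀ x ∈ Subgroup.closure T, g * x * g⁻¹ ∈ Subgroup.closure T := by
      intro g hg x hx
      obtain ⟨u, hu, h, hh, rfl⟩ := S.exists_mul hg
      rw [show u * h * x * (u * h)⁻¹ = u * (h * x * h⁻¹) * u⁻¹ by group]
      exact hgenU u hu _ (hgenH h hh x hx)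
    intro g x hx
    by_cases hg : g • S.a = S.a
    · exact hB g hg x hx
    obtain ⟨u, hu, e⟩ := S.U_trans _ hg
    have h1 := hB ((u * m)⁻¹ * g) (by rw [mul_smul, inv_smul_eq_iff, mul_smul, hma, e]) x hx
    have h2 := hgenU u hu _ (hgenm _ h1)
    rwa [show u * (m * ((u * m)⁻¹ * g * x * ((u * m)⁻¹ * g)⁻¹) * m⁻¹) * u⁻¹ = g * x * g⁻¹ by group] at h2
  haveI : (Subgroup.closure T).Normal := ⟨fun x hx g => hN g x hx⟩
  have htop : Subgroup.closure T = ⊤ := (IsSimpleGroup.eq_bot_or_eq_top_of_normal _ inferInstance).resolve_left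
    fun e => by
      have h1 : S.tr 1 ∈ Subgroup.closure T := Subgroup.subset_closure (Or.inl (S.tr_U 1))
      rw [e, Subgroup.mem_bot] at h1
      exact one_ne_zero (S.tr_inj (h1.trans S.tr_zero.symm))
  rw [← top_le_iff, ← htop, Subgroup.closure_le]
  rintro x (hx | ⟨v, hv, rfl⟩)
  · exact Subgroup.subset_closure (Or.inl hx)
  · exact mul_mem (mul_mem (Subgroup.subset_closure (Or.inr rfl)) (Subgroup.subset_closure (Or.inl hv)))
      (inv_mem (Subgroup.subset_closure (Or.inr rfl)))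

/-- The chart. -/
theorem exists_chart : ∃ (pt : Option (UP (GaloisField p (2 * n)) (p ^ n)) ≃ Ω) (m : G),
    Subgroup.closure ((S.U : Set G) ∪ {m}) = ⊤ ∧
    (∀ u ∈ S.U, u • pt none = pt none) ∧
    (∀ u ∈ S.U, ∃ z : UP (GaloisField p (2 * n)) (p ^ n), ∀ w : UP (GaloisField p (2 * n)) (p ^ n),
      u • pt (some w) = pt (some ⟨(z.1.1 + w.1.1, z.1.2 + w.1.2 - z.1.1 * w.1.1 ^ (p ^ n)),
        vld_mul S.card_E z.2 w.2⟩)) ∧
    (∀ z : UP (GaloisField p (2 * n)) (p ^ n), ∃ u ∈ S.U, ∀ w : UP (GaloisField p (2 * n)) (p ^ n),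
      u • pt (some w) = pt (some ⟨(z.1.1 + w.1.1, z.1.2 + w.1.2 - z.1.1 * w.1.1 ^ (p ^ n)),
        vld_mul S.card_E z.2 w.2⟩)) ∧
    m • pt none = pt (some ⟨(0, 0), vld_zero S.card_E⟩) ∧
    m • pt (some ⟨(0, 0), vld_zero S.card_E⟩) = pt none ∧
    ∀ w : UP (GaloisField p (2 * n)) (p ^ n), w.1.2 ≠ 0 → ∃ w' : UP (GaloisField p (2 * n)) (p ^ n),
      w'.1 = (-w.1.1 / w.1.2 ^ (p ^ n), w.1.2⁻¹) ∧ m • pt (some w) = pt (some w') := by
  classical
  obtain ⟨e, he⟩ := S.exists_coordEquiv τ hτ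
  obtain ⟨m, hma, hmb, hmpb, hmpt⟩ := S.exists_n1
  let eU : S.U ≃ {x : Ω // x ≠ S.a} := Equiv.ofBijective (fun u => ⟨(u : G) • S.b, S.U_ne_a u.2⟩)
    ⟨fun u v h => Subtype.ext (S.U_eq u.2 v.2 (congrArg Subtype.val h)), fun x => by
      obtain ⟨u, hu, h⟩ := S.U_trans x x.2
      exact ⟨⟨u, hu⟩, Subtype.ext h⟩⟩
  let P : Option (UP E (p ^ n)) ≃ Ω := (Equiv.optionCongr (e.trans eU)).trans (Equiv.optionSubtypeNe S.a)
  have hnone : P none = S.a := rfl
  have hsome : ∀ w, P (some w) = (e w : G) • S.b := fun w => rfl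
  have hact : ∀ u, u ∈ S.U → ∀ z w, (e z : G) = u → ∀ h, u • P (some w) = P (some ⟨(z.1.1 + w.1.1,
      z.1.2 + w.1.2 - z.1.1 * w.1.1 ^ (p ^ n)), h⟩) := by
    intro u hu z w hz hv
    rw [hsome, hsome, ← mul_smul]
    congr 1
    refine S.coord_eq τ hτ (mul_mem hu (e w).2) (e _).2 ?_ ?_
    · rw [(he _).1, S.ac_mul τ hu (e w).2, (he w).1, ← hz, (he z).1]
    · rw [(he _).2, S.bc_mul τ hτ hu (e w).2, (he w).1, (he w).2, ← hz, (he z).1, (he z).2, cj_def]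
  have h0 : (e ⟨(0, 0), vld_zero S.card_E⟩ : G) = 1 := S.coord_eq τ hτ (e _).2 (one_mem _)
    (by rw [(he _).1, ← S.tr_zero, S.ac_tr]) (by rw [(he _).2, ← S.tr_zero, S.bc_tr, map_zero, mul_zero])
  refine ⟨P, m, S.closure_top τ hτ hma hmb, fun u hu => by rw [hnone, S.U_fix u hu],
    fun u hu => ⟨e.symm ⟨u, hu⟩, fun w => hact u hu _ w (by rw [Equiv.apply_symm_apply]) _⟩,
    fun z => ⟨e z, (e z).2, fun w => hact _ (e z).2 z w rfl _⟩, ?_, ?_, fun w hw => ?_⟩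
  · rw [hnone, hma, hsome, h0, one_smul]
  · rw [hnone, hsome, h0, one_smul, hmb]
  have hwU := (e w).2
  obtain ⟨ha, hb⟩ := he w
  have finish : ∀ v : G, v ∈ S.U → S.ac τ v = -w.1.1 / w.1.2 ^ (p ^ n) → S.bc v = w.1.2⁻¹ →
      m • ((e w : G) • S.b) = v • S.b →
      ∃ w' : UP E (p ^ n), w'.1 = (-w.1.1 / w.1.2 ^ (p ^ n), w.1.2⁻¹) ∧ m • P (some w) = P (some w') := by
    intro v hv h1 h2 h3
    refine ⟨⟨(S.ac τ v, S.bc v), S.vld τ hτ hv⟩, by rw [← h1, ← h2], ?_⟩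
    rw [hsome, hsome, h3]
    congr 1
    exact S.coord_eq τ hτ hv (e _).2 (he ⟨(S.ac τ v, S.bc v), S.vld τ hτ hv⟩).1.symm
      (he ⟨(S.ac τ v, S.bc v), S.vld τ hτ hv⟩).2.symm
  by_cases hbz : S.beta (e w : G) = 0
  · obtain ⟨s, hs⟩ := S.exists_tr ((S.beta_eq_zero hwU).1 hbz)
    rw [← hs, S.ac_tr] at ha
    rw [← hs, S.bc_tr] at hb
    have hse : S.emb s ≠ 0 := right_ne_zero_of_mul (hb ▸ hw)
    have hs0 : s ≠ 0 := (map_ne_zero S.emb).1 hse
    obtain ⟨r, hr, hm⟩ := hmpb s hs0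
    refine finish (S.tr r) (S.tr_U _) ?_ ?_ (by rw [← hs]; exact hm)
    · rw [S.ac_tr, ← ha, neg_zero, zero_div]
    · rw [S.bc_tr, hr, ← hb]
      have := S.del_ne
      field_simp
  · obtain ⟨T, R, h, hu⟩ := S.exists_uu hwU hbz
    rw [← hu, S.ac_uu τ hτ h] at ha
    rw [← hu, S.bc_uu h] at hb
    obtain ⟨hA, hm⟩ := hmpt T R h
    obtain ⟨hT, hR⟩ := S.adm_ne h
    have hδ := S.del_ne
    have hRc := cj_ne hR
    have hTc := cj_ne hT
    refine finish (S.uu (R / S.del) (S.del * T)) (S.uu_mem _ _) ?_ ?_ (by rw [← hu, S.uu_b h, hm, ← S.uu_b hA])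
    · rw [S.ac_uu τ hτ hA, ← ha, ← hb, ← cj_def, map_mul, S.cj_del, cj_cj S.n_ne]
      field_simp
    · rw [S.bc_uu hA, ← hb, map_div₀, map_div₀, map_div₀, map_mul, S.cj_del]
      field_simp

end Setting

end CfsgLib.U3Odd
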