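/-
The hypotheses of the semilinearity criterion hold for the reciprocal coordinate of rows.
-/
import Cfsg.Agent.U3Odd.Equation

set_option autoImplicit false
set_option linter.style.haveILetI false
set_option linter.unusedSectionVars false

namespace CfsgLib.U3Odd

open MulAction

variable {G Ω : Type*} [Group G] [MulAction G Ω] [Finite G] [Finite Ω] [FaithfulSMul G Ω] [IsSimpleGroup G]
  {p n d : ℕ} [Fact p.Prime]

namespace Setting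

variable (S : Setting G Ω p n d)
include S

local notation "E" => GaloisField p (2 * n)

/-- Everything needed for semilinearity. -/
theorem semi_hyps : Odd (p ^ n) ∧ (d = 1 ∨ d = 3 ∧ 3 ∣ p ^ n + 1) ∧
    (∀ z : E, z ≠ 0 → S.psi z ≠ 0) ∧
    (∀ ν : E, ν ^ (((p ^ n) ^ 2 - 1) / d) = 1 → S.psi0 ν ^ (((p ^ n) ^ 2 - 1) / d) = 1) ∧
    (∀ μ ν : E, μ ^ (((p ^ n) ^ 2 - 1) / d) = 1 → ν ^ (((p ^ n) ^ 2 - 1) / d) = 1 →
      S.psi0 (μ * ν) = S.psi0 μ * S.psi0 ν) ∧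
    (∀ μ ν : E, μ ^ (((p ^ n) ^ 2 - 1) / d) = 1 → ν ^ (((p ^ n) ^ 2 - 1) / d) = 1 →
      S.psi0 μ = S.psi0 ν → μ = ν) ∧
    (∀ ν z : E, ν ^ (((p ^ n) ^ 2 - 1) / d) = 1 → z ≠ 0 → S.psi (ν * z) = S.psi0 ν * S.psi z) ∧
    ∀ R : E, R ≠ 0 → ∃ K : E, ∀ x, x ≠ 0 → x ^ p ^ n = -x → S.psi (R * (1 + x)) = S.psi R * (1 + K * S.psi0 x) := by
  have hN : ((p ^ n) ^ 2 - 1) / d = Nat.card S.H := by rw [S.card_H_eq, ← pow_mul, mul_comm n 2]
  rw [hN]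
  refine ⟨(S.prime.odd_of_ne_two S.p_ne).pow, S.d_cases, fun z hz => S.psi_ne hz, fun _ h => S.psi0_mem h,
    fun _ _ h h' => S.psi0_mul h h', fun _ _ h h' e => S.psi0_inj h h' e, fun _ _ h hz => S.psi_hom h hz,
    fun R hR => ?_⟩
  obtain ⟨K, hK⟩ := S.psi_line hR
  exact ⟨K, fun x hx hq => hK x hx (by rw [cj_def, hq])⟩

end Setting

end CfsgLib.U3Odd
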