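/-
A map of `E = 𝔽_{q²}` commuting with an index `d` multiplicative subgroup and affine on the lines `R (1 + x)`, `x`
imaginary, is semilinear.
-/
import Cfsg.Agent.SU3Pres.Model

set_option autoImplicit false
set_option linter.style.haveILetI false
set_option linter.unusedSectionVars false

namespace CfsgLib.U3Odd

open CfsgLib.Forms

theorem exists_ringEquiv {E : Type*} [Field E] [Fintype E] {q d : ℕ} (hE : Fintype.card E = q ^ 2) (hq : Odd q)
    (hd : d = 1 ∨ d = 3 ∧ 3 ∣ q + 1) (ψ ψ₀ : E → E) (hψ : ∀ z, z ≠ 0 → ψ z ≠ 0)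
    (h0mem : ∀ ν, ν ^ ((q ^ 2 - 1) / d) = 1 → ψ₀ ν ^ ((q ^ 2 - 1) / d) = 1)
    (h0mul : ∀ μ ν, μ ^ ((q ^ 2 - 1) / d) = 1 → ν ^ ((q ^ 2 - 1) / d) = 1 → ψ₀ (μ * ν) = ψ₀ μ * ψ₀ ν)
    (h0inj : ∀ μ ν, μ ^ ((q ^ 2 - 1) / d) = 1 → ν ^ ((q ^ 2 - 1) / d) = 1 → ψ₀ μ = ψ₀ ν → μ = ν)
    (hom : ∀ ν z, ν ^ ((q ^ 2 - 1) / d) = 1 → z ≠ 0 → ψ (ν * z) = ψ₀ ν * ψ z)
    (hline : ∀ R, R ≠ 0 → ∃ K : E, ∀ x, x ≠ 0 → x ^ q = -x → ψ (R * (1 + x)) = ψ R * (1 + K * ψ₀ x)) :
    ∃ σ : E ≃+* E, ∀ z, z ≠ 0 → ψ z = ψ 1 * σ z := by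
  classical
  have hF : Nat.card E = q ^ 2 := by rw [Nat.card_eq_fintype_card, hE]
  have hq1 : 1 ≤ q := hq.pos
  have h2 : (2 : E) ≠ 0 := by
    intro h
    haveI : CharP E 2 := CharTwo.of_one_ne_zero_of_two_eq_zero one_ne_zero h
    obtain ⟨k, -, hk⟩ := FiniteField.card E 2
    have : Odd (q ^ 2) := hq.pow
    rw [← hE, hk, Nat.odd_pow_iff k.pos.ne'] at this
    exact absurd this (by decide)
  -- the real and the imaginary elements lie in the subgroup
  have hS : ∀ z : E, z ≠ 0 → z ^ q = z ∨ z ^ q = -z → z ^ ((q ^ 2 - 1) / d) = 1 := by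
    intro z hz h
    have hzq : z ^ (q - 1) = 1 ∨ z ^ (q - 1) = -1 := by
      have e : z ^ q = z ^ (q - 1) * z := by rw [← pow_succ, Nat.sub_add_cancel hq1]
      rcases h with h | h
      · exact Or.inl (mul_right_cancel₀ hz (by rw [one_mul, ← e, h]))
      · exact Or.inr (mul_right_cancel₀ hz (by rw [neg_one_mul, ← e, h]))
    have hsq : q ^ 2 - 1 = (q - 1) * (q + 1) := by
      rw [mul_comm, ← Nat.sq_sub_sq, one_pow]
    obtain ⟨r, hr, hre⟩ : ∃ r, (q ^ 2 - 1) / d = (q - 1) * r ∧ Even r := by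
      rcases hd with rfl | ⟨rfl, r, hr⟩
      · exact ⟨q + 1, by rw [Nat.div_one, hsq], hq.add_one⟩
      · refine ⟨r, by rw [hsq, hr, mul_left_comm, Nat.mul_div_cancel_left _ (by norm_num)], ?_⟩
        have h3 : Even (3 * r) := hr ▸ hq.add_one
        exact (Nat.even_mul.1 h3).resolve_left (by decide)
    rw [hr, pow_mul]
    rcases hzq with e | e <;> rw [e]
    · exact one_pow r
    · exact hre.neg_one_pow
  have h01 : ψ₀ 1 = 1 := by
    have h := h0mul 1 1 (one_pow _) (one_pow _)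
    rw [one_mul] at h
    have hm : (q ^ 2 - 1) / d ≠ 0 := by
      intro h0
      have h3 : 3 ≤ q := by
        obtain ⟨k, hk⟩ := hq
        have := Fintype.one_lt_card (α := E)
        rcases Nat.eq_zero_or_pos k with rfl | hk0
        · rw [hk] at hE; omega
        · omega
      have h9 : 3 ^ 2 ≤ q ^ 2 := Nat.pow_le_pow_left h3 2
      rcases hd with rfl | ⟨rfl, -⟩ <;> omega
    have hne : ψ₀ 1 ≠ 0 := fun e => by
      have := h0mem 1 (one_pow _)
      rw [e, zero_pow hm] at this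
      exact zero_ne_one this
    exact (mul_eq_left₀ hne).1 h.symm
  have hp1 := hψ 1 one_ne_zero
  let φ : E → E := fun z => if z = 0 then 0 else ψ z / ψ 1
  have hφ : ∀ z, z ≠ 0 → φ z = ψ z / ψ 1 := fun z hz => if_neg hz
  have hφ0 : φ 0 = 0 := if_pos rfl
  have hφ1 : φ 1 = 1 := by rw [hφ 1 one_ne_zero, div_self hp1]
  have hφS : ∀ ν z, ν ≠ 0 → (ν ^ q = ν ∨ ν ^ q = -ν) → z ≠ 0 → φ (ν * z) = ψ₀ ν * φ z := fun ν z hν h hz => by
    rw [hφ _ (mul_ne_zero hν hz), hφ z hz, hom ν z (hS ν hν h) hz, mul_div_assoc]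
  have hφν : ∀ ν, ν ≠ 0 → (ν ^ q = ν ∨ ν ^ q = -ν) → φ ν = ψ₀ ν := fun ν hν h => by
    have := hφS ν 1 hν h one_ne_zero
    rwa [mul_one, hφ1, mul_one] at this
  have hneg : ∀ x : E, (-x) ^ q = -(x ^ q) := fun x => CfsgLib.SU3Pres.qneg hF x
  -- the slope is one
  have hK : ∀ R, R ≠ 0 → ∀ x, x ≠ 0 → x ^ q = -x → φ (R * (1 + x)) = φ R * (1 + φ x) := by
    intro R hR x hx hxq
    obtain ⟨K, hK⟩ := hline R hR
    have h1x : 1 + x ≠ 0 := fun h => by
      have e : x = -1 := by linear_combination h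
      rw [e, hneg, one_pow, neg_neg] at hxq
      exact h2 (by linear_combination -hxq)
    have hxi : x⁻¹ ^ q = -x⁻¹ := by rw [inv_pow, hxq, inv_neg]
    have hmS := hS x hx (Or.inr hxq)
    have hiS := hS x⁻¹ (inv_ne_zero hx) (Or.inr hxi)
    have h1xi : 1 + x⁻¹ ≠ 0 := fun h => h1x (by linear_combination x * h - mul_inv_cancel₀ hx)
    have hprod : ψ₀ x * ψ₀ x⁻¹ = 1 := by rw [← h0mul _ _ hmS hiS, mul_inv_cancel₀ hx, h01]
    have e1 : ψ (R * (1 + x)) = ψ R * (ψ₀ x + K) := by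
      rw [show R * (1 + x) = x * (R * (1 + x⁻¹)) by linear_combination (-R) * mul_inv_cancel₀ hx,
        hom x _ hmS (mul_ne_zero hR h1xi), hK _ (inv_ne_zero hx) hxi]
      linear_combination (K * ψ R) * hprod
    have e2 := hK x hx hxq
    have hx1 : ψ₀ x ≠ 1 := fun e => by
      have := h0inj x 1 hmS (one_pow _) (e.trans h01.symm)
      rw [this, one_pow] at hxq
      exact h2 (by linear_combination hxq)
    have hK1 : K = 1 := by
      have h3 := mul_left_cancel₀ (hψ R hR) (e1.symm.trans e2)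
      by_contra hne
      refine hx1 (mul_left_cancel₀ (sub_ne_zero.2 (Ne.symm hne)) ?_)
      linear_combination h3
    rw [hφ _ (mul_ne_zero hR h1x), hφ R hR, hφν x hx (Or.inr hxq), e2, hK1, one_mul, div_mul_eq_mul_div]
  have h1add : ∀ x, x ^ q = -x → φ (1 + x) = 1 + φ x := by
    intro x hxq
    rcases eq_or_ne x 0 with rfl | hx
    · rw [add_zero, hφ1, hφ0, add_zero]
    have := hK 1 one_ne_zero x hx hxq
    rwa [one_mul, hφ1, one_mul] at this
  -- real and imaginary parts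
  have hparts : ∀ z : E, ∃ r x : E, r ^ q = r ∧ x ^ q = -x ∧ z = r + x := fun z => by
    obtain ⟨t, ht⟩ : ∃ t : E, 2 * t = 1 := ⟨2⁻¹, mul_inv_cancel₀ h2⟩
    have ht' : t ^ q = t := by
      have e : (2 : E) * t ^ q = 1 := by
        rw [show (2 : E) * t ^ q = t ^ q + t ^ q by ring, ← add_pow_q hF, show t + t = 2 * t by ring, ht, one_pow]
      exact mul_left_cancel₀ h2 (e.trans ht.symm)
    refine ⟨t * (z + z ^ q), t * (z - z ^ q), ?_, ?_, by linear_combination -z * ht⟩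
    · rw [mul_pow, ht', add_pow_q hF, pow_q_q hF, add_comm]
    · rw [mul_pow, ht', CfsgLib.SU3Pres.qsub hF, pow_q_q hF]; ring
  -- multiplicativity
  have hmul : ∀ R z, φ (R * z) = φ R * φ z := by
    intro R z
    rcases eq_or_ne R 0 with rfl | hR
    · rw [zero_mul, hφ0, zero_mul]
    rcases eq_or_ne z 0 with rfl | hz
    · rw [mul_zero, hφ0, mul_zero]
    obtain ⟨r, x, hr, hx, rfl⟩ := hparts z
    rcases eq_or_ne r 0 with rfl | hr0
    · rw [zero_add] at hz ⊢
      rw [mul_comm R, hφS x R hz (Or.inr hx) hR, hφν x hz (Or.inr hx), mul_comm]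
    have hy : (x / r) ^ q = -(x / r) := by rw [div_pow, hx, hr, neg_div]
    have e : r + x = r * (1 + x / r) := by rw [mul_add, mul_one, mul_div_cancel₀ _ hr0]
    have h1y : 1 + x / r ≠ 0 := fun h => hz (by rw [e, h, mul_zero])
    rw [e, show R * (r * (1 + x / r)) = r * (R * (1 + x / r)) by ring,
      hφS r _ hr0 (Or.inl hr) (mul_ne_zero hR h1y), hφS r _ hr0 (Or.inl hr) h1y, h1add _ hy]
    rcases eq_or_ne (x / r) 0 with hy0 | hy0
    · rw [hy0, add_zero, mul_one, hφ0]; ring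
    · rw [hK R hR _ hy0 hy]; ring
  have hm1 : φ (-1) = -1 := by
    have hsq : φ (-1) * φ (-1) = 1 := by rw [← hmul, neg_mul_neg, one_mul, hφ1]
    refine (mul_self_eq_one_iff.1 hsq).resolve_left fun e => h2 ?_
    have hn1 : (-1 : E) ^ q = -1 := hq.neg_one_pow
    rw [hφν (-1) (neg_ne_zero.2 one_ne_zero) (Or.inl hn1)] at e
    have := h0inj (-1) 1 (hS _ (neg_ne_zero.2 one_ne_zero) (Or.inl hn1)) (one_pow _) (e.trans h01.symm)
    linear_combination -this
  have hφneg : ∀ z, φ (-z) = -φ z := fun z => by rw [← neg_one_mul, hmul, hm1, neg_one_mul]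
  have hrx : ∀ r x, r ^ q = r → x ^ q = -x → φ (r + x) = φ r + φ x := by
    intro r x hr hx
    rcases eq_or_ne r 0 with rfl | hr0
    · rw [zero_add, hφ0, zero_add]
    have hy : (x / r) ^ q = -(x / r) := by rw [div_pow, hx, hr, neg_div]
    rw [show r + x = r * (1 + x / r) by rw [mul_add, mul_one, mul_div_cancel₀ _ hr0], hmul, h1add _ hy, mul_add,
      mul_one, ← hmul, mul_div_cancel₀ _ hr0]
  -- additivity
  have hkey : ∀ x y, x ^ q = -x → y ^ q = -y →
      φ (1 + x * y) = 1 + φ (x * y) ∧ φ (x + y) = φ x + φ y := by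
    intro x y hx hy
    have hr : (1 + x * y) ^ q = 1 + x * y := by
      rw [add_pow_q hF, one_pow, mul_pow, hx, hy]; ring
    have hi : (x + y) ^ q = -(x + y) := by rw [add_pow_q hF, hx, hy]; ring
    have h1 : φ ((1 + x) * (1 + y)) = φ (1 + x * y) + φ (x + y) := by
      rw [← hrx _ _ hr hi]; congr 1; ring
    have h1' : φ ((1 + -x) * (1 + -y)) = φ (1 + x * y) - φ (x + y) := by
      rw [sub_eq_add_neg, ← hφneg, ← hrx _ _ hr (by rw [hneg, hi])]; congr 1; ring
    rw [hmul, h1add x hx, h1add y hy] at h1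
    rw [hmul, h1add (-x) (by rw [hneg, hx]), h1add (-y) (by rw [hneg, hy]), hφneg, hφneg] at h1'
    rw [hmul x y]
    exact ⟨mul_left_cancel₀ h2 (by linear_combination -h1 - h1'),
      mul_left_cancel₀ h2 (by linear_combination h1' - h1)⟩
  have hreal : ∀ r s, r ^ q = r → s ^ q = s → φ (r + s) = φ r + φ s := by
    intro r s hr hs
    rcases eq_or_ne r 0 with rfl | hr0
    · rw [zero_add, hφ0, zero_add]
    obtain ⟨c, hc0, hc⟩ := CfsgLib.Unitary.exists_skew hF
    have hcq : c ^ q = -c := by linear_combination hc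
    have hy : (s / r / c) ^ q = -(s / r / c) := by rw [div_pow, div_pow, hs, hr, hcq, div_neg]
    have h := (hkey c (s / r / c) hcq hy).1
    rw [mul_div_cancel₀ _ hc0] at h
    rw [show r + s = r * (1 + s / r) by rw [mul_add, mul_one, mul_div_cancel₀ _ hr0], hmul, h, mul_add, mul_one,
      ← hmul, mul_div_cancel₀ _ hr0]
  let f : E →+* E :=
    { toFun := φ
      map_one' := hφ1
      map_mul' := hmul
      map_zero' := hφ0
      map_add' := fun z w => by
        obtain ⟨r, x, hr, hx, rfl⟩ := hparts z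
        obtain ⟨r', x', hr', hx', rfl⟩ := hparts w
        rw [show r + x + (r' + x') = (r + r') + (x + x') by ring,
          hrx _ _ (by rw [add_pow_q hF, hr, hr']) (by rw [add_pow_q hF, hx, hx']; ring),
          hrx r x hr hx, hrx r' x' hr' hx', hreal r r' hr hr', (hkey x x' hx hx').2]
        ring }
  exact ⟨RingEquiv.ofBijective f (Finite.injective_iff_bijective.1 f.injective),
    fun z hz => by
      show ψ z = ψ 1 * φ z
      rw [hφ z hz, mul_div_cancel₀ _ hp1]⟩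

end CfsgLib.U3Odd
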