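/-
The coordinate of rows is semilinear, so the chart exists.
-/
import Cfsg.Agent.U3Odd.Semi
import Cfsg.Agent.U3Odd.Semilinear
import Cfsg.Agent.U3Odd.Chart

set_option autoImplicit false
set_option linter.style.haveILetI false
set_option linter.unusedSectionVars false

namespace CfsgLib.U3Odd

open MulAction

variable {G Ω : Type*} [Group G] [MulAction G Ω] [Finite G] [Finite Ω] [FaithfulSMul G Ω] [IsSimpleGroup G]
  {p n d : ℕ} [Fact p.Prime]

namespace Setting

variable (S : Setting G Ω p n d)
include S

/-- The semilinear map. -/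
theorem exists_tau : ∃ τ : GaloisField p (2 * n) ≃+* GaloisField p (2 * n),
    ∀ R : GaloisField p (2 * n), R ≠ 0 → S.psi R = S.psi 1 * τ R := by
  letI := Fintype.ofFinite (GaloisField p (2 * n))
  obtain ⟨h1, h2, h3, h4, h5, h6, h7, h8⟩ := S.semi_hyps
  exact exists_ringEquiv (q := p ^ n) (d := d) (by rw [← Nat.card_eq_fintype_card, S.card_E]) h1 h2 S.psi S.psi0 h3 h4
    h5 h6 h7 h8

end Setting

end CfsgLib.U3Odd
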